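import Cfsg.Agent.Fusion.RankThree.Basic
import Mathlib.RingTheory.IntegralDomain
import Mathlib.FieldTheory.Finite.Basic

/-!
Exponent arithmetic modulo a prime.
-/

set_option autoImplicit false

namespace CfsgLib.Fusion.RankThree

variable {p : ℕ} [hp : Fact p.Prime]

omit hp in
theorem zpow_congr {W : Type*} [Group W] {x : W} (hx : x ^ p = 1) {i j : ℤ} (h : (p : ℤ) ∣ i - j) :
    x ^ i = x ^ j := by
  obtain ⟨m, hm⟩ := h
  rw [show i = j + p * m by omega, zpow_add, zpow_mul, zpow_natCast, hx, one_zpow, mul_one]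

theorem solve_mod {a : ℤ} (ha : ¬ (p : ℤ) ∣ a) (b : ℤ) : ∃ k : ℤ, (p : ℤ) ∣ a * k - b := by
  obtain ⟨s, t, hst⟩ : ∃ s t : ℤ, s * a + t * p = 1 :=
    ((Nat.prime_iff_prime_int.1 hp.out).coprime_iff_not_dvd.2 ha).symm
  exact ⟨s * b, -(t * b), by linear_combination b * hst⟩

theorem eq_one_of_zpow {W : Type*} [Group W] {x : W} (hx : x ^ p = 1) {i : ℤ} (hi : ¬ (p : ℤ) ∣ i)
    (h : x ^ i = 1) : x = 1 := by
  obtain ⟨k, hk⟩ := solve_mod hi 1
  rw [← zpow_one x, ← zpow_congr hx hk, zpow_mul, h, one_zpow]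

/-- A generator of the units and its inverse, as integers. -/
theorem exists_torus (p : ℕ) [Fact p.Prime] (hp5 : 5 ≤ p) : ∃ μ ν : ℤ,
    (p : ℤ) ∣ μ * ν - 1 ∧ ¬ (p : ℤ) ∣ μ - 1 ∧ ¬ (p : ℤ) ∣ μ ^ 2 - 1 ∧ ¬ (p : ℤ) ∣ μ ^ 3 - 1 ∧
      ¬ (p : ℤ) ∣ μ ^ 5 - 1 ∧ ∃ k : ℕ, (p : ℤ) ∣ μ ^ k + 1 := by
  obtain ⟨g, hg⟩ := IsCyclic.exists_generator (α := (ZMod p)ˣ)
  have hord : orderOf g = p - 1 := by
    rw [orderOf_eq_card_of_forall_mem_zpowers hg, Nat.card_eq_fintype_card, ZMod.card_units]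
  refine ⟨((g : ZMod p).val : ℤ), (((g⁻¹ : (ZMod p)ˣ) : ZMod p).val : ℤ), ?_, ?_⟩
  · rw [← ZMod.intCast_zmod_eq_zero_iff_dvd]
    push_cast
    rw [ZMod.natCast_zmod_val, ZMod.natCast_zmod_val, mul_inv_cancel₀ g.ne_zero, sub_self]
  · have key : ∀ k : ℕ, (p : ℤ) ∣ ((g : ZMod p).val : ℤ) ^ k - 1 → p - 1 ∣ k := by
      intro k h
      rw [← ZMod.intCast_zmod_eq_zero_iff_dvd] at h
      push_cast at h
      rw [ZMod.natCast_zmod_val, sub_eq_zero, ← Units.val_pow_eq_pow_val, Units.val_eq_one] at h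
      exact hord ▸ orderOf_dvd_of_pow_eq_one h
    have hodd : Odd p := (Fact.out : p.Prime).odd_of_ne_two (by omega)
    refine ⟨fun h => ?_, fun h => ?_, fun h => ?_, fun h => ?_, (p - 1) / 2, ?_⟩
    · have := Nat.le_of_dvd one_pos (key 1 (by rwa [pow_one]))
      omega
    · have := Nat.le_of_dvd two_pos (key 2 h)
      omega
    · have := Nat.le_of_dvd (by norm_num) (key 3 h)
      omega
    · have hd := key 5 h
      have hle := Nat.le_of_dvd (by norm_num) hd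
      obtain ⟨m, hm⟩ := hodd
      have h6 : p = 5 := by omega
      rw [h6] at hd
      norm_num at hd
    · obtain ⟨m, hm⟩ := hodd
      have h2 : (g : ZMod p) ^ ((p - 1) / 2) * (g : ZMod p) ^ ((p - 1) / 2) = 1 := by
        rw [← pow_add, ← Units.val_pow_eq_pow_val, Units.val_eq_one, ← orderOf_dvd_iff_pow_eq_one,
          hord]
        exact ⟨1, by omega⟩
      have hne : (g : ZMod p) ^ ((p - 1) / 2) ≠ 1 := fun h => by
        rw [← Units.val_pow_eq_pow_val, Units.val_eq_one, ← orderOf_dvd_iff_pow_eq_one, hord] at h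
        have := Nat.le_of_dvd (by omega) h
        omega
      rw [← ZMod.intCast_zmod_eq_zero_iff_dvd]
      push_cast
      rw [ZMod.natCast_zmod_val, (mul_self_eq_one_iff.1 h2).resolve_left hne, neg_add_cancel]

end CfsgLib.Fusion.RankThree
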