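import Cfsg.Agent.Solvable.PGroupBasic
import Cfsg.Agent.ZJ.Replacement
import Cfsg.Prelude.Def_CaseTheorems

/-!
Small tools for `p`-groups of sectional rank at most three.
-/

set_option autoImplicit false

open Subgroup
open scoped commutatorElement

namespace CfsgLib.Fusion.RankThree

variable {G : Type*} [Group G] {p : ℕ} [hp : Fact p.Prime]

theorem pRankLE_of_equiv {H : Type*} [Group H] (e : G ≃* H) {k : ℕ} (h : Cfsg.PRankLE p k G) :
    Cfsg.PRankLE p k H := by
  intro A hA hexp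
  have hc : Nat.card (A.comap e.toMonoidHom) = Nat.card A :=
    Nat.card_congr (e.toEquiv.subtypeEquiv fun x => Iff.rfl)
  rw [← hc]
  refine h _ ⟨⟨fun a b => Subtype.ext (e.injective ?_)⟩⟩ fun a ha => e.injective ?_
  · simp only [Subgroup.coe_mul, map_mul]
    exact congrArg Subtype.val (hA.is_comm.comm (⟨e a, a.2⟩ : A) ⟨e b, b.2⟩)
  · rw [map_pow, map_one]
    exact hexp _ ha

theorem sectional_of_injective {H : Type*} [Group H] (f : H →* G) (hf : Function.Injective f)
    {k : ℕ} (h : Cfsg.SectionalPRankLE p k G) : Cfsg.SectionalPRankLE p k H := by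
  intro K N hN
  let e : K ≃* K.map f := K.equivMapOfInjective f hf
  haveI : (N.map e.toMonoidHom).Normal := hN.map e.toMonoidHom e.surjective
  exact pRankLE_of_equiv (QuotientGroup.congr N (N.map e.toMonoidHom) e rfl).symm
    (h (K.map f) (N.map e.toMonoidHom))

/-- Four elements spanning an elementary abelian section of order `p ^ 4`. -/
theorem rank_contra [Finite G] (hr : Cfsg.SectionalPRankLE p 3 G) (M : Subgroup G) [M.Normal]
    (a : Fin 4 → G) (hcomm : ∀ i j, ⁅a i, a j⁆ ∈ M) (hpow : ∀ i, a i ^ p ∈ M)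
    (hind : ∀ e : Fin 4 → ℤ, a 0 ^ e 0 * a 1 ^ e 1 * a 2 ^ e 2 * a 3 ^ e 3 ∈ M →
      ∀ i, (p : ℤ) ∣ e i) : False := by
  let π := QuotientGroup.mk' M
  have hrQ : Cfsg.PRankLE p 3 (G ⧸ M) := by
    refine pRankLE_of_equiv (QuotientGroup.congr (M.subgroupOf ⊤) M Subgroup.topEquiv ?_) (hr ⊤ _)
    ext x
    constructor
    · rintro ⟨y, hy, rfl⟩; exact hy
    · intro hx; exact ⟨⟨x, mem_top x⟩, hx, rfl⟩
  set A := closure (Set.range fun i => π (a i)) with hA
  have hgc : ∀ s ∈ Set.range (fun i => π (a i)), ∀ t ∈ Set.range (fun i => π (a i)), s * t = t * s := by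
    rintro _ ⟨i, rfl⟩ _ ⟨j, rfl⟩
    rw [← commutatorElement_eq_one_iff_mul_comm, ← map_commutatorElement]
    exact (QuotientGroup.eq_one_iff _).2 (hcomm i j)
  have hAc : IsMulCommutative A := ⟨⟨(closureCommGroupOfComm hgc).mul_comm⟩⟩
  have hAe : ∀ x ∈ A, x ^ p = 1 := by
    intro x hx
    induction hx using closure_induction with
    | mem x hx =>
      obtain ⟨i, rfl⟩ := hx
      rw [← map_pow]
      exact (QuotientGroup.eq_one_iff _).2 (hpow i)
    | one => exact one_pow p
    | mul x y hx hy ihx ihy =>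
      have hxy : Commute x y := congrArg Subtype.val (hAc.is_comm.comm (⟨x, hx⟩ : A) ⟨y, hy⟩)
      rw [hxy.mul_pow, ihx, ihy, mul_one]
    | inv x hx ihx => rw [inv_pow, ihx, inv_one]
  have hle := hrQ A hAc hAe
  have hmem : ∀ i, π (a i) ∈ A := fun i => subset_closure ⟨i, rfl⟩
  let f : (Fin 4 → Fin p) → A := fun e =>
    ⟨π (a 0) ^ (e 0).val * π (a 1) ^ (e 1).val * π (a 2) ^ (e 2).val * π (a 3) ^ (e 3).val,
      mul_mem (mul_mem (mul_mem (pow_mem (hmem 0) _) (pow_mem (hmem 1) _)) (pow_mem (hmem 2) _))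
        (pow_mem (hmem 3) _)⟩
  have hf : Function.Injective f := by
    intro e e' he
    letI : CommGroup A := { (inferInstance : Group A) with mul_comm := hAc.is_comm.comm }
    let b : Fin 4 → A := fun i => ⟨π (a i), hmem i⟩
    have he' : b 0 ^ (e 0).val * b 1 ^ (e 1).val * b 2 ^ (e 2).val * b 3 ^ (e 3).val =
        b 0 ^ (e' 0).val * b 1 ^ (e' 1).val * b 2 ^ (e' 2).val * b 3 ^ (e' 3).val :=
      Subtype.ext (congrArg Subtype.val he)
    let d : Fin 4 → ℤ := fun i => ((e i).val : ℤ) - ((e' i).val : ℤ)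
    have hd1 : b 0 ^ d 0 * b 1 ^ d 1 * b 2 ^ d 2 * b 3 ^ d 3 = 1 := by
      have hq : ∀ x y z w : A, x * y⁻¹ * (z * w⁻¹) = x * z * (y * w)⁻¹ := fun x y z w => by
        rw [mul_mul_mul_comm, mul_inv]
      simp only [d, zpow_sub, zpow_natCast]
      rw [hq, hq, hq, he', mul_inv_cancel]
    have hd := hind d ((QuotientGroup.eq_one_iff _).1 (by
      have := congrArg Subtype.val hd1
      simp only [Subgroup.coe_mul, SubgroupClass.coe_zpow, OneMemClass.coe_one, b, π] at this
      simpa only [QuotientGroup.mk_mul, QuotientGroup.mk_zpow, QuotientGroup.mk'_apply] using this))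
    funext i
    have h0 := Int.eq_zero_of_abs_lt_dvd (hd i) (by
      have := (e i).isLt; have := (e' i).isLt
      simp only [d]; rw [abs_lt]; omega)
    simp only [d] at h0
    exact Fin.ext (by omega)
  have h4 := Nat.card_le_card_of_injective f hf
  rw [Nat.card_fun, Nat.card_fin, Nat.card_fin] at h4
  have := (Nat.pow_le_pow_iff_right hp.out.one_lt).1 (h4.trans hle)
  omega

/-- An element whose image under an endomorphism is a product of two elements of other weights. -/
theorem weight_split {Q : Type*} [Group Q] (τ : Q →* Q) {r s t : Q} {i j k : ℤ}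
    (hst : Commute s t) (hr : r = s * t) (hτr : τ r = r ^ i) (hτs : τ s = s ^ j) (hτt : τ t = t ^ k)
    (hsp : s ^ p = 1) (htp : t ^ p = 1) (hij : ¬ (p : ℤ) ∣ i - j) (hik : ¬ (p : ℤ) ∣ i - k) :
    r = 1 := by
  have hpz : Prime (p : ℤ) := Nat.prime_iff_prime_int.1 hp.out
  have key : ∀ {x : Q}, x ^ p = 1 → ∀ {n : ℤ}, ¬ (p : ℤ) ∣ n → x ^ n = 1 → x = 1 := by
    intro x hx n hn hxn
    have h1 : (orderOf x : ℤ) ∣ (p : ℤ) := Int.natCast_dvd_natCast.2 (orderOf_dvd_of_pow_eq_one hx)
    have h2 := orderOf_dvd_iff_zpow_eq_one.2 hxn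
    rcases (Nat.dvd_prime hp.out).1 (Int.natCast_dvd_natCast.1 h1) with h | h
    · exact orderOf_eq_one_iff.1 h
    · exact absurd (h ▸ h2) hn
  have e1 : s ^ (i - j) * t ^ (i - k) = 1 := by
    have : (s * t) ^ i = s ^ j * t ^ k := by rw [← hr, ← hτr, hr, map_mul, hτs, hτt]
    rw [hst.mul_zpow] at this
    calc s ^ (i - j) * t ^ (i - k) = (s ^ j)⁻¹ * (s ^ i * t ^ i) * (t ^ k)⁻¹ := by
          rw [sub_eq_neg_add i j, sub_eq_add_neg i k, zpow_add, zpow_add, zpow_neg, zpow_neg]; group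
      _ = 1 := by rw [this]; group
  have e2 : s ^ (j * (i - j)) * t ^ (k * (i - k)) = 1 := by
    have := congrArg τ e1
    rwa [map_mul, map_zpow, map_zpow, map_one, hτs, hτt, ← zpow_mul, ← zpow_mul] at this
  by_cases hjk : (p : ℤ) ∣ j - k
  · obtain ⟨m, hm⟩ := hjk
    have hs : ∀ n : ℤ, s ^ (n + p * m) = s ^ n := fun n => by
      rw [zpow_add, zpow_mul, zpow_natCast, hsp, one_zpow, mul_one]
    refine key (by rw [hr, hst.mul_pow, hsp, htp, one_mul]) hik ?_
    rw [hr, hst.mul_zpow, show i - k = i - j + p * m by omega, hs,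
      ← show i - k = i - j + p * m by omega]
    exact e1
  have h1 : t ^ ((k - j) * (i - k)) = 1 := by
    have h := congrArg (· ^ j) e1
    simp only [(hst.zpow_zpow _ _).mul_zpow, one_zpow, ← zpow_mul] at h
    rw [mul_comm (i - j) j] at h
    calc t ^ ((k - j) * (i - k)) = (s ^ (j * (i - j)) * t ^ ((i - k) * j))⁻¹ *
          (s ^ (j * (i - j)) * t ^ (k * (i - k))) := by
            rw [show (k - j) * (i - k) = -((i - k) * j) + k * (i - k) by ring, zpow_add, zpow_neg]
            group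
      _ = 1 := by rw [h, e2, inv_one, one_mul]
  have ht1 : t = 1 := key htp (fun h => (hpz.dvd_or_dvd h).elim
    (fun h' => hjk (by rw [← neg_sub, dvd_neg]; exact h')) hik) h1
  rw [ht1, one_zpow, mul_one] at e1
  rw [hr, ht1, mul_one]
  exact key hsp hij e1

theorem eq_one_of_weights {Q : Type*} [Group Q] (τ : Q →* Q) {r : Q} {i j : ℤ}
    (hi : τ r = r ^ i) (hj : τ r = r ^ j) (hrp : r ^ p = 1) (hij : ¬ (p : ℤ) ∣ i - j) : r = 1 :=
  weight_split τ (p := p) (s := r) (t := 1) (k := j) (Commute.one_right r) (mul_one r).symm hi hj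
    (by rw [map_one, one_zpow]) hrp (one_pow p) hij hij

/-- A normal step of order `p` between two normal subgroups. -/
theorem exists_step [Finite G] (hG : IsPGroup p G) (N C : Subgroup G) [N.Normal] [C.Normal]
    (h : N < C) : ∃ y ∈ C, y ∉ N ∧ y ^ p ∈ N ∧ ∀ g : G, ⁅y, g⁆ ∈ N := by
  classical
  have := hG.isNilpotent
  obtain ⟨x, hxC, hxN, hx⟩ := CfsgLib.PGroupBasic.exists_central_mod N C h
  obtain ⟨k, hk⟩ := hG x
  have hex : ∃ k, x ^ p ^ k ∈ N := ⟨k, by rw [hk]; exact one_mem _⟩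
  have hne : Nat.find hex ≠ 0 := fun h0 => hxN (by
    have := Nat.find_spec hex
    rwa [h0, pow_zero, pow_one] at this)
  obtain ⟨m, hm⟩ := Nat.exists_eq_succ_of_ne_zero hne
  refine ⟨x ^ p ^ m, pow_mem hxC _, Nat.find_min hex (by omega), ?_, fun g => ?_⟩
  · rw [← pow_mul, ← pow_succ]
    have h := Nat.find_spec hex
    rw [hm] at h
    exact h
  · have hc : Commute (QuotientGroup.mk' N x) (QuotientGroup.mk' N g) := by
      rw [← commutatorElement_eq_one_iff_commute, ← map_commutatorElement]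
      exact (QuotientGroup.eq_one_iff _).2 (by rw [commutatorElement_def]; exact hx g)
    rw [← QuotientGroup.eq_one_iff, ← QuotientGroup.mk'_apply, map_commutatorElement,
      commutatorElement_eq_one_iff_commute, map_pow]
    exact hc.pow_left _

/-- Powers of products modulo a subgroup where the commutator is central of order `p`. -/
theorem mul_pow_mod (hp2 : p ≠ 2) (M : Subgroup G) [M.Normal] {x y : G} (hx : ⁅⁅y, x⁆, x⁆ ∈ M)
    (hy : ⁅⁅y, x⁆, y⁆ ∈ M) (hz : ⁅y, x⁆ ^ p ∈ M) :
    QuotientGroup.mk' M ((x * y) ^ p) = QuotientGroup.mk' M (x ^ p * y ^ p) := by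
  set π := QuotientGroup.mk' M
  have hk : ∀ {a : G}, a ∈ M → π a = 1 := fun ha => (QuotientGroup.eq_one_iff _).2 ha
  have e := CfsgLib.ZJ.mul_pow_of_central (x := π x) (y := π y) (z := ⁅π y, π x⁆)
    (by rw [commutatorElement_def]; group)
    (by rw [← map_commutatorElement, ← commutatorElement_eq_one_iff_commute, ← map_commutatorElement]
        exact hk hx)
    (by rw [← map_commutatorElement, ← commutatorElement_eq_one_iff_commute, ← map_commutatorElement]
        exact hk hy) p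
  obtain ⟨m, hm⟩ := hp.out.dvd_choose_self two_ne_zero
    (lt_of_le_of_ne hp.out.two_le (Ne.symm hp2))
  rw [hm, pow_mul, ← map_commutatorElement, ← map_pow, hk hz, one_pow, one_mul] at e
  simpa only [map_pow, map_mul] using e

end CfsgLib.Fusion.RankThree
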