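import Cfsg.Agent.Fusion.RankThree.NormFrame

/-!
The reducible case: nothing normalising the normaliser moves the essential subgroup.
-/

set_option autoImplicit false
set_option linter.unusedSectionVars false

open Cfsg Cfsg.FusionSystem Subgroup
open scoped commutatorElement Matrix

namespace CfsgLib.Fusion.RankThree

universe u

variable {Ω : Type u} [Group Ω] {S : Subgroup Ω} [Finite S] {p : ℕ} [hp : Fact p.Prime]
  {F : FusionSystem S}

/-- The reducible case admits no element moving the essential subgroup. -/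
theorem split_false (hS : IsPGroup p S) (hF : F.IsSaturated p) (hp5 : 5 ≤ p) {E : Subgroup Ω}
    (hE : F.IsEssential p E) (hidx : (frattini E).index = p ^ 3)
    (hsr : Cfsg.SectionalPRankLE p 3 S) (d : Split F p E) {g : Ω} (hgS : g ∈ S)
    (hgN : ∀ x ∈ normalizerIn S E, g * x * g⁻¹ ∈ normalizerIn S E)
    {e : Ω} (he : e ∈ E) (hge : g * e * g⁻¹ ∉ E) : False := by
  classical
  have hES := hE.1.1
  have hsrE : Cfsg.SectionalPRankLE p 3 E :=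
    sectional_of_injective (Subgroup.inclusion hES) (Subgroup.inclusion_injective hES) hsr
  obtain ⟨Fr, hFrn, X, A, Z, U, bar, τ, fr, hFrΦ, hbar, hEiff, hτ, hτX, hτA, hτZ, hτU⟩ :=
    norm_frame hS hF hp5 hE hidx hsrE d
  haveI := hFrn
  have hNS : (normalizerIn S E) ≤ S := normalizerIn_le_S E
  have hEN : E ≤ (normalizerIn S E) := le_normalizerIn hES
  have := finite_of_le hNS
  have : Finite (MulAut (normalizerIn S E)) := finite_mulAut
  have hNp := isPGroup_of_le hS hNS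
  set π := QuotientGroup.mk' Fr
  have hπs : ∀ q, ∃ g : (normalizerIn S E), π g = q := QuotientGroup.mk'_surjective Fr
  have hpz : Prime (p : ℤ) := Nat.prime_iff_prime_int.1 hp.out
  obtain ⟨μ, hμ⟩ : ∃ μ : ZMod p, μ = (d.μ : ZMod p) := ⟨_, rfl⟩
  obtain ⟨ν, hν⟩ : ∃ ν : ZMod p, ν = (d.ν : ZMod p) := ⟨_, rfl⟩
  have hμν : μ * ν = 1 := by
    rw [hμ, hν, ← sub_eq_zero, ← Int.cast_mul, ← Int.cast_one (R := ZMod p), ← Int.cast_sub,
      ZMod.intCast_zmod_eq_zero_iff_dvd]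
    exact d.μν
  have hμ0 : μ ≠ 0 := left_ne_zero_of_mul_eq_one hμν
  have hν0 : ν ≠ 0 := right_ne_zero_of_mul_eq_one hμν
  have hμ2ν : μ ^ 2 - ν ≠ 0 := fun h => d.μ3 (by
    rw [← ZMod.intCast_zmod_eq_zero_iff_dvd, Int.cast_sub, Int.cast_pow, Int.cast_one, ← hμ]
    linear_combination μ * h + hμν)
  have t00 : fr.mat (bar τ) 0 0 = μ ^ 2 ∧ fr.mat (bar τ) 0 1 = 0 ∧ fr.mat (bar τ) 1 0 = 0 ∧
      fr.mat (bar τ) 1 1 = ν := by simp [Frame.mat, hτX, hτA, hμ, hν]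
  have hpow : ∀ {α : MulAut (normalizerIn S E)}, (∃ k, α ^ p ^ k = 1) → ∃ k, bar α ^ p ^ k = 1 :=
    fun ⟨k, hk⟩ => ⟨k, by rw [← map_pow, hk, map_one]⟩
  -- the moving element
  have hgn : g ∈ normalizerIn S (normalizerIn S E) := ⟨hgS, mem_normalizer_of_conj_mem hNS hgN⟩
  obtain ⟨ψ₀, hψ₀A, hψ₀⟩ : ∃ ψ₀ : MulAut (normalizerIn S E), ψ₀ ∈ autInducedBy S (normalizerIn S E) ∧
      ∀ y : (normalizerIn S E), ((ψ₀ y : (normalizerIn S E)) : Ω) = g * y * g⁻¹ :=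
    ⟨conjAut S (normalizerIn S E) ⟨g, hgn⟩, mem_autInducedBy.2 ⟨g, hgS, fun _ => rfl⟩, fun _ => rfl⟩
  have hψ₀F : ψ₀ ∈ F.autGroup (normalizerIn S E) := autInducedBy_le_autGroup hNS hψ₀A
  have hψ₀p : ∃ k, ψ₀ ^ p ^ k = 1 :=
    ((isPGroup_autInducedBy hS (normalizerIn S E)) ⟨ψ₀, hψ₀A⟩).imp fun k hk => congrArg Subtype.val hk
  obtain ⟨k₀, hk₀⟩ := hpow hψ₀p
  obtain ⟨tr0, det0⟩ := fr.unipotent _ hk₀
  set f₀ := bar ψ₀
  obtain ⟨c, hc⟩ : ∃ c, c = fr.mat f₀ 1 0 := ⟨_, rfl⟩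
  have hc0 : c ≠ 0 := fun h => hge (by
    have h1 := (hEiff ⟨e, hEN he⟩).1 he
    have h2 := (fr.chi_apply f₀ (π ⟨e, hEN he⟩)).1
    rw [h1, ← hc, h, zero_mul, mul_zero, add_zero, hbar] at h2
    have h3 := (hEiff (ψ₀ ⟨e, hEN he⟩)).2 h2
    rwa [hψ₀] at h3)
  obtain ⟨ev, hev⟩ : ∃ ev, ev = fr.mat f₀ 1 1 - 1 := ⟨_, rfl⟩
  have hb : fr.mat f₀ 0 1 * c = -ev ^ 2 := by
    rw [hc, hev]; linear_combination (fr.mat f₀ 1 1 - 1) * tr0 - det0
  have hit : ∀ q : (normalizerIn S E) ⧸ Fr,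
      (fr.chi (f₀ q)).1 = (fr.chi q).1 + ((fr.chi q).2 * c - (fr.chi q).1 * ev) ∧
      ((fr.chi (f₀ q)).2 - (fr.chi q).2) * c = ((fr.chi q).2 * c - (fr.chi q).1 * ev) * ev := by
    intro q
    obtain ⟨h1, h2⟩ := fr.chi_apply f₀ q
    rw [h1, h2, ← hc]
    constructor
    · rw [hev]; linear_combination (fr.chi q).1 * tr0
    · rw [show fr.mat f₀ 1 1 = ev + 1 by rw [hev]; ring]
      linear_combination (fr.chi q).1 * hb
  -- a vector on the fixed line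
  obtain ⟨w, hw1, hw2⟩ : ∃ w, (fr.chi w).1 = c ∧ (fr.chi w).2 = ev := by
    refine ⟨X ^ (c.val : ℤ) * A ^ (ev.val : ℤ), ?_⟩
    rw [fr.chi_mul, fr.chi_zpow, fr.chi_zpow, fr.chi_X, fr.chi_A]
    haveI : NeZero p := ⟨hp.out.ne_zero⟩
    simp
  have hwfix : fr.chi (f₀ w) = fr.chi w := by
    obtain ⟨h1, h2⟩ := hit w
    rw [hw1, hw2] at h1 h2
    refine Prod.ext ?_ ?_
    · rw [h1, hw1]; ring
    · rw [hw2, ← sub_eq_zero]
      exact (mul_eq_zero.1 (h2.trans (by ring))).resolve_right hc0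
  -- move that line to the line of `X`
  obtain ⟨γ, hγ, r, hr0, hγw⟩ : ∃ γ ∈ F.autGroup (normalizerIn S E), ∃ r : ZMod p, r ≠ 0 ∧
      fr.chi (bar γ w) = (r, 0) := by
    by_cases hev0 : ev = 0
    · exact ⟨1, one_mem _, c, hc0, by rw [map_one]; exact Prod.ext hw1 (hw2.trans hev0)⟩
    obtain ⟨h1, h2⟩ := fr.chi_apply (bar τ) w
    rw [t00.1, t00.2.2.1, hw1, hw2, mul_zero, add_zero] at h1
    rw [t00.2.1, t00.2.2.2, hw1, hw2, mul_zero, zero_add] at h2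
    obtain ⟨v, hv⟩ : ∃ v, v = bar τ w := ⟨_, rfl⟩
    rw [← hv] at h1 h2
    have hn : ∀ n : ℕ, (fr.chi ((f₀ ^ n) v)).1 = c * μ ^ 2 + n * (ev * (ν - μ ^ 2) * c) ∧
        (fr.chi ((f₀ ^ n) v)).2 = ev * ν + n * (ev * (ν - μ ^ 2) * ev) := by
      intro n
      induction n with
      | zero => simp [h1, h2]
      | succ n ih =>
        obtain ⟨i1, i2⟩ := hit ((f₀ ^ n) v)
        rw [pow_succ', MulAut.mul_apply]
        rw [ih.1, ih.2] at i1 i2
        push_cast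
        constructor
        · rw [i1]; ring
        · refine mul_right_cancel₀ hc0 ?_
          linear_combination i2
    haveI : NeZero p := ⟨hp.out.ne_zero⟩
    obtain ⟨n, hn'⟩ : ∃ n : ℕ, (n : ZMod p) = ν / (ev * (μ ^ 2 - ν)) :=
      ⟨_, ZMod.natCast_zmod_val _⟩
    refine ⟨ψ₀ ^ n * τ, mul_mem (pow_mem hψ₀F n) hτ, c * (μ ^ 2 - ν), mul_ne_zero hc0 hμ2ν, ?_⟩
    rw [map_mul, map_pow, MulAut.mul_apply, ← hv]
    refine Prod.ext ?_ ?_
    · rw [(hn n).1, hn']; field_simp; ring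
    · rw [(hn n).2, hn']; field_simp; ring
  obtain ⟨ψ₁, hψ₁⟩ : ∃ ψ₁, ψ₁ = γ * ψ₀ * γ⁻¹ := ⟨_, rfl⟩
  have hψ₁F : ψ₁ ∈ F.autGroup (normalizerIn S E) := hψ₁ ▸ mul_mem (mul_mem hγ hψ₀F) (inv_mem hγ)
  have hψ₁p : ∃ k, ψ₁ ^ p ^ k = 1 := hψ₀p.imp fun k hk => by
    rw [hψ₁, conj_pow, hk, mul_one, mul_inv_cancel]
  obtain ⟨k₁, hk₁⟩ := hpow hψ₁p
  set f₁ := bar ψ₁ with hf₁
  have hf₁v : ∀ q, f₁ (bar γ q) = bar γ (f₀ q) := fun q => by
    rw [hf₁, hψ₁, map_mul, map_mul, map_inv, MulAut.mul_apply, MulAut.mul_apply, MulAut.inv_apply_self]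
  obtain ⟨c₁, hc₁0, huni₁, hc₁⟩ : ∃ c₁ : ZMod p, c₁ ≠ 0 ∧ fr.Uni f₁ ∧ fr.mat f₁ 1 0 = c₁ := by
    obtain ⟨h1, h2⟩ := fr.chi_apply f₁ (bar γ w)
    obtain ⟨g1, g2⟩ := fr.chi_apply (bar γ) (f₀ w)
    obtain ⟨g1', g2'⟩ := fr.chi_apply (bar γ) w
    rw [hwfix] at g1 g2
    rw [hf₁v, g1, ← g1', hγw] at h1
    rw [hf₁v, g2, ← g2', hγw] at h2
    simp only [zero_mul, add_zero] at h1 h2
    have m00 : fr.mat f₁ 0 0 = 1 := (mul_right_eq_self₀.1 h1.symm).resolve_right hr0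
    have m01 : fr.mat f₁ 0 1 = 0 := (mul_eq_zero.1 h2.symm).resolve_left hr0
    have m11 : fr.mat f₁ 1 1 = 1 := by linear_combination (fr.unipotent f₁ hk₁).1 - m00
    refine ⟨_, fun h => hc0 ?_, ⟨?_, ?_, fr.unipotent_U f₁ hk₁⟩, rfl⟩
    · obtain ⟨a1, a2⟩ := fr.chi_apply f₁ (bar γ A)
      rw [m00, h, mul_zero, add_zero, mul_one, hf₁v] at a1
      rw [m01, m11, mul_zero, zero_add, mul_one, hf₁v] at a2
      have hz : bar γ (A⁻¹ * f₀ A) ∈ Subgroup.center _ := fr.center_of_chi (by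
        rw [map_mul, map_inv, fr.chi_mul, ← zpow_neg_one, fr.chi_zpow,
          Prod.ext a1 a2, neg_one_zsmul, neg_add_cancel])
      have hz' : (bar γ)⁻¹ (bar γ (A⁻¹ * f₀ A)) ∈ Subgroup.center _ :=
        Subgroup.characteristic_iff_le_comap.1 inferInstance ((bar γ)⁻¹) hz
      rw [MulAut.inv_apply_self] at hz'
      have h4 := fr.chi_center hz'
      rw [fr.chi_mul, ← zpow_neg_one, fr.chi_zpow, fr.chi_A] at h4
      have h5 := congrArg Prod.fst h4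
      simpa [hc, Frame.mat] using h5
    · exact Prod.ext (by simpa [Frame.mat] using m00) (by simpa [Frame.mat] using m01)
    · simpa [Frame.mat] using m11
  -- normalise
  have hprod : ∀ {f f' : MulAut ((normalizerIn S E) ⧸ Fr)}, fr.Uni f → fr.Uni f' →
      fr.mat (f * f') 1 0 = fr.mat f 1 0 + fr.mat f' 1 0 := fun {f f'} hf hf' => by
    rw [fr.mat_mul, Matrix.mul_apply, Fin.sum_univ_two, (fr.uni_mat hf).1, (fr.uni_mat hf').2.2]
    ring
  have hpow10 : ∀ {f : MulAut ((normalizerIn S E) ⧸ Fr)}, fr.Uni f → ∀ n : ℕ, fr.mat (f ^ n) 1 0 = n * fr.mat f 1 0 := by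
    intro f hf n
    induction n with
    | zero => rw [pow_zero, fr.mat_one]; simp
    | succ n ih =>
      rw [pow_succ, hprod (fr.mem_uniGroup.1 (pow_mem (fr.mem_uniGroup.2 hf) n)) hf, ih]
      push_cast; ring
  haveI : NeZero p := ⟨hp.out.ne_zero⟩
  obtain ⟨ψ, hψF, hψp, hψu, hψ10⟩ : ∃ ψ ∈ F.autGroup (normalizerIn S E), (∃ k, ψ ^ p ^ k = 1) ∧ fr.Uni (bar ψ) ∧
      fr.mat (bar ψ) 1 0 = 1 := by
    obtain ⟨n, hn⟩ : ∃ n : ℕ, (n : ZMod p) = c₁⁻¹ := ⟨_, ZMod.natCast_zmod_val _⟩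
    refine ⟨ψ₁ ^ n, pow_mem hψ₁F n, hψ₁p.imp fun k hk => ?_, ?_, ?_⟩
    · rw [← pow_mul, mul_comm, pow_mul, hk, one_pow]
    · rw [map_pow]; exact fr.mem_uniGroup.1 (pow_mem (fr.mem_uniGroup.2 huni₁) n)
    · rw [map_pow, ← hf₁, hpow10 huni₁, hc₁, hn, inv_mul_cancel₀ hc₁0]
  set f := bar ψ with hf
  obtain ⟨hf00, hf01, hf11⟩ := fr.uni_mat hψu
  -- `p`-groups of automorphisms containing `ψ`
  have hmax : ∀ δ : MulAut (normalizerIn S E), (∃ k, δ ^ p ^ k = 1) → (∃ k, (δ * ψ) ^ p ^ k = 1) →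
      fr.Uni (bar δ) := by
    intro δ h1 h2
    obtain ⟨i, hi⟩ := hpow h1
    obtain ⟨j, hj⟩ := hpow h2
    obtain ⟨tr, det⟩ := fr.unipotent _ hi
    obtain ⟨tr', -⟩ := fr.unipotent _ hj
    rw [map_mul, fr.mat_mul] at tr'
    simp only [Matrix.mul_apply, Fin.sum_univ_two, ← hf, hf00, hf01, hψ10, hf11, zero_mul, one_mul,
      add_zero] at tr'
    have hb : fr.mat (bar δ) 0 1 = 0 := by linear_combination tr' - tr
    have ha : fr.mat (bar δ) 0 0 = 1 := by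
      rw [hb, zero_mul] at det
      rcases mul_eq_zero.1 det with h | h
      · exact sub_eq_zero.1 h
      · linear_combination tr - h
    have hd : fr.mat (bar δ) 1 1 = 1 := by linear_combination tr - ha
    exact ⟨Prod.ext (by simpa [Frame.mat] using ha) (by simpa [Frame.mat] using hb),
      by simpa [Frame.mat] using hd, fr.unipotent_U _ hi⟩
  let UN : Subgroup (MulAut (normalizerIn S E)) := fr.uniGroup.comap bar ⊓ F.autGroup (normalizerIn S E)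
  have hUNp : IsPGroup p UN := by
    intro δ
    have h1 : bar ((δ : MulAut (normalizerIn S E)) ^ p ^ 2) = 1 := by
      rw [map_pow]; exact fr.uni_pow_eq_one (fr.mem_uniGroup.1 δ.2.1)
    have hmem : (δ : MulAut (normalizerIn S E)) ^ p ^ 2 ∈ CfsgLib.MetacyclicAut.frattiniKernel (normalizerIn S E) := fun y => by
      refine (inferInstance : (frattini (normalizerIn S E)).Normal).mem_comm (hFrΦ ?_)
      rw [← QuotientGroup.eq_one_iff, QuotientGroup.mk_mul, QuotientGroup.mk_inv, inv_mul_eq_one]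
      exact ((hbar _ y).symm.trans (by rw [h1]; rfl)).symm
    obtain ⟨j, hj⟩ := (CfsgLib.MetacyclicAut.isPGroup_frattiniKernel hNp) ⟨_, hmem⟩
    refine ⟨2 + j, Subtype.ext ?_⟩
    show (δ : MulAut (normalizerIn S E)) ^ p ^ (2 + j) = 1
    rw [pow_add, pow_mul]
    exact congrArg Subtype.val hj
  -- a good conjugate of the normaliser
  obtain ⟨Q₀, ⟨φ₀, hφ₀, hφ₀r⟩, hQa, hQr⟩ := hF (normalizerIn S E) hNS
  have hQS : Q₀ ≤ S := hQa.1
  have := finite_of_le hQS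
  have : Finite (MulAut Q₀) := finite_mulAut
  obtain ⟨e', φ, hφ, hφe, hUNle⟩ : ∃ (e' : (normalizerIn S E) ≃* Q₀) (φ : (normalizerIn S E) →* Ω), φ ∈ F.Hom (normalizerIn S E) ∧
      (∀ y, ((e' y : Q₀) : Ω) = φ y) ∧
      ∀ δ ∈ UN, MulAut.congr e' δ ∈ autInducedBy S Q₀ := by
    let e₀ := isoRange φ₀ (F.injective_of_mem hφ₀) hφ₀r
    let P := (UN.map (MulAut.congr e₀).toMonoidHom).subgroupOf (F.autGroup Q₀)
    have hP : IsPGroup p P := (hUNp.map _).comap_of_injective _ Subtype.val_injective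
    obtain ⟨R, hR⟩ := hQa.2
    obtain ⟨T, hT⟩ := hP.exists_le_sylow
    obtain ⟨a, ha⟩ := MulAction.exists_smul_eq (F.autGroup Q₀) T R
    refine ⟨e₀.trans (a : MulAut Q₀), (Q₀.subtype.comp (a : MulAut Q₀).toMonoidHom).comp e₀.toMonoidHom,
      comp_mem_of_eq hφ₀ ((autGroup_carrier hQS).1 a.2) (fun y => hφ₀r.le ⟨y, rfl⟩) fun _ => rfl,
      fun _ => rfl, fun δ hδ => ?_⟩
    have hδF : MulAut.congr e₀ δ ∈ F.autGroup Q₀ :=
      pow_mem_autGroup_iso hNS hφ₀ e₀ (fun _ => rfl) hδ.2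
    have h3 : a * ⟨MulAut.congr e₀ δ, hδF⟩ * a⁻¹ ∈ (R : Subgroup (F.autGroup Q₀)) := by
      rw [← ha, Sylow.coe_subgroup_smul]
      exact ⟨_, hT (show ⟨MulAut.congr e₀ δ, hδF⟩ ∈ P from ⟨δ, hδ, rfl⟩), rfl⟩
    rw [hR] at h3
    have h4 : MulAut.congr (e₀.trans (a : MulAut Q₀)) δ =
        (a : MulAut Q₀) * MulAut.congr e₀ δ * (a : MulAut Q₀)⁻¹ := MulEquiv.ext fun _ => rfl
    rw [h4]
    exact h3
  have hψUN : ψ ∈ UN := ⟨fr.mem_uniGroup.2 hψu, hψF⟩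
  have hsurjA : ∀ α ∈ autInducedBy S Q₀, ∃ δ ∈ UN, MulAut.congr e' δ = α := by
    intro α hα
    have e2 : MulAut.congr e' (MulAut.congr e'.symm α) = α := MulEquiv.ext fun y => by simp [MulAut.congr]
    have hinj : Function.Injective (MulAut.congr e') := MulEquiv.injective _
    have hpA : ∀ δ, MulAut.congr e' δ ∈ autInducedBy S Q₀ → ∃ k, δ ^ p ^ k = 1 := fun δ h =>
      ((isPGroup_autInducedBy hS Q₀) ⟨_, h⟩).imp fun k hk => hinj (by
        rw [map_pow, map_one]; exact congrArg Subtype.val hk)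
    refine ⟨_, ⟨fr.mem_uniGroup.2 (hmax _ (hpA _ (by rw [e2]; exact hα)) (hpA _ ?_)), ?_⟩, e2⟩
    · rw [map_mul, e2]; exact mul_mem hα (hUNle ψ hψUN)
    · obtain ⟨φ', hφ', -, h1, -⟩ := exists_inv hφ (Q := Q₀) (by
        ext y
        exact ⟨fun ⟨x, hx⟩ => hx ▸ hφe x ▸ (e' x).2,
          fun hy => ⟨e'.symm ⟨y, hy⟩, by rw [← hφe]; simp⟩⟩)
      refine pow_mem_autGroup_iso hQS hφ' e'.symm (fun y => ?_) (autInducedBy_le_autGroup hQS hα)
      have h2 := h1 (e'.symm y) (by rw [← hφe]; simp)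
      refine h2.symm.trans (apply_congr φ' ?_)
      show φ (e'.symm y) = (y : Ω)
      rw [← hφe]; simp
  -- the torus normalises
  have hτinv : fr.mat (bar τ)⁻¹ 0 0 * μ ^ 2 = 1 ∧ fr.mat (bar τ)⁻¹ 0 1 = 0 ∧
      fr.mat (bar τ)⁻¹ 1 0 = 0 ∧ fr.mat (bar τ)⁻¹ 1 1 = μ := by
    have h := fr.mat_mul (bar τ)⁻¹ (bar τ)
    rw [inv_mul_cancel, fr.mat_one] at h
    have h00 := congrFun (congrFun h 0) 0
    have h01 := congrFun (congrFun h 0) 1
    have h10 := congrFun (congrFun h 1) 0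
    have h11 := congrFun (congrFun h 1) 1
    simp [Matrix.mul_apply, Fin.sum_univ_two, t00.1, t00.2.1, t00.2.2.1, t00.2.2.2, hν0, hμ0]
      at h00 h01 h10 h11
    exact ⟨by linear_combination -h00, h01, h10, by linear_combination μ * (-h11) - fr.mat (bar τ)⁻¹ 1 1 * hμν⟩
  have hτconj : ∀ {δ}, δ ∈ UN → τ * δ * τ⁻¹ ∈ UN ∧
      fr.mat (bar (τ * δ * τ⁻¹)) 1 0 = fr.mat (bar δ) 1 0 * μ ^ 3 := by
    intro δ hδ
    have hu := fr.mem_uniGroup.1 hδ.1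
    obtain ⟨d00, d01, d11⟩ := fr.uni_mat hu
    have hm : fr.mat (bar (τ * δ * τ⁻¹)) =
        fr.mat (bar τ)⁻¹ * (fr.mat (bar δ) * fr.mat (bar τ)) := by
      rw [map_mul, map_mul, map_inv, fr.mat_mul, fr.mat_mul]
    obtain ⟨i00, i01, i10, i11⟩ := hτinv
    have hmu : fr.Uni (bar (τ * δ * τ⁻¹)) := by
      have e00 := congrFun (congrFun hm 0) 0
      have e01 := congrFun (congrFun hm 0) 1
      have e11 := congrFun (congrFun hm 1) 1
      simp only [Matrix.mul_apply, Fin.sum_univ_two, i01, i10, i11, d00, d01, d11, t00.1, t00.2.1,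
        t00.2.2.1, t00.2.2.2, zero_mul, mul_zero, one_mul, add_zero, zero_add] at e00 e01 e11
      rw [i00] at e00
      rw [hμν] at e11
      refine ⟨Prod.ext (by simpa [Frame.mat] using e00) (by simpa [Frame.mat] using e01),
        by simpa [Frame.mat] using e11, ?_⟩
      obtain ⟨-, -, a, ha⟩ := hu
      have hU' : (bar τ)⁻¹ U = U := by
        conv_lhs => rw [← hτU, MulAut.inv_apply_self]
      refine ⟨d.μ * a, ?_⟩
      rw [map_mul, map_mul, map_inv, MulAut.mul_apply, MulAut.mul_apply, hU', ha, map_mul, map_zpow,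
        hτU, hτZ, ← zpow_mul]
    refine ⟨⟨fr.mem_uniGroup.2 hmu, mul_mem (mul_mem hτ hδ.2) (Subgroup.inv_mem _ hτ)⟩, ?_⟩
    rw [hm]
    simp only [Matrix.mul_apply, Fin.sum_univ_two, i10, i11, d11, t00.1, t00.2.2.1, zero_mul,
      mul_zero, add_zero, zero_add]
    ring
  obtain ⟨τ₀, hτ₀⟩ : ∃ τ₀, τ₀ = MulAut.congr e' τ := ⟨_, rfl⟩
  set Nt := normalizerIn S Q₀ with hNt
  have hQN : Q₀ ≤ Nt := le_normalizerIn hQS
  have hNtS : Nt ≤ S := normalizerIn_le_S Q₀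
  have := finite_of_le hNtS
  let ι : (normalizerIn S E) →* Nt := (Subgroup.inclusion hQN).comp e'.toMonoidHom
  have hι : Function.Injective ι := (Subgroup.inclusion_injective hQN).comp e'.injective
  have hιv : ∀ y, ((ι y : Nt) : Ω) = φ y := hφe
  have hind : ∀ y : Nt, ∃ δ ∈ UN, ∀ v, y * ι v * y⁻¹ = ι (δ v) := by
    intro y
    obtain ⟨δ, hδ, hδe⟩ := hsurjA _ (mem_autInducedBy.2
      ⟨(y : Ω), hNtS y.2, fun _ => rfl⟩ : conjAut S Q₀ ⟨y, y.2⟩ ∈ autInducedBy S Q₀)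
    refine ⟨δ, hδ, fun v => Subtype.ext ?_⟩
    have := congrArg (fun a : MulAut Q₀ => ((a (e' v) : Q₀) : Ω)) hδe
    simp [MulAut.congr] at this
    exact this.symm
  have hreal : ∀ {δ}, δ ∈ UN → ∃ y : Nt, ∀ v, y * ι v * y⁻¹ = ι (δ v) := by
    intro δ hδ
    obtain ⟨y, hy, hy'⟩ := mem_autInducedBy.1 (hUNle δ hδ)
    refine ⟨⟨y, hy, mem_normalizer_of_aut hy'⟩, fun v => Subtype.ext ?_⟩
    have := hy' (e' v)
    simp [MulAut.congr] at this
    exact this.symm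
  obtain ⟨β, hβι⟩ : ∃ β : MulAut Nt, ∀ v, β (ι v) = ι (τ v) := by
    have hτ₀F : τ₀ ∈ F.autGroup Q₀ := hτ₀ ▸ pow_mem_autGroup_iso hNS hφ e' hφe hτ
    have hθ := (autGroup_carrier hQS).1 hτ₀F
    have hθr : (Q₀.subtype.comp τ₀.toMonoidHom).range = Q₀ := range_subtype_comp _
    have hext : Nt ≤ extender S Q₀ (Q₀.subtype.comp τ₀.toMonoidHom) := by
      intro y hy
      obtain ⟨δ, hδ, hδe⟩ := hsurjA _ (mem_autInducedBy.2 ⟨y, hy.1, fun _ => rfl⟩ :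
        conjAut S Q₀ ⟨y, hy⟩ ∈ autInducedBy S Q₀)
      obtain ⟨k, hk, hk'⟩ := mem_autInducedBy.1 (hUNle _ (hτconj hδ).1)
      refine mem_extender_of hy hk fun v hv => ?_
      refine Eq.trans ?_ (hk' (τ₀ v))
      show ((τ₀ ⟨y * v * y⁻¹, hv⟩ : Q₀) : Ω) = _
      rw [map_mul, map_mul, map_inv, hδe, ← hτ₀, MulAut.mul_apply, MulAut.mul_apply,
        MulAut.inv_apply_self]
      rfl
    obtain ⟨θ', hθ', hθe⟩ := receptive_extend hQr hθ hθr hext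
    have hθQ : (Q₀.subgroupOf Nt).map θ' = Q₀ := (map_eq_range_of_eq hQN hθe).trans hθr
    have hθr' : θ'.range = Nt := by
      refine eq_of_le_of_card_le hNtS ?_ (card_range hθ').ge
      rintro _ ⟨y, rfl⟩
      have := map_mem_normalizerIn hθ' hQN y.2 y.2
      rwa [hθQ] at this
    refine ⟨autOfRange θ' (F.injective_of_mem hθ') hθr', fun v => Subtype.ext ?_⟩
    refine (hθe _ (e' v).2 (hQN (e' v).2)).trans ?_
    show ((τ₀ (e' v) : Q₀) : Ω) = (e' (τ v) : Q₀)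
    rw [hτ₀]; simp [MulAut.congr]
  -- the normaliser of the image of the essential subgroup
  set E' := (E.subgroupOf (normalizerIn S E)).map φ with hE'
  have hφr : φ.range = Q₀ := by
    ext y
    exact ⟨fun ⟨x, hx⟩ => hx ▸ hφe x ▸ (e' x).2, fun hy => ⟨e'.symm ⟨y, hy⟩, by rw [← hφe]; simp⟩⟩
  have hNE' : normalizerIn S E' = Q₀ := by
    refine (eq_of_le_of_card_le (normalizerIn_le_S E') ?_ ?_).symm
    · rw [← hφr]
      rintro _ ⟨y, rfl⟩
      exact map_mem_normalizerIn hφ hEN y.2 y.2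
    · rw [← hφr, card_range hφ]
      exact hE.2.1.2 E' (isConj_map hφ hEN)
  -- the quotient
  obtain ⟨F₀, hF₀⟩ : ∃ F₀, F₀ = Fr.map ι := ⟨_, rfl⟩
  have hFrinv : ∀ α : MulAut (normalizerIn S E), ∀ v ∈ Fr, α v ∈ Fr := fun α v hv => by
    rw [← QuotientGroup.eq_one_iff, ← QuotientGroup.mk'_apply, ← hbar,
      show π v = 1 from (QuotientGroup.eq_one_iff v).2 hv, map_one]
  haveI hF₀n : F₀.Normal := ⟨fun v hv y => by
    rw [hF₀] at hv ⊢
    obtain ⟨v, hv, rfl⟩ := hv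
    obtain ⟨δ, -, hδ⟩ := hind y
    exact ⟨δ v, hFrinv δ v hv, (hδ v).symm⟩⟩
  set π₀ := QuotientGroup.mk' F₀
  let κ : (normalizerIn S E) ⧸ Fr →* Nt ⧸ F₀ := QuotientGroup.map Fr F₀ ι fun v hv => hF₀ ▸ ⟨v, hv, rfl⟩
  have hκπ : ∀ v, κ (π v) = π₀ (ι v) := fun _ => rfl
  have hκ : Function.Injective κ := by
    refine (injective_iff_map_eq_one κ).2 fun q hq => ?_
    obtain ⟨v, rfl⟩ := hπs q
    rw [hκπ] at hq
    have h1 := (QuotientGroup.eq_one_iff (N := F₀) _).1 hq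
    rw [hF₀] at h1
    obtain ⟨v', hv', e1⟩ := h1
    exact (QuotientGroup.eq_one_iff v).2 (hι e1 ▸ hv')
  let B : Nt ⧸ F₀ →* Nt ⧸ F₀ := QuotientGroup.map F₀ F₀ β.toMonoidHom fun y hy => by
    rw [hF₀] at hy ⊢
    obtain ⟨v, hv, rfl⟩ := hy
    exact ⟨τ v, hFrinv τ v hv, (hβι v).symm⟩
  have hB : ∀ q, B (κ q) = κ (bar τ q) := fun q => by
    obtain ⟨v, rfl⟩ := hπs q
    rw [hbar, hκπ, hκπ, ← hβι]; rfl
  have hinQ : ∀ (y : Nt) (δ : MulAut (normalizerIn S E)), (∀ v, y * ι v * y⁻¹ = ι (δ v)) →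
      fr.mat (bar δ) 1 0 = 0 → π₀ y ∈ κ.range := by
    intro y δ hδ h0
    have hy : (y : Ω) ∈ normalizerIn S E' := by
      refine ⟨hNtS y.2, mem_normalizer_of_conj_mem ((Subgroup.map_le_range _ _).trans
        (range_le_S hφ)) fun v hv => ?_⟩
      obtain ⟨v, hvN, hvE, rfl⟩ := mem_map_subgroupOf.1 hv
      have h1 : (fr.chi (π (δ ⟨v, hvN⟩))).1 = 0 := by
        rw [← hbar, (fr.chi_apply _ _).1, h0, (hEiff ⟨v, hvN⟩).1 hvE]; ring
      have e1 := congrArg (fun z : Nt => (z : Ω)) (hδ ⟨v, hvN⟩)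
      simp only [Subgroup.coe_mul, InvMemClass.coe_inv, hιv] at e1
      rw [e1]
      exact apply_mem_map_subgroupOf φ ((hEiff _).2 h1)
    rw [hNE', ← hφr] at hy
    obtain ⟨v, hv⟩ := hy
    exact ⟨π v, by rw [hκπ]; exact congrArg π₀ (Subtype.ext ((hιv v).trans hv))⟩
  obtain ⟨h, hh⟩ := hreal hψUN
  obtain ⟨k, hk⟩ : ∃ k : ℕ, (k : ZMod p) = μ ^ 3 := ⟨_, ZMod.natCast_zmod_val _⟩
  have hhn : ∀ n : ℕ, ∀ v, h ^ n * ι v * (h ^ n)⁻¹ = ι ((ψ ^ n) v) := by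
    intro n
    induction n with
    | zero => intro v; simp
    | succ n ih =>
      intro v
      rw [pow_succ' ψ, MulAut.mul_apply, ← hh, ← ih, pow_succ']
      group
  obtain ⟨H, hH⟩ : ∃ H, H = π₀ h := ⟨_, rfl⟩
  have hfA : fr.chi (f A) = (1, 1) :=
    Prod.ext (by simpa [Frame.mat] using hψ10) hψu.2.1
  have hHc : ∀ q, H * κ q * H⁻¹ = κ (f q) := fun q => by
    obtain ⟨v, rfl⟩ := hπs q
    rw [hf, hbar, hκπ, hκπ, ← hh, hH, map_mul, map_mul, map_inv]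
  have hHn : H ∉ κ.range := by
    rintro ⟨q, hq⟩
    have e1 : f A = q * A * q⁻¹ := hκ (by rw [← hHc, map_mul, map_mul, map_inv, hq])
    have e2 := congrArg fr.chi e1
    rw [hfA, fr.chi_mul, fr.chi_mul, ← zpow_neg_one, fr.chi_zpow, neg_one_zsmul,
      add_right_comm, add_neg_cancel, zero_add, fr.chi_A, Prod.mk.injEq] at e2
    exact one_ne_zero e2.1
  have hHp : H ^ p ∈ κ.range := by
    rw [hH, ← map_pow]
    refine hinQ _ _ (hhn p) ?_
    rw [map_pow, ← hf, hpow10 hψu]; simp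
  have hBH : ∃ q, B H = κ q * H ^ k := by
    have hτψ : ∀ v, β h * ι v * (β h)⁻¹ = ι ((τ * ψ * τ⁻¹) v) := fun v => by
      obtain ⟨v, rfl⟩ := τ.surjective v
      rw [MulAut.mul_apply, MulAut.mul_apply, MulAut.inv_apply_self, ← hβι, ← hβι, ← hh]
      simp only [map_mul, map_inv]
    obtain ⟨q, hq⟩ := hinQ (β h * (h ^ k)⁻¹) ((τ * ψ * τ⁻¹) * (ψ ^ k)⁻¹) (fun v => by
      have h1 : (h ^ k)⁻¹ * ι v * h ^ k = ι ((ψ ^ k)⁻¹ v) := by
        obtain ⟨v, rfl⟩ := (ψ ^ k).surjective v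
        rw [MulAut.inv_apply_self, ← hhn]
        group
      rw [MulAut.mul_apply, ← hτψ, ← h1]
      group) (by
      have u1 := fr.mem_uniGroup.1 (hτconj hψUN).1.1
      have u2 := fr.mem_uniGroup.1 (pow_mem (fr.mem_uniGroup.2 hψu) k)
      have u3 := fr.mem_uniGroup.1 (inv_mem (pow_mem (fr.mem_uniGroup.2 hψu) k))
      have e3 := hprod u3 u2
      rw [inv_mul_cancel, fr.mat_one, hpow10 hψu, hψ10, mul_one] at e3
      simp at e3
      rw [map_mul, map_inv, map_pow, ← hf, hprod u1 u3, (hτconj hψUN).2, ← hf, hψ10, ← hk]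
      linear_combination -e3)
    refine ⟨q, ?_⟩
    rw [hq, hH, map_mul, map_inv, map_pow, inv_mul_cancel_right]
    rfl
  obtain ⟨a, hac, hap, hind4⟩ := pure_section fr κ hκ (μ := d.μ) d.μ1 d.μ2 d.μ3 d.μ5
    (fun h => hμ0 (by rw [hμ, ZMod.intCast_zmod_eq_zero_iff_dvd]; exact h)) (k := k)
    (by rw [← ZMod.intCast_zmod_eq_zero_iff_dvd]; push_cast; rw [hk, hμ, sub_self])
    (bar τ) f hτX hτZ hτU hψu.1 hfA (fr.uni_Z hψu) hψu.2.2 B hB H hHc hHp hHn hBH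
  choose b hb using fun i => QuotientGroup.mk'_surjective F₀ (a i)
  refine rank_contra (sectional_of_injective (Subgroup.inclusion hNtS)
    (Subgroup.inclusion_injective hNtS) hsr) F₀ b (fun i j => ?_) (fun i => ?_) fun n hn => hind4 n ?_
  · rw [← QuotientGroup.eq_one_iff, ← QuotientGroup.mk'_apply, map_commutatorElement,
      commutatorElement_eq_one_iff_commute, hb, hb]
    exact hac i j
  · rw [← QuotientGroup.eq_one_iff, ← QuotientGroup.mk'_apply, map_pow, hb]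
    exact hap i
  · have h1 : π₀ (b 0 ^ n 0 * b 1 ^ n 1 * b 2 ^ n 2 * b 3 ^ n 3) = 1 :=
      (QuotientGroup.eq_one_iff (N := F₀) _).2 hn
    simpa only [map_mul, map_zpow, hb, π₀] using h1

end CfsgLib.Fusion.RankThree
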