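import Cfsg.Agent.Fusion.RankThree.Irreducible

/-!
An essential subgroup with irreducible automiser on a Frattini quotient of order `p ^ 3` has no
transvections among the automorphisms induced by the ambient group.
-/

set_option autoImplicit false
set_option linter.unusedSectionVars false
set_option linter.style.haveILetI false

open Cfsg Cfsg.FusionSystem Subgroup
open scoped commutatorElement

namespace CfsgLib.Fusion.RankThree

universe u v

/-- A nontrivial map fixing a proper subgroup that contains all displacements is a transvection. -/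
theorem exists_tv {A : Type u} [CommGroup A] [Finite A] {X : Type v} [Group X] {p : ℕ}
    [hp : Fact p.Prime] (ρ : X →* MulAut A) (hA : Nat.card A = p ^ 3) (hexp : ∀ a : A, a ^ p = 1)
    {t : X} (ht : ρ t ≠ 1) (D : Subgroup A) (hDt : D ≠ ⊤) (hfix : ∀ a ∈ D, ρ t a = a)
    (hdisp : ∀ a, a⁻¹ * ρ t a ∈ D) : ∃ c K, IsTv ρ p t c K := by
  classical
  let f : A →* A := MonoidHom.mk' (fun a => a⁻¹ * ρ t a) fun a b => by
    rw [mul_inv, map_mul, mul_mul_mul_comm]
  have hfr : f.range ≤ D := by rintro _ ⟨a, rfl⟩; exact hdisp a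
  have hDk : D ≤ f.ker := fun a ha => by
    show a⁻¹ * ρ t a = 1
    rw [hfix a ha, inv_mul_cancel]
  have hfne : f.range ≠ ⊥ := fun h => ht (MulEquiv.ext fun a => by
    have h2 : f a ∈ f.range := ⟨a, rfl⟩
    rw [h, mem_bot] at h2
    exact (inv_mul_eq_one.1 h2).symm)
  have hprod : Nat.card f.range * Nat.card f.ker = p ^ 3 := by
    rw [← hA, ← Subgroup.index_ker, Subgroup.index_mul_card]
  obtain ⟨a, -, ha⟩ := (Nat.dvd_prime_pow hp.out).1 (hA ▸ Subgroup.card_subgroup_dvd_card f.range)
  obtain ⟨b, -, hb⟩ := (Nat.dvd_prime_pow hp.out).1 (hA ▸ Subgroup.card_subgroup_dvd_card f.ker)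
  obtain ⟨d, hd3, hd⟩ := (Nat.dvd_prime_pow hp.out).1 (hA ▸ Subgroup.card_subgroup_dvd_card D)
  rw [ha, hb, ← pow_add] at hprod
  have hab3 := Nat.pow_right_injective hp.out.two_le hprod
  have hd2 : d ≠ 3 := fun h => hDt (Subgroup.eq_top_of_card_eq D (by rw [hd, hA, h]))
  have had : a ≤ d := by
    have := Subgroup.card_le_of_le hfr
    rwa [ha, hd, Nat.pow_le_pow_iff_right hp.out.one_lt] at this
  have hdb : d ≤ b := by
    have := Subgroup.card_le_of_le hDk
    rwa [hb, hd, Nat.pow_le_pow_iff_right hp.out.one_lt] at this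
  have ha0 : a ≠ 0 := fun h => hfne (Subgroup.card_eq_one.1 (by rw [ha, h, pow_zero]))
  obtain ⟨rfl, rfl⟩ : a = 1 ∧ b = 2 := ⟨by omega, by omega⟩
  rw [pow_one] at ha
  obtain ⟨c, hc', hc1⟩ := (Subgroup.bot_or_exists_ne_one f.range).resolve_left hfne
  have hco : orderOf c = p := orderOf_eq_prime (hexp c) hc1
  have hzc : zpowers c = f.range := Subgroup.eq_of_le_of_card_ge (Subgroup.zpowers_le.2 hc')
    (by rw [Nat.card_zpowers, hco, ha])
  exact ⟨c, f.ker,
    { ne_one := fun h => ht (by rw [h, map_one])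
      order_c := hco
      card_D := hb
      mem := hDk (hfr hc')
      fix := fun x hx => (inv_mul_eq_one.1 (hx : x⁻¹ * ρ t x = 1)).symm
      disp := fun x => hzc ▸ ⟨x, rfl⟩ }⟩

variable {Ω : Type u} [Group Ω] {S : Subgroup Ω} [Finite S] {p : ℕ} [hp : Fact p.Prime]
  {F : FusionSystem S}

/-- An element fixing a proper part of the Frattini quotient containing all its displacements lies
in the essential subgroup. -/
theorem mem_of_transvection (hS : IsPGroup p S) {E : Subgroup Ω} (hE : F.IsEssential p E)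
    (hidx : (frattini E).index = p ^ 3) (hirr : IsIrredTop F E) {g : Ω} (hg : g ∈ normalizerIn S E)
    (D : Subgroup E) (hD : frattini E ≤ D) (hDt : D ≠ ⊤)
    (hfix : ∀ a ∈ D, a⁻¹ * conjAut S E ⟨g, hg⟩ a ∈ frattini E)
    (hdisp : ∀ a, a⁻¹ * conjAut S E ⟨g, hg⟩ a ∈ D) : g ∈ E := by
  classical
  by_contra hgE
  have hES := hE.1.1
  have hrad := isRadical_of_essential p hS hE
  have hEp := isPGroup_of_le hS hES
  obtain ⟨hcent, -, hn, Y, -, hY, P, hP⟩ := id hE
  have := finite_of_le hES
  have : Finite (MulAut E) := finite_mulAut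
  obtain ⟨hcm, hpw⟩ := CfsgLib.PGroupBasic.commutator_pow_le_frattini hEp
  letI : CommGroup (E ⧸ frattini E) :=
    { (inferInstance : Group (E ⧸ frattini E)) with
      mul_comm := fun a b => by
        obtain ⟨a, rfl⟩ := QuotientGroup.mk'_surjective _ a
        obtain ⟨b, rfl⟩ := QuotientGroup.mk'_surjective _ b
        rw [← commutatorElement_eq_one_iff_mul_comm, ← map_commutatorElement]
        exact (QuotientGroup.eq_one_iff _).2
          (hcm (commutator_mem_commutator (mem_top a) (mem_top b))) }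
  set π : E →* E ⧸ frattini E := QuotientGroup.mk' (frattini E)
  have hcl : ∀ {a b : E}, π a = π b ↔ a⁻¹ * b ∈ frattini E := fun {a b} => QuotientGroup.eq
  let φ : MulAut E →* MulAut (E ⧸ frattini E) := MonoidHom.mk'
    (fun α => QuotientGroup.congr (frattini E) (frattini E) α
      (Subgroup.characteristic_iff_map_eq.1 frattini_characteristic α))
    fun α β => MulEquiv.ext fun v => by
      induction v using QuotientGroup.induction_on with
      | H e => rfl
  have hφ : ∀ (α : MulAut E) (e : E), φ α (π e) = π (α e) := fun _ _ => rfl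
  haveI := hn
  have hker : (Inn E).subgroupOf (F.autGroup E) ≤ (φ.comp (F.autGroup E).subtype).ker := by
    rintro α ⟨q, hq⟩
    refine MulEquiv.ext fun v => ?_
    obtain ⟨e, rfl⟩ := QuotientGroup.mk'_surjective _ v
    show φ (α : MulAut E) (π e) = π e
    rw [show (α : MulAut E) = MulAut.conj q from hq.symm, hφ, MulAut.conj_apply, map_mul, map_mul,
      map_inv, mul_comm (π q), mul_inv_cancel_right]
  let ρ : (F.autGroup E ⧸ (Inn E).subgroupOf (F.autGroup E)) →* MulAut (E ⧸ frattini E) :=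
    QuotientGroup.lift _ (φ.comp (F.autGroup E).subtype) hker
  have hKinn : F.autGroup E ⊓ φ.ker ≤ Inn E := by
    refine le_inn_of_radical p hrad (fun γ hγ => hγ.1) (fun α hα γ hγ => ?_) fun γ hγ => ?_
    · refine ⟨mul_mem (mul_mem hα hγ.1) (Subgroup.inv_mem _ hα), ?_⟩
      show φ (α * γ * α⁻¹) = 1
      rw [map_mul, map_mul, show φ γ = 1 from hγ.2, mul_one, map_inv, mul_inv_cancel]
    · have hmem : γ ∈ CfsgLib.MetacyclicAut.frattiniKernel E := fun x => by
        have h1 : π (γ x) = π x := by rw [← hφ, show φ γ = 1 from hγ.2]; rfl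
        rw [← QuotientGroup.eq_one_iff, ← QuotientGroup.mk'_apply, map_mul, map_inv]
        exact mul_inv_eq_one.2 h1
      obtain ⟨k, hk⟩ := CfsgLib.MetacyclicAut.isPGroup_frattiniKernel hEp ⟨γ, hmem⟩
      exact ⟨k, congrArg Subtype.val hk⟩
  have hρ : Function.Injective ρ := by
    refine (injective_iff_map_eq_one ρ).2 fun v hv => ?_
    induction v using QuotientGroup.induction_on with
    | H a =>
      rw [QuotientGroup.eq_one_iff]
      exact hKinn ⟨a.2, hv⟩
  have hga : conjAut S E ⟨g, hg⟩ ∈ F.autGroup E :=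
    autInducedBy_le_autGroup hES (mem_autInducedBy.2 ⟨g, hg.1, fun _ => rfl⟩)
  set t := QuotientGroup.mk' ((Inn E).subgroupOf (F.autGroup E)) ⟨_, hga⟩
  have ht : ∀ e : E, ρ t (π e) = π (conjAut S E ⟨g, hg⟩ e) := fun _ => rfl
  have hcard : Nat.card (E ⧸ frattini E) = p ^ 3 := by rw [← Subgroup.index_eq_card, hidx]
  have hexp : ∀ a : E ⧸ frattini E, a ^ p = 1 := fun a => by
    obtain ⟨a, rfl⟩ := QuotientGroup.mk'_surjective _ a
    rw [← map_pow]; exact (QuotientGroup.eq_one_iff _).2 (hpw a)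
  obtain ⟨c, K, htv⟩ := exists_tv ρ hcard hexp (t := t) (fun h => hgE (mem_of_trivial_mod hS hE hg
      fun e => hcl.1 (by rw [← ht, h]; rfl))) (D.map π) (fun h => hDt (top_le_iff.1 fun e _ => by
      obtain ⟨e', he', h'⟩ := h.ge (mem_top (π e))
      simpa using mul_mem he' (hD (hcl.1 h'))))
    (by rintro _ ⟨a, ha, rfl⟩; rw [ht]; exact (hcl.2 (hfix a ha)).symm)
    (fun a => by
      obtain ⟨a, rfl⟩ := QuotientGroup.mk'_surjective _ a
      rw [ht, ← map_inv, ← map_mul]; exact ⟨_, hdisp a, rfl⟩)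
  refine transvection_false hρ hcard hexp P hP hY (fun L hL => ?_) htv
  have hinv : ∀ α ∈ F.autGroup E, ∀ a ∈ L.comap π, α a ∈ L.comap π := fun α hα a ha =>
    hL (QuotientGroup.mk' _ ⟨α, hα⟩) (π a) ha
  rcases hirr (L.comap π) (fun a ha => by
      show π a ∈ L
      rw [show π a = 1 from (QuotientGroup.eq_one_iff a).2 ha]; exact one_mem _) hinv with h | h
  · refine Or.inl (eq_bot_iff.2 fun a ha => ?_)
    obtain ⟨a, rfl⟩ := QuotientGroup.mk'_surjective _ a
    exact mem_bot.2 ((QuotientGroup.eq_one_iff a).2 (h.le ha))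
  · refine Or.inr ((Subgroup.eq_top_iff' L).2 fun a => ?_)
    obtain ⟨a, rfl⟩ := QuotientGroup.mk'_surjective _ a
    exact h.ge (mem_top a)

end CfsgLib.Fusion.RankThree
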