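import Cfsg.Agent.Fusion.RankThree.Pearl
import Cfsg.Agent.Fusion.RankThree.NoTv
import Cfsg.Agent.Fusion.RankThree.Final

/-!
The essential subgroups of a system of sectional rank at most three: how many generators they need,
and the irreducible ones with three generators.
-/

set_option autoImplicit false
set_option linter.unusedSectionVars false
set_option linter.style.haveILetI false

open Cfsg Cfsg.FusionSystem Subgroup
open scoped commutatorElement

namespace CfsgLib.Fusion.RankThree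

universe u

variable {Ω : Type u} [Group Ω] {S : Subgroup Ω} [Finite S] {p : ℕ} [hp : Fact p.Prime]
  {F : FusionSystem S}

/-- An essential subgroup needs two or three generators. -/
theorem index_cases (hS : IsPGroup p S) (hF : F.IsSaturated p) {E : Subgroup Ω}
    (hE : F.IsEssential p E) (hsr : Cfsg.SectionalPRankLE p 3 S) :
    (frattini E).index = p ^ 2 ∨ (frattini E).index = p ^ 3 := by
  classical
  have hES := hE.1.1
  have := finite_of_le hES
  have hEp := isPGroup_of_le hS hES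
  obtain ⟨hcm, hpw⟩ := CfsgLib.PGroupBasic.commutator_pow_le_frattini hEp
  obtain ⟨r, hr⟩ := hEp.index (frattini E)
  have hle : r ≤ 3 := by
    have hP : Cfsg.PRankLE p 3 (E ⧸ frattini E) := by
      refine pRankLE_of_equiv (QuotientGroup.congr ((frattini E).subgroupOf ⊤) (frattini E)
        Subgroup.topEquiv ?_) (sectional_of_injective (Subgroup.inclusion hES)
          (Subgroup.inclusion_injective hES) hsr ⊤ _)
      ext x
      constructor
      · rintro ⟨y, hy, rfl⟩; exact hy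
      · intro hx; exact ⟨⟨x, mem_top x⟩, hx, rfl⟩
    have h := hP ⊤ ⟨⟨fun a b => Subtype.ext ?_⟩⟩ fun a _ => ?_
    · rw [Subgroup.card_top, ← Subgroup.index_eq_card, hr] at h
      exact (Nat.pow_le_pow_iff_right hp.out.one_lt).1 h
    · obtain ⟨a, ha⟩ := QuotientGroup.mk'_surjective _ (a : E ⧸ frattini E)
      obtain ⟨b, hb⟩ := QuotientGroup.mk'_surjective _ (b : E ⧸ frattini E)
      simp only [Subgroup.coe_mul, ← ha, ← hb]
      rw [← commutatorElement_eq_one_iff_mul_comm, ← map_commutatorElement]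
      exact (QuotientGroup.eq_one_iff _).2 (hcm (commutator_mem_commutator (mem_top a) (mem_top b)))
    · obtain ⟨b, rfl⟩ := QuotientGroup.mk'_surjective _ a
      rw [← map_pow]
      exact (QuotientGroup.eq_one_iff _).2 (hpw b)
  rcases (show r ≤ 1 ∨ r = 2 ∨ r = 3 by omega) with h | rfl | rfl
  rotate_left
  · exact Or.inl hr
  · exact Or.inr hr
  exfalso
  obtain ⟨g, hgN, hgE⟩ :=
    SetLike.exists_of_lt (lt_normalizerIn p hS le_rfl (essential_lt p hS hF hE))
  refine hgE (mem_of_trivial_mod hS hE hgN fun a => ?_)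
  set γ := conjAut S E ⟨g, hgN⟩
  rcases (show r = 0 ∨ r = 1 by omega) with rfl | rfl
  · rw [pow_zero, Subgroup.index_eq_one] at hr
    rw [hr]; exact mem_top _
  have hne : frattini E ≠ ⊤ := fun h => by
    rw [h, Subgroup.index_top, pow_one] at hr
    exact hp.out.one_lt.ne hr
  obtain ⟨z, hz, hz'⟩ := exists_layer hS hES (frattini E) le_rfl hne fun α _ x hx => frattini_inv α hx
  have htop : zpowers z ⊔ frattini E = ⊤ := by
    have h1 : frattini E < zpowers z ⊔ frattini E := lt_of_le_of_ne le_sup_right fun e => hz (by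
      rw [e]; exact mem_sup_left (mem_zpowers z))
    have h2 := Subgroup.relIndex_mul_index h1.le
    rw [hr, pow_one] at h2
    rcases (Nat.dvd_prime hp.out).1 ⟨_, h2.symm⟩ with h | h
    · exact absurd (Subgroup.relIndex_eq_one.1 h) h1.not_ge
    · rw [h] at h2
      exact Subgroup.index_eq_one.1 (Nat.eq_of_mul_eq_mul_left hp.out.pos (h2.trans (mul_one p).symm))
  have hγ : γ ∈ autInducedBy S E := mem_autInducedBy.2 ⟨g, hgN.1, fun _ => rfl⟩
  have hle : zpowers z ⊔ frattini E ≤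
      ((QuotientGroup.mk' (frattini E)).comp γ.toMonoidHom).eqLocus (QuotientGroup.mk' (frattini E)) :=
    sup_le (zpowers_le.2 (QuotientGroup.eq.2 (hz' γ hγ)).symm) fun b hb =>
      ((QuotientGroup.eq_one_iff _).2 (frattini_inv γ hb)).trans ((QuotientGroup.eq_one_iff b).2 hb).symm
  exact QuotientGroup.eq.1 (Eq.symm (hle (htop.ge (mem_top a))))

/-- An essential subgroup with three generators is normal in the ambient group. -/
theorem normalizer_eq_three (hS : IsPGroup p S) (hF : F.IsSaturated p) (hp5 : 5 ≤ p)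
    {E : Subgroup Ω} (hE : F.IsEssential p E) (hidx : (frattini E).index = p ^ 3)
    (hsr : Cfsg.SectionalPRankLE p 3 S) : normalizerIn S E = S := by
  by_contra hcon
  have hN : normalizerIn S E < S := lt_of_le_of_ne (normalizerIn_le_S E) hcon
  obtain ⟨g, hg, hgN⟩ := SetLike.exists_of_lt (lt_normalizerIn p hS le_rfl hN)
  have hgN' : ∀ x ∈ normalizerIn S E, g * x * g⁻¹ ∈ normalizerIn S E :=
    fun x hx => (Subgroup.mem_normalizer_iff.1 hg.2 x).1 hx
  obtain ⟨e, he, hge⟩ : ∃ e ∈ E, g * e * g⁻¹ ∉ E := by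
    by_contra h
    push Not at h
    exact hgN ⟨hg.1, mem_normalizer_of_conj_mem hE.1.1 h⟩
  by_cases hirr : IsIrredTop F E
  · exact irreducible_false hS (by omega) hE hidx hsr hirr hgN' he hge
  · simp only [IsIrredTop] at hirr
    push Not at hirr
    obtain ⟨L, hL, hinv, hne, hnt⟩ := hirr
    obtain ⟨d⟩ := exists_split hS hF hp5 hE hidx
      ⟨L, lt_of_le_of_ne hL (Ne.symm hne), lt_top_iff_ne_top.2 hnt, hinv⟩
    exact split_false hS hF hp5 hE hidx hsr d hg.1 hgN' he hge

theorem frattini_le_comap {E : Subgroup Ω} (hES : E ≤ S) (hS : IsPGroup p S) :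
    frattini E ≤ (frattini S).comap (Subgroup.inclusion hES) := by
  have := finite_of_le hES
  obtain ⟨hcS, hpS⟩ := CfsgLib.PGroupBasic.commutator_pow_le_frattini hS
  refine CfsgLib.PGroupBasic.frattini_le_of_elementary (p := p) _ ?_ fun g => ?_
  · rw [_root_.commutator_def, commutator_le]
    intro g _ h _
    show Subgroup.inclusion hES ⁅g, h⁆ ∈ frattini S
    rw [map_commutatorElement]
    exact hcS (commutator_mem_commutator (mem_top _) (mem_top _))
  · show Subgroup.inclusion hES (g ^ p) ∈ frattini S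
    rw [map_pow]; exact hpS _

/-- The irreducible case has cyclic quotient of order `p`, and the fixed points of the ambient group
lie in its Frattini subgroup. -/
theorem irreducible_cover (hS : IsPGroup p S) (hF : F.IsSaturated p) (hp5 : 5 ≤ p)
    {E : Subgroup Ω} (hE : F.IsEssential p E) (hidx : (frattini E).index = p ^ 3)
    (hirr : IsIrredTop F E) (hsr : Cfsg.SectionalPRankLE p 3 S) :
    (∃ x, Cover S p E x) ∧ ∀ u : S, u ∈ center S → u ∈ frattini S := by
  classical
  have hES := hE.1.1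
  have := finite_of_le hES
  have hEp := isPGroup_of_le hS hES
  have hN := normalizer_eq_three hS hF hp5 hE hidx hsr
  obtain ⟨hcm, hpw⟩ := CfsgLib.PGroupBasic.commutator_pow_le_frattini hEp
  obtain ⟨V₁, V₂, h01, h12, h2t, hi₁, hi₂, l1, l2, l3⟩ := exists_flag hS hES hidx
  set π := QuotientGroup.mk' (frattini E)
  have hker : ∀ {a : E}, a ∈ frattini E ↔ π a = 1 := fun {a} => (QuotientGroup.eq_one_iff a).symm
  have hcl : ∀ {a b : E}, π a = π b ↔ a⁻¹ * b ∈ frattini E := fun {a b} => QuotientGroup.eq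
  have hcard : Nat.card E = p ^ 3 * Nat.card (frattini E) := by
    rw [← hidx, mul_comm, Subgroup.card_mul_index]
  have hlayer : ∀ {A B : Subgroup E} {a : E}, frattini E ≤ A → a ∈ B → a ∉ A → A ≤ B →
      Nat.card B ≤ p * Nat.card A → zpowers a ⊔ A = B := by
    intro A B a hA ha haA hAB hc
    refine Subgroup.eq_of_le_of_card_ge (sup_le (zpowers_le.2 ha) hAB) ?_
    have h1 : A < zpowers a ⊔ A := lt_of_le_of_ne le_sup_right fun e => haA (by
      rw [e]; exact mem_sup_left (mem_zpowers a))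
    have d1 := CfsgLib.Solvable.card_lt_of_lt h1
    obtain ⟨i, hi⟩ := IsPGroup.iff_card.1 (hEp.to_subgroup A)
    obtain ⟨j, hj⟩ := IsPGroup.iff_card.1 (hEp.to_subgroup (zpowers a ⊔ A : Subgroup E))
    rw [hi, hj, Nat.pow_lt_pow_iff_right hp.out.one_lt] at d1
    rw [hi, ← pow_succ'] at hc
    rw [hj]
    exact hc.trans (Nat.pow_le_pow_right hp.out.pos d1)
  obtain ⟨c1, c2⟩ : Nat.card V₁ ≤ p * Nat.card (frattini E) ∧ Nat.card V₂ ≤ p * Nat.card V₁ := by
    obtain ⟨a, ha⟩ := IsPGroup.iff_card.1 (hEp.to_subgroup (frattini E))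
    obtain ⟨b, hb⟩ := IsPGroup.iff_card.1 (hEp.to_subgroup V₁)
    obtain ⟨c, hc⟩ := IsPGroup.iff_card.1 (hEp.to_subgroup V₂)
    have d1 := CfsgLib.Solvable.card_lt_of_lt h01
    have d2 := CfsgLib.Solvable.card_lt_of_lt h12
    have d3 := CfsgLib.Solvable.card_lt_of_lt h2t
    rw [Subgroup.card_top, hcard, hc, ha, ← pow_add, Nat.pow_lt_pow_iff_right hp.out.one_lt] at d3
    rw [ha, hb, Nat.pow_lt_pow_iff_right hp.out.one_lt] at d1
    rw [hb, hc, Nat.pow_lt_pow_iff_right hp.out.one_lt] at d2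
    rw [ha, hb, hc, ← pow_succ', ← pow_succ']
    exact ⟨Nat.pow_le_pow_right hp.out.pos (by omega), Nat.pow_le_pow_right hp.out.pos (by omega)⟩
  obtain ⟨x, hxN, hxE⟩ :=
    SetLike.exists_of_lt (lt_normalizerIn p hS le_rfl (essential_lt p hS hF hE))
  have hA : ∀ h (hh : h ∈ normalizerIn S E), conjAut S E ⟨h, hh⟩ ∈ autInducedBy S E := fun h hh =>
    mem_autInducedBy.2 ⟨h, hh.1, fun _ => rfl⟩
  have hV₂ : frattini E ≤ V₂ := h01.le.trans h12.le
  obtain ⟨v, hv, hv1⟩ := SetLike.exists_of_lt h12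
  set y := conjAut S E ⟨x, hxN⟩ with hy
  set c := v⁻¹ * y v with hc
  have hcV : c ∈ V₁ := l2 y (hA x hxN) v hv
  -- an element trivial on `v` lies in `E`
  have htriv : ∀ {g : Ω} (hg : g ∈ normalizerIn S E),
      v⁻¹ * conjAut S E ⟨g, hg⟩ v ∈ frattini E → g ∈ E := by
    intro g hg h
    refine mem_of_transvection hS hE hidx hirr hg V₂ hV₂ h2t.ne (fun a ha => ?_) (l3 _ (hA g hg))
    set ψ := conjAut S E ⟨g, hg⟩
    have hle : zpowers v ⊔ V₁ ≤ (π.comp ψ.toMonoidHom).eqLocus π :=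
      sup_le (zpowers_le.2 (hcl.2 h).symm) fun b hb => (hcl.2 (l1 ψ (hA g hg) b hb)).symm
    rw [hlayer h01.le hv hv1 h12.le c2] at hle
    exact hcl.1 (Eq.symm (hle ha))
  have hc0 : c ∉ frattini E := fun h => hxE (htriv hxN h)
  have hV₁ : zpowers c ⊔ frattini E = V₁ := hlayer le_rfl hcV hc0 h01.le c1
  let δ : autInducedBy S E →* E ⧸ frattini E := MonoidHom.mk' (fun α => π (v⁻¹ * (α : MulAut E) v))
    fun α β => by
      show π (v⁻¹ * (α : MulAut E) ((β : MulAut E) v)) = _ * _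
      have hd : π ((α : MulAut E) (v⁻¹ * (β : MulAut E) v)) = π (v⁻¹ * (β : MulAut E) v) :=
        (hcl.2 (l1 _ α.2 _ (l2 _ β.2 v hv))).symm
      rw [← mul_inv_cancel_left v ((β : MulAut E) v), map_mul (α : MulAut E), map_mul π, map_mul π,
        hd, ← map_mul π, ← map_mul π, ← map_mul π]
      simp only [← mul_assoc, inv_mul_cancel, one_mul]
  have hcov : Cover S p E x := by
    refine ⟨hES, hxN.1, pow_mem_of_flag hS (by omega) hE hidx hxN,
      fun g hg e he => (Subgroup.mem_normalizer_iff.1 (hN.ge hg).2 e).1 he, fun h hh => ?_⟩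
    have hh' : h ∈ normalizerIn S E := hN.ge hh
    obtain ⟨i, hi⟩ : ∃ i : ℤ, δ ⟨conjAut S E ⟨h, hh'⟩, hA h hh'⟩ = π c ^ i := by
      have h1 : v⁻¹ * conjAut S E ⟨h, hh'⟩ v ∈ V₁ := l2 _ (hA h hh') v hv
      rw [← hV₁] at h1
      obtain ⟨w, hw, r, hr, e⟩ := mem_sup_of_normal_right.1 h1
      obtain ⟨i, rfl⟩ := mem_zpowers_iff.1 hw
      refine ⟨i, ?_⟩
      show π (v⁻¹ * conjAut S E ⟨h, hh'⟩ v) = _
      rw [← e, map_mul, hker.1 hr, mul_one, map_zpow]
    refine ⟨i, htriv (mul_mem hh' (zpow_mem hxN _)) ?_⟩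
    have e : (⟨conjAut S E ⟨h * x ^ (-i), mul_mem hh' (zpow_mem hxN _)⟩, hA _ _⟩ : autInducedBy S E) =
        ⟨conjAut S E ⟨h, hh'⟩, hA h hh'⟩ * ⟨y, hA x hxN⟩ ^ (-i) := Subtype.ext (by
      show conjAut S E (⟨h, hh'⟩ * ⟨x, hxN⟩ ^ (-i)) =
        conjAut S E ⟨h, hh'⟩ * conjAut S E ⟨x, hxN⟩ ^ (-i)
      rw [map_mul, map_zpow])
    refine hker.2 ?_
    show δ ⟨_, hA _ (mul_mem hh' (zpow_mem hxN _))⟩ = 1
    rw [e, map_mul, map_zpow, hi, show δ ⟨y, hA x hxN⟩ = π c from rfl, ← zpow_add, add_neg_cancel,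
      zpow_zero]
  refine ⟨⟨x, hcov⟩, fun u hu => ?_⟩
  have huE : (u : Ω) ∈ E := hE.1.2 E (isConj_refl hES) ⟨u.2, fun w hw =>
    congrArg Subtype.val (mem_center_iff.1 hu ⟨w, hES hw⟩)⟩
  set u' : E := ⟨u, huE⟩
  have hyu : y u' = u' := Subtype.ext (by
    show x * (u : Ω) * x⁻¹ = u
    have h : x * (u : Ω) = u * x := congrArg Subtype.val (mem_center_iff.1 hu ⟨x, hxN.1⟩)
    rw [h, mul_inv_cancel_right])
  have hfixV₁ : ∀ a ∈ V₁, a⁻¹ * y a ∈ frattini E := fun a ha => l1 y (hA x hxN) a ha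
  have hu2 : u' ∈ V₂ := by
    by_contra hu2
    refine hxE (mem_of_transvection hS hE hidx hirr hxN V₁ h01.le (h12.trans h2t).ne hfixV₁ fun a => ?_)
    haveI := normal_of_frattini_le hEp h01.le
    set π₁ := QuotientGroup.mk' V₁
    have hle : zpowers u' ⊔ V₂ ≤ (π₁.comp y.toMonoidHom).eqLocus π₁ :=
      sup_le (zpowers_le.2 (show π₁ (y u') = π₁ u' by rw [hyu])) fun b hb =>
        (QuotientGroup.eq.2 (l2 y (hA x hxN) b hb)).symm
    have htop : zpowers u' ⊔ V₂ = ⊤ := by
      refine hlayer hV₂ (mem_top u') hu2 le_top ?_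
      obtain ⟨s, hs⟩ := IsPGroup.iff_card.1 (hEp.to_subgroup (frattini E))
      obtain ⟨t, ht⟩ := IsPGroup.iff_card.1 (hEp.to_subgroup V₁)
      obtain ⟨r, hr⟩ := IsPGroup.iff_card.1 (hEp.to_subgroup V₂)
      have d1 := CfsgLib.Solvable.card_lt_of_lt h01
      have d2 := CfsgLib.Solvable.card_lt_of_lt h12
      rw [hs, ht, Nat.pow_lt_pow_iff_right hp.out.one_lt] at d1
      rw [ht, hr, Nat.pow_lt_pow_iff_right hp.out.one_lt] at d2
      rw [Subgroup.card_top, hcard, hs, hr, ← pow_add, ← pow_succ']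
      exact Nat.pow_le_pow_right hp.out.pos (by omega)
    exact QuotientGroup.eq.1 (Eq.symm (hle (htop.ge (mem_top a))))
  have hu1 : u' ∈ V₁ := by
    by_contra hu1
    refine hxE (mem_of_transvection hS hE hidx hirr hxN V₂ hV₂ h2t.ne (fun a ha => ?_) (l3 y (hA x hxN)))
    have hle : zpowers u' ⊔ V₁ ≤ (π.comp y.toMonoidHom).eqLocus π :=
      sup_le (zpowers_le.2 (show π (y u') = π u' by rw [hyu])) fun b hb => (hcl.2 (hfixV₁ b hb)).symm
    rw [hlayer h01.le hu2 hu1 h12.le c2] at hle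
    exact hcl.1 (Eq.symm (hle ha))
  rw [← hV₁] at hu1
  have hle : zpowers c ⊔ frattini E ≤ (frattini S).comap (Subgroup.inclusion hES) := by
    refine sup_le (zpowers_le.2 ?_) (frattini_le_comap hES hS)
    show Subgroup.inclusion hES c ∈ frattini S
    have e : Subgroup.inclusion hES c = ⁅(Subgroup.inclusion hES v)⁻¹, (⟨x, hxN.1⟩ : S)⁆ := by
      refine Subtype.ext ?_
      show (v : Ω)⁻¹ * (x * v * x⁻¹) = _
      simp [commutatorElement_def, mul_assoc]
    rw [e]
    exact (CfsgLib.PGroupBasic.commutator_pow_le_frattini hS).1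
      (commutator_mem_commutator (mem_top _) (mem_top _))
  exact hle hu1

/-- Elements of order dividing `p` of one irreducible member lie in the others. -/
theorem irreducible_absorb (hS : IsPGroup p S) {E : Subgroup Ω}
    (hE : F.IsEssential p E) (hidx : (frattini E).index = p ^ 3) (hirr : IsIrredTop F E)
    (hN : normalizerIn S E = S) {x : Ω} (hcov : Cover S p E x) (M : Subgroup Ω)
    (hM : ∀ g ∈ S, g ^ p ∈ M ∧ ∀ h ∈ S, ⁅g, h⁆ ∈ M) (hEM : ¬ E ≤ M) {a : Ω} (ha : a ∈ S)
    (hac : ∀ v ∈ M, Commute a v) : a ∈ E := by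
  classical
  have hES := hE.1.1
  have := finite_of_le hES
  have haN : a ∈ normalizerIn S E := hN.ge ha
  haveI hn : (M.subgroupOf E).Normal := ⟨fun v hv g => by
    have h1 := (hM _ (hES g.2)).2 _ (hES v.2)
    have h2 := mul_mem h1 (show (v : Ω) ∈ M from hv)
    rw [commutatorElement_def, inv_mul_cancel_right] at h2
    exact h2⟩
  have hle : frattini E ≤ M.subgroupOf E := by
    refine CfsgLib.PGroupBasic.frattini_le_of_elementary (p := p) _ ?_ fun g => (hM _ (hES g.2)).1
    rw [_root_.commutator_def, commutator_le]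
    intro g _ h _
    exact (hM _ (hES g.2)).2 _ (hES h.2)
  refine mem_of_transvection hS hE hidx hirr haN (M.subgroupOf E) hle
    (fun h => hEM fun v hv => (h.ge (mem_top (⟨v, hv⟩ : E)) : (⟨v, hv⟩ : E) ∈ M.subgroupOf E))
    (fun v hv => ?_) fun v => ?_
  · have e : conjAut S E ⟨a, haN⟩ v = v := Subtype.ext (by
      show a * (v : Ω) * a⁻¹ = v
      rw [(hac v hv).eq, mul_inv_cancel_right])
    rw [e, inv_mul_cancel]
    exact one_mem _
  · show (v : Ω)⁻¹ * (a * v * a⁻¹) ∈ M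
    have := (hM _ (inv_mem (hES v.2))).2 _ ha
    simpa [commutatorElement_def, mul_assoc] using this

/-- The elements of order dividing `p` in an irreducible member are central in it. -/
theorem irreducible_omega (hS : IsPGroup p S) (hp2 : p ≠ 2) {E : Subgroup Ω}
    (hE : F.IsEssential p E) (hidx : (frattini E).index = p ^ 3) (hirr : IsIrredTop F E)
    (hsr : Cfsg.SectionalPRankLE p 3 S) {a : Ω} (ha : a ∈ E) (hap : a ^ p = 1) :
    ∀ v ∈ E, Commute a v := by
  intro v hv
  have hES := hE.1.1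
  have := finite_of_le hES
  have hEp := isPGroup_of_le hS hES
  have h : (⟨a, ha⟩ : E) ∈ center E := by
    by_cases hbot : frattini E = ⊥
    · refine mem_center_iff.2 fun w => commutatorElement_eq_one_iff_mul_comm.1 ?_
      have := (CfsgLib.PGroupBasic.commutator_pow_le_frattini hEp).1
        (commutator_mem_commutator (mem_top w) (mem_top (⟨a, ha⟩ : E)))
      rwa [hbot, mem_bot] at this
    · exact ((irreducible_structure hEp hp2 hidx (F.autGroup E) hirr
        (sectional_of_injective (Subgroup.inclusion hES) (Subgroup.inclusion_injective hES) hsr)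
        hbot).1 _ (Subtype.ext hap)).2.1
  exact (congrArg Subtype.val (mem_center_iff.1 h ⟨v, hv⟩)).symm

/-- If all essential subgroups are irreducible with three generators, the elements of order `p` of
one of them generate a normal subgroup. -/
theorem irreducible_family_false (hS : IsPGroup p S) (hF : F.IsSaturated p) (hp5 : 5 ≤ p)
    (hsr : Cfsg.SectionalPRankLE p 3 S) (hcore : F.core = ⊥) {E₀ : Subgroup Ω}
    (hE₀ : F.IsEssential p E₀)
    (hall : ∀ M, F.IsEssential p M → (frattini M).index = p ^ 3 ∧ IsIrredTop F M) : False := by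
  classical
  have hp2 : p ≠ 2 := by omega
  have hcov : ∀ M, F.IsEssential p M → ∃ x, Cover S p M x := fun M hM =>
    (irreducible_cover hS hF hp5 hM (hall M hM).1 (hall M hM).2 hsr).1
  have hN : ∀ M, F.IsEssential p M → normalizerIn S M = S := fun M hM =>
    normalizer_eq_three hS hF hp5 hM (hall M hM).1 hsr
  have homega : ∀ M, F.IsEssential p M → ∀ {a}, a ∈ M → a ^ p = 1 → ∀ v ∈ M, Commute a v :=
    fun M hM {a} ha hap => irreducible_omega hS hp2 hM (hall M hM).1 (hall M hM).2 hsr ha hap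
  have hkey : ∀ M₁ M₂, F.IsEssential p M₁ → F.IsEssential p M₂ → ∀ {a}, a ∈ M₁ → a ^ p = 1 →
      a ∈ M₂ := by
    intro M₁ M₂ h1 h2 a ha hap
    obtain ⟨x₁, hx₁⟩ := hcov M₁ h1
    obtain ⟨x₂, hx₂⟩ := hcov M₂ h2
    by_cases hle : M₂ ≤ M₁
    · by_contra ha2
      exact (essential_lt p hS hF h1).not_ge (hx₂.eq_top hle ha (h1.1.1 ha) ha2)
    · exact irreducible_absorb hS h2 (hall M₂ h2).1 (hall M₂ h2).2 (hN M₂ h2) hx₂ M₁
        (fun g hg => ⟨hx₁.pow_mem hg, fun h hh => hx₁.comm_mem hg hh⟩) hle (h1.1.1 ha)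
        (homega M₁ h1 ha hap)
  let T : Subgroup Ω :=
    { carrier := {a | a ∈ E₀ ∧ a ^ p = 1}
      one_mem' := ⟨one_mem _, one_pow p⟩
      mul_mem' := fun {a b} ha hb => ⟨mul_mem ha.1 hb.1, by
        rw [(homega E₀ hE₀ ha.1 ha.2 b hb.1).mul_pow, ha.2, hb.2, one_mul]⟩
      inv_mem' := fun {a} ha => ⟨inv_mem ha.1, by rw [inv_pow, ha.2, inv_one]⟩ }
  have hTS : T ≤ S := fun a ha => hE₀.1.1 ha.1
  have hT : F.IsNormal T := by
    refine isNormal_of_essential p hS hF (fun P hP => ?_) fun P hP α hα a ha => ?_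
    · rcases hP with rfl | hP
      exacts [hTS, fun a ha => hkey E₀ P hE₀ hP ha.1 ha.2]
    · have hpow : ((α a : P) : Ω) ^ p = 1 := by
        have e : a ^ p = 1 := Subtype.ext ha.2
        rw [← SubgroupClass.coe_pow, ← map_pow, e, map_one, OneMemClass.coe_one]
      refine ⟨?_, hpow⟩
      rcases hP with rfl | hP
      swap
      · exact hkey P E₀ hP hE₀ (α a).2 hpow
      -- automorphisms of the whole group
      obtain ⟨x₀, hx₀⟩ := hcov E₀ hE₀
      let M := ((E₀.subgroupOf P).map α.toMonoidHom).map P.subtype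
      have hmem : ∀ {g : Ω} (hg : g ∈ P), (((α⁻¹ ⟨g, hg⟩ : P) : Ω)) ∈ E₀ → g ∈ M := fun {g} hg h =>
        ⟨⟨g, hg⟩, ⟨α⁻¹ ⟨g, hg⟩, h, MulAut.apply_inv_self P α _⟩, rfl⟩
      by_cases hle : E₀ ≤ M
      · have hcard : Nat.card M ≤ Nat.card E₀ := by
          rw [Subgroup.card_map_of_injective P.subtype_injective,
            Subgroup.card_map_of_injective α.injective,
            Nat.card_congr (Subgroup.subgroupOfEquivOfLe hE₀.1.1).toEquiv]
        have hfin : Finite M := finite_of_le (S := P) (by rintro _ ⟨v, -, rfl⟩; exact v.2)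
        exact (Subgroup.eq_of_le_of_card_ge hle hcard).ge ⟨α a, ⟨a, ha.1, rfl⟩, rfl⟩
      refine irreducible_absorb hS hE₀ (hall E₀ hE₀).1 (hall E₀ hE₀).2 (hN E₀ hE₀) hx₀ M
        (fun g hg => ⟨hmem (pow_mem hg p) ?_, fun h hh => hmem
          (mul_mem (mul_mem (mul_mem hg hh) (inv_mem hg)) (inv_mem hh)) ?_⟩) hle (α a).2 ?_
      · rw [show (⟨g ^ p, pow_mem hg p⟩ : P) = ⟨g, hg⟩ ^ p from rfl, map_pow, SubgroupClass.coe_pow]
        exact hx₀.pow_mem (α⁻¹ ⟨g, hg⟩).2
      · show (((α⁻¹ ⁅(⟨g, hg⟩ : P), ⟨h, hh⟩⁆ : P)) : Ω) ∈ E₀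
        rw [map_commutatorElement]
        exact hx₀.comm_mem (α⁻¹ ⟨g, hg⟩).2 (α⁻¹ ⟨h, hh⟩).2
      · rintro _ ⟨_, ⟨w, hw, rfl⟩, rfl⟩
        have h1 : a * w = w * a := Subtype.ext (homega E₀ hE₀ ha.1 ha.2 w hw).eq
        have h2 := congrArg (fun v => ((α v : P) : Ω)) h1
        simp only [map_mul, Subgroup.coe_mul] at h2
        exact h2
  have := finite_of_le hE₀.1.1
  have hEp := isPGroup_of_le hS hE₀.1.1
  haveI hnt : Nontrivial E₀ := by
    rcases subsingleton_or_nontrivial E₀ with h | h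
    · have hidx := (hall E₀ hE₀).1
      rw [show frattini E₀ = ⊤ from Subsingleton.elim _ _, Subgroup.index_top] at hidx
      exact absurd hidx (Nat.one_lt_pow (by norm_num) hp.out.one_lt).ne
    · exact h
  obtain ⟨k, hk, hcard⟩ := hEp.nontrivial_iff_card.1 hnt
  obtain ⟨a, ha⟩ := exists_prime_orderOf_dvd_card' p (hcard ▸ dvd_pow_self p (by omega) : p ∣ Nat.card E₀)
  have haT : (a : Ω) ∈ T := ⟨a.2, by
    rw [← SubgroupClass.coe_pow, ← ha, pow_orderOf_eq_one, OneMemClass.coe_one]⟩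
  have h := le_core hT haT
  rw [hcore, mem_bot, OneMemClass.coe_eq_one] at h
  rw [h, orderOf_one] at ha
  exact hp.out.one_lt.ne ha

end CfsgLib.Fusion.RankThree
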