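import Cfsg.Agent.Fusion.RankThree.Deep

/-!
The reducible case: the third generator and the Frattini subgroup are central and fixed.
-/

set_option autoImplicit false
set_option linter.unusedSectionVars false
set_option linter.style.haveILetI false

open Cfsg Cfsg.FusionSystem Subgroup
open scoped commutatorElement

namespace CfsgLib.Fusion.RankThree

universe u

section group

variable {G : Type*} [Group G] {p : ℕ} [hp : Fact p.Prime]

/-- Once the first layer falls two steps, all do. -/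
theorem layers_fall (hp2 : p ≠ 2) (τ : MulAut G)
    (h1 : ∀ a ∈ ser p G 1, ∀ e : G, ⁅e, a⁆ ∈ ser p G 3)
    (h2 : ∀ a ∈ ser p G 1, a⁻¹ * τ a ∈ ser p G 2) :
    ∀ i, (∀ a ∈ ser p G (i + 1), ∀ e : G, ⁅e, a⁆ ∈ ser p G (i + 3)) ∧
      ∀ a ∈ ser p G (i + 1), a⁻¹ * τ a ∈ ser p G (i + 2) := by
  intro i
  induction i with
  | zero => exact ⟨h1, h2⟩
  | succ i ih =>
    obtain ⟨hc, hτ⟩ := ih
    set π := QuotientGroup.mk' (ser p G (i + 4))
    refine ⟨fun a ha e => ?_, fun a ha => ?_⟩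
    · let T : Subgroup G := (center (G ⧸ ser p G (i + 4))).comap π
      have hle : ser p G (i + 2) ≤ T := by
        refine sup_le ((closure_le _).2 ?_) (commutator_le.2 fun b hb v _ => ?_)
        · rintro _ ⟨b, hb, rfl⟩
          refine mem_center_iff.2 fun q => ?_
          obtain ⟨v, rfl⟩ := QuotientGroup.mk'_surjective _ q
          have hr := hc b hb v
          have e1 : π (v * b ^ p * v⁻¹) = π (b ^ p) := by
            rw [← conj_pow, show v * b * v⁻¹ = ⁅v, b⁆ * b by rw [commutatorElement_def]; group,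
              pow_mul_ser hp2 (j := i + 3) (ser_succ_le _ (comm_mem_succ' hr b)), map_mul,
              show QuotientGroup.mk' (ser p G (i + 3 + 1)) (⁅v, b⁆ ^ p) = 1 from
                (QuotientGroup.eq_one_iff _).2 (pow_mem_succ hr), one_mul]
          rw [map_mul, map_mul, map_inv, mul_inv_eq_iff_eq_mul] at e1
          exact e1
        · have hr : ⁅b, v⁆ ∈ ser p G (i + 3) := by
            rw [← commutatorElement_inv]; exact inv_mem (hc b hb v)
          exact mk_mem_center hr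
      rw [← QuotientGroup.eq_one_iff, ← QuotientGroup.mk'_apply, map_commutatorElement,
        commutatorElement_eq_one_iff_mul_comm]
      exact mem_center_iff.1 (hle ha) _
    · set π' := QuotientGroup.mk' (ser p G (i + 3))
      have hle : ser p G (i + 2) ≤ (π'.comp τ.toMonoidHom).eqLocus π' := by
        refine sup_le ((closure_le _).2 ?_) (commutator_le.2 fun b hb v _ => ?_)
        · rintro _ ⟨b, hb, rfl⟩
          show π' (τ (b ^ p)) = π' (b ^ p)
          have hr := hτ b hb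
          have e1 : τ (b ^ p) = (b * (b⁻¹ * τ b)) ^ p := by rw [map_pow, mul_inv_cancel_left]
          rw [e1, pow_mul_ser hp2 (j := i + 2) (comm_mem_succ' hb _), map_mul,
            show QuotientGroup.mk' (ser p G (i + 2 + 1)) ((b⁻¹ * τ b) ^ p) = 1 from
              (QuotientGroup.eq_one_iff _).2 (pow_mem_succ hr), mul_one]
        · have hr : ⁅b, v⁆ ∈ ser p G (i + 3) := by
            rw [← commutatorElement_inv]; exact inv_mem (hc b hb v)
          show π' (τ ⁅b, v⁆) = π' ⁅b, v⁆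
          rw [show π' ⁅b, v⁆ = 1 from (QuotientGroup.eq_one_iff _).2 hr]
          exact (QuotientGroup.eq_one_iff _).2 (ser_invariant _ τ _ hr)
      exact QuotientGroup.eq.1 (Eq.symm (hle ha : π' (τ a) = π' a))

/-- An automorphism of order prime to `p` moving an element by a fixed element fixes it. -/
theorem fixed_of_step (hG : IsPGroup p G) {τ : MulAut G} {m : ℕ} (hm : ¬ p ∣ m) (hτm : τ ^ m = 1)
    {a : G} (hfix : τ (a⁻¹ * τ a) = a⁻¹ * τ a) : τ a = a := by
  obtain ⟨r, hr⟩ : ∃ r, r = a⁻¹ * τ a := ⟨_, rfl⟩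
  rw [← hr] at hfix
  have hit : ∀ k : ℕ, (τ ^ k) a = a * r ^ k := by
    intro k
    induction k with
    | zero => simp
    | succ k ih =>
      rw [pow_succ', MulAut.mul_apply, ih, map_mul, map_pow, hfix,
        show τ a = a * r by rw [hr, mul_inv_cancel_left], pow_succ', mul_assoc]
  have h1 : r ^ m = 1 := by
    have := hit m
    rw [hτm, MulAut.one_apply] at this
    exact left_eq_mul.1 this
  obtain ⟨k, hk⟩ := hG r
  have hr1 : r = 1 := orderOf_eq_one_iff.1 (Nat.eq_one_of_dvd_coprimes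
    ((hp.out.coprime_iff_not_dvd.2 hm).pow_left k) (orderOf_dvd_of_pow_eq_one hk)
    (orderOf_dvd_of_pow_eq_one h1))
  rw [hr1, eq_comm, inv_mul_eq_one] at hr
  exact hr.symm

theorem fixed_frattini [Finite G] (hG : IsPGroup p G) {τ : MulAut G} {m : ℕ} (hm : ¬ p ∣ m)
    (hτm : τ ^ m = 1) (hfall : ∀ i, ∀ a ∈ ser p G (i + 1), a⁻¹ * τ a ∈ ser p G (i + 2)) :
    ∀ a ∈ frattini G, τ a = a := by
  obtain ⟨N, hN⟩ := exists_ser_bot (p := p) hG
  have key : ∀ k i, N ≤ i + k → ∀ a ∈ ser p G (i + 1), τ a = a := by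
    intro k
    induction k with
    | zero =>
      intro i hi a ha
      have hle : ser p G (i + 1) ≤ ser p G N := by
        have hmono : ∀ {s t : ℕ}, s ≤ t → ser p G t ≤ ser p G s := fun {s t} h => by
          induction h with
          | refl => exact le_rfl
          | step _ ih => exact (ser_succ_le _).trans ih
        exact hmono (by omega)
      rw [hN] at hle
      rw [mem_bot.1 (hle ha), map_one]
    | succ k ih =>
      intro i hi a ha
      exact fixed_of_step hG hm hτm (ih (i + 1) (by omega) _ (hfall i a ha))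
  intro a ha
  rw [← ser_one hG] at ha
  exact key N 0 (by omega) a ha

end group

variable {Ω : Type u} [Group Ω] {S : Subgroup Ω} [Finite S] {p : ℕ} [hp : Fact p.Prime]
  {F : FusionSystem S}

/-- The third generator with the Frattini subgroup is central and fixed by torus and normalizer. -/
theorem central_top (hS : IsPGroup p S) (hp5 : 5 ≤ p) {E : Subgroup Ω} (hE : F.IsEssential p E)
    (hidx : (frattini E).index = p ^ 3) (hsr : Cfsg.SectionalPRankLE p 3 E) (d : Split F p E) :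
    ∀ v ∈ zpowers d.u ⊔ frattini E,
      v ∈ center E ∧ d.τ v = v ∧ conjAut S E ⟨d.x, d.hxN⟩ v = v := by
  classical
  have hES := hE.1.1
  have := finite_of_le hES
  have hEp := isPGroup_of_le hS hES
  have hp2 : p ≠ 2 := by omega
  have h1 : ser p E 1 = frattini E := ser_one hEp
  obtain ⟨hnu, hzu, hnp, hzp, -⟩ := middle_full hS hp5 hE hidx hsr d
  obtain ⟨α, -, i, j, m, a, b, l, hαz, -, hi, -⟩ := d.mixing
  have hT : ThreeGen p E d.n d.z d.u d.τ (conjAut S E ⟨d.x, d.hxN⟩) α d.μ d.ν i := by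
    refine ⟨d.μν, d.μ1, d.μ2, fun e => ?_, fun a b k h => d.indep a b k (h1 ▸ h), hnu, hzu, hnp, hzp,
      ⟨_, h1 ▸ d.τ_n, (mul_inv_cancel_left _ _).symm⟩, ⟨_, h1 ▸ d.τ_z, (mul_inv_cancel_left _ _).symm⟩,
      ⟨_, h1 ▸ d.τ_u, (mul_inv_cancel_left _ _).symm⟩, by rw [d.z_def, mul_inv_cancel_left],
      ⟨_, h1 ▸ d.x_z, (mul_inv_cancel_left _ _).symm⟩,
      ⟨j, m, _, h1 ▸ hαz, (mul_inv_cancel_left _ _).symm⟩, hi⟩
    obtain ⟨a, b, k, h⟩ := d.span e
    exact ⟨a, b, k, _, h1 ▸ h, (mul_inv_cancel_left _ _).symm⟩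
  obtain ⟨hd1, hd2⟩ := deep_step hEp hp2 hsr hT
  have hfall := layers_fall hp2 d.τ hd1 hd2
  obtain ⟨mc, hmc, hτm⟩ := d.τ_cop
  have hΦfix := fixed_frattini hEp hmc hτm fun i => (hfall i).2
  have hufix : d.τ d.u = d.u := fixed_of_step hEp hmc hτm (hΦfix _ d.τ_u)
  set C := zpowers d.u ⊔ frattini E with hC
  haveI hCn : C.Normal := normal_of_frattini_le hEp le_sup_right
  have hCfix : ∀ v ∈ C, d.τ v = v := by
    have hle : C ≤ d.τ.toMonoidHom.eqLocus (MonoidHom.id E) :=
      sup_le (zpowers_le.2 hufix) fun v hv => hΦfix v hv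
    exact fun v hv => hle hv
  -- displacements of the torus centralise `C`
  set H := centralizer (C : Set E) with hH
  have hHn : H.Normal := by rw [hH]; infer_instance
  have hdisp : ∀ e : E, e⁻¹ * d.τ e ∈ H := by
    intro e
    refine mem_centralizer_iff.2 fun v hv => ?_
    have h2 : d.τ e * v * (d.τ e)⁻¹ = e * v * e⁻¹ := by
      conv_lhs => rw [← hCfix v hv, ← map_inv, ← map_mul, ← map_mul]
      exact hCfix _ (hCn.conj_mem v hv e)
    generalize d.τ e = t at h2 ⊢
    calc v * (e⁻¹ * t) = e⁻¹ * (e * v * e⁻¹) * t := by group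
      _ = e⁻¹ * (t * v * t⁻¹) * t := by rw [h2]
      _ = e⁻¹ * t * v := by group
  have hHC : H ⊔ C = ⊤ := by
    refine (Subgroup.eq_top_iff' _).2 fun e => ?_
    have hΦ : ∀ {r}, r ∈ frattini E → r ∈ H ⊔ C := fun hr => mem_sup_right (mem_sup_right hr)
    obtain ⟨hcm, hpw⟩ := CfsgLib.PGroupBasic.commutator_pow_le_frattini hEp
    have key : ∀ {g : E} {k : ℤ}, ¬ (p : ℤ) ∣ k - 1 → (g ^ k)⁻¹ * d.τ g ∈ frattini E →
        g ∈ H ⊔ C := by
      intro g k hk hg
      by_contra hgH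
      refine hk (dvd_of_zpow_mem (hΦ (hpw g)) hgH ?_)
      have h2 : g⁻¹ * d.τ g = g ^ (k - 1) * ((g ^ k)⁻¹ * d.τ g) := by group
      have := mem_sup_left (T := C) (hdisp g)
      rw [h2] at this
      exact (Subgroup.mul_mem_cancel_right _ (hΦ hg)).1 this
    have hν : ¬ (p : ℤ) ∣ d.ν - 1 := fun h => d.μ1 (by
      obtain ⟨r, hr⟩ := d.μν
      obtain ⟨r', hr'⟩ := h
      exact ⟨r - d.μ * r', by linear_combination hr - d.μ * hr'⟩)
    obtain ⟨a', b', k', h⟩ := d.span e
    rw [← mul_inv_cancel_left (d.n ^ a' * d.z ^ b' * d.u ^ k') e]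
    exact mul_mem (mul_mem (mul_mem (zpow_mem (key hν d.τ_n) _) (zpow_mem (key d.μ1 d.τ_z) _))
      (zpow_mem (mem_sup_right (mem_sup_left (mem_zpowers d.u))) _)) (hΦ h)
  haveI : H.Normal := hHn
  have hcomm : ∀ {h c : E}, h ∈ H → c ∈ C → Commute h c := fun hh hc =>
    (mem_centralizer_iff.1 hh _ hc).symm
  -- `C` is abelian
  have hCab : ∀ v ∈ C, ∀ v' ∈ C, Commute v v' := by
    have hfr : frattini E ≤ (frattini E ⊓ H) ⊔ (frattini C).map C.subtype := by
      haveI : ((frattini C).map C.subtype).Normal := ConjAct.normal_of_characteristic_of_normal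
      refine CfsgLib.PGroupBasic.frattini_le_of_elementary (p := p) _ ?_ fun g => ?_
      · rw [_root_.commutator_def, commutator_le]
        intro g _ g' _
        obtain ⟨s, hs, c, hc, rfl⟩ := mem_sup_of_normal_right.1 (hHC.ge (mem_top g))
        obtain ⟨s', hs', c', hc', rfl⟩ := mem_sup_of_normal_right.1 (hHC.ge (mem_top g'))
        have e : ⁅s * c, s' * c'⁆ = ⁅s, s'⁆ * ⁅c, c'⁆ := by
          simp only [commutatorElement_def, mul_inv_rev]
          have a3 := (hcomm hs' hc).eq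
          calc s * c * (s' * c') * (c⁻¹ * s⁻¹) * (c'⁻¹ * s'⁻¹)
              = s * (c * s') * c' * c⁻¹ * (s⁻¹ * c'⁻¹) * s'⁻¹ := by group
            _ = s * (s' * c) * c' * c⁻¹ * (c'⁻¹ * s⁻¹) * s'⁻¹ := by
                rw [← a3, ((hcomm hs hc').inv_inv).eq]
            _ = s * s' * (c * c' * c⁻¹ * c'⁻¹ * (s⁻¹ * s'⁻¹)) := by group
            _ = s * s' * ((s⁻¹ * s'⁻¹) * (c * c' * c⁻¹ * c'⁻¹)) := by
                rw [(hcomm (mul_mem (Subgroup.inv_mem _ hs) (Subgroup.inv_mem _ hs'))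
                  (mul_mem (mul_mem (mul_mem hc hc') (Subgroup.inv_mem _ hc)) (Subgroup.inv_mem _ hc'))).eq]
            _ = s * s' * s⁻¹ * s'⁻¹ * (c * c' * c⁻¹ * c'⁻¹) := by group
        rw [e]
        refine mul_mem (mem_sup_left ⟨(CfsgLib.PGroupBasic.commutator_pow_le_frattini hEp).1
          (commutator_mem_commutator (mem_top _) (mem_top _)), ?_⟩) (mem_sup_right
          ⟨⁅(⟨c, hc⟩ : C), ⟨c', hc'⟩⁆, (CfsgLib.PGroupBasic.commutator_pow_le_frattini
            (hEp.to_subgroup C)).1 (commutator_mem_commutator (mem_top _) (mem_top _)),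
            map_commutatorElement C.subtype _ _⟩)
        exact mul_mem (mul_mem (mul_mem hs hs') (Subgroup.inv_mem _ hs)) (Subgroup.inv_mem _ hs')
      · obtain ⟨s, hs, c, hc, rfl⟩ := mem_sup_of_normal_right.1 (hHC.ge (mem_top g))
        rw [(hcomm hs hc).mul_pow]
        exact mul_mem (mem_sup_left ⟨(CfsgLib.PGroupBasic.commutator_pow_le_frattini hEp).2 _,
          pow_mem hs p⟩) (mem_sup_right ⟨(⟨c, hc⟩ : C) ^ p,
          (CfsgLib.PGroupBasic.commutator_pow_le_frattini (hEp.to_subgroup C)).2 _,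
          map_pow C.subtype _ p⟩)
    let K : Subgroup E := zpowers d.u ⊔ (frattini E ⊓ H)
    have hKC : K.subgroupOf C ⊔ frattini C = ⊤ := by
      have hKle : K ≤ C := sup_le le_sup_left (inf_le_left.trans le_sup_right)
      refine (Subgroup.eq_top_iff' _).2 fun v => ?_
      have hle : C ≤ (K.subgroupOf C ⊔ frattini C).map C.subtype := by
        rw [Subgroup.map_sup, Subgroup.subgroupOf_map_subtype, inf_eq_left.2 hKle]
        refine sup_le (le_sup_left.trans le_sup_left) (hfr.trans ?_)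
        exact sup_le (le_sup_right.trans le_sup_left) le_sup_right
      obtain ⟨w, hw, e⟩ := hle v.2
      rwa [show w = v from Subtype.ext e] at hw
    have hKtop : K.subgroupOf C = ⊤ := frattini_nongenerating hKC
    have hKab : ∀ v ∈ K, ∀ v' ∈ K, Commute v v' := by
      intro v hv v' hv'
      have hFC : ∀ {r}, r ∈ frattini E ⊓ H → r ∈ C := fun hr => mem_sup_right hr.1
      have hle : K ≤ centralizer (K : Set E) := by
        refine sup_le (zpowers_le.2 ?_) fun r hr => ?_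
        · have : K ≤ centralizer ({d.u} : Set E) := sup_le (zpowers_le.2
            (mem_centralizer_singleton_iff.2 rfl)) fun r hr =>
              mem_centralizer_singleton_iff.2 (hcomm hr.2 (mem_sup_left (mem_zpowers d.u))).eq
          exact mem_centralizer_iff.2 fun g hg => mem_centralizer_singleton_iff.1 (this hg)
        · refine mem_centralizer_iff.2 fun g hg => ?_
          exact (hcomm hr.2 ((sup_le le_sup_left (fun _ h => hFC h) : K ≤ C) hg)).symm.eq
      exact (mem_centralizer_iff.1 (hle hv) _ hv').symm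
    intro v hv v' hv'
    exact hKab v (hKtop.ge (mem_top (⟨v, hv⟩ : C)) : (⟨v, hv⟩ : C) ∈ K.subgroupOf C) v'
      (hKtop.ge (mem_top (⟨v', hv'⟩ : C)) : (⟨v', hv'⟩ : C) ∈ K.subgroupOf C)
  have hCcen : ∀ v ∈ C, v ∈ center E := fun v hv => mem_center_iff.2 fun g => by
    obtain ⟨s, hs, c, hc, rfl⟩ := mem_sup_of_normal_right.1 (hHC.ge (mem_top g))
    exact ((hcomm hs hv).mul_left (hCab c hc v hv)).eq
  intro v hv
  refine ⟨hCcen v hv, hCfix v hv, ?_⟩
  -- conjugation by the outer element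
  set Z := centralizer ({(v : Ω)} : Set Ω)
  have hEZ : ∀ {g : Ω}, g ∈ E → g ∈ Z := fun {g} hg =>
    mem_centralizer_singleton_iff.2 (congrArg Subtype.val (mem_center_iff.1 (hCcen v hv) ⟨g, hg⟩))
  obtain ⟨h, hh, hhE, hhcj⟩ := d.τ_x
  set y := conjAut S E ⟨d.x, d.hxN⟩ with hy
  have hyC : y v ∈ C := by
    have hle : C ≤ C.comap y.toMonoidHom := sup_le (zpowers_le.2 (by
      show y d.u ∈ C
      rw [← mul_inv_cancel_left d.u (y d.u)]
      exact mul_mem (mem_sup_left (mem_zpowers _)) (mem_sup_right d.x_u)))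
      fun r hr => mem_sup_right (frattini_inv y hr)
    exact hle hv
  have e1 := congrArg (fun γ : MulAut E => ((γ v : E) : Ω)) hhcj
  simp only [MulAut.mul_apply, hCfix v hv, ← hy, hCfix _ hyC] at e1
  -- so `x ^ (μ ^ 2 - 1)` centralises
  have hx2 : d.x ^ (d.μ ^ 2 - 1) ∈ Z := by
    obtain ⟨e₀, he₀, rfl⟩ : ∃ e₀ ∈ E, h = e₀ * d.x ^ (d.μ ^ 2) := ⟨_, hhE, by group⟩
    have e2 : d.x * v * d.x⁻¹ = e₀ * d.x ^ (d.μ ^ 2) * v * (e₀ * d.x ^ (d.μ ^ 2))⁻¹ := e1
    have hcom : e₀ * (d.x * (v : Ω) * d.x⁻¹) = d.x * v * d.x⁻¹ * e₀ :=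
      congrArg Subtype.val (mem_center_iff.1 (hCcen _ hyC) ⟨e₀, he₀⟩)
    refine mem_centralizer_singleton_iff.2 ?_
    have e3 : d.x ^ (d.μ ^ 2) * (v : Ω) * (d.x ^ (d.μ ^ 2))⁻¹ = d.x * v * d.x⁻¹ := by
      calc d.x ^ (d.μ ^ 2) * (v : Ω) * (d.x ^ (d.μ ^ 2))⁻¹
          = e₀⁻¹ * (e₀ * d.x ^ (d.μ ^ 2) * v * (e₀ * d.x ^ (d.μ ^ 2))⁻¹) * e₀ := by group
        _ = e₀⁻¹ * (d.x * v * d.x⁻¹ * e₀) := by rw [← e2]; group
        _ = d.x * v * d.x⁻¹ := by rw [← hcom, inv_mul_cancel_left]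
    calc d.x ^ (d.μ ^ 2 - 1) * (v : Ω)
        = d.x⁻¹ * (d.x ^ (d.μ ^ 2) * v * (d.x ^ (d.μ ^ 2))⁻¹) * d.x ^ (d.μ ^ 2) := by group
      _ = v * d.x ^ (d.μ ^ 2 - 1) := by rw [e3]; group
  have hxp : d.x ^ p ∈ Z := hEZ (pow_mem_of_flag hS (by omega) hE hidx d.hxN)
  have hxZ : d.x ∈ Z := by
    by_contra hx
    exact d.μ2 (dvd_of_zpow_mem hxp hx hx2)
  refine Subtype.ext ?_
  show d.x * (v : Ω) * d.x⁻¹ = v
  rw [mem_centralizer_singleton_iff.1 hxZ, mul_inv_cancel_right]

end CfsgLib.Fusion.RankThree
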