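import Cfsg.Agent.Fusion.RankThree.Basic
import Cfsg.Agent.Fusion.NormalCriteria
import Cfsg.Agent.Fusion.SmallEssential
import Cfsg.Agent.Fusion.MetacyclicAut

/-!
Chains above the Frattini subgroup of an essential subgroup.
-/

set_option autoImplicit false
set_option linter.unusedSectionVars false

open Cfsg Cfsg.FusionSystem Subgroup
open scoped commutatorElement

namespace CfsgLib.Fusion.RankThree

universe u

theorem normal_of_frattini_le {G : Type u} [Group G] [Finite G] {p : ℕ} [Fact p.Prime]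
    (hG : IsPGroup p G) {K : Subgroup G} (hK : frattini G ≤ K) : K.Normal :=
  ⟨fun x hx g => by
    have := mul_mem (hK ((CfsgLib.PGroupBasic.commutator_pow_le_frattini hG).1
      (commutator_mem_commutator (mem_top g) (mem_top x)))) hx
    rwa [commutatorElement_def, inv_mul_cancel_right] at this⟩

theorem frattini_inv {G : Type u} [Group G] (α : MulAut G) {x : G} (hx : x ∈ frattini G) :
    α x ∈ frattini G :=
  Subgroup.characteristic_iff_le_comap.1 frattini_characteristic α hx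

theorem trivial_mod_frattini {G : Type u} [Group G] [Finite G] {p : ℕ} [Fact p.Prime]
    (hG : IsPGroup p G) (γ : MulAut G) {m : ℕ} (D : Fin (m + 1) → Subgroup G)
    (hinv : ∀ i, ∀ x ∈ D i, γ x ∈ D i) (h0 : D 0 = frattini G)
    (hlayer : ∀ i : Fin m, ∀ x ∈ D i.succ, x⁻¹ * γ x ∈ D i.castSucc) :
    ∀ i, ∃ k, ∀ x ∈ D i, x⁻¹ * (γ ^ p ^ k) x ∈ frattini G := by
  intro i
  induction i using Fin.induction with
  | zero =>
    refine ⟨0, fun x hx => ?_⟩
    rw [h0] at hx
    exact mul_mem (inv_mem hx) (frattini_inv _ hx)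
  | succ i ih =>
    obtain ⟨k, hk⟩ := ih
    refine ⟨k + 1, fun x hx => ?_⟩
    set π := QuotientGroup.mk' (frattini G)
    have h1 : ∀ n : ℕ, x⁻¹ * (γ ^ n) x ∈ D i.castSucc := by
      intro n
      induction n with
      | zero => simp
      | succ n ih =>
        have e : x⁻¹ * (γ ^ (n + 1)) x = (x⁻¹ * γ x) * γ (x⁻¹ * (γ ^ n) x) := by
          rw [pow_succ', MulAut.mul_apply, map_mul, map_inv]; group
        rw [e]
        exact mul_mem (hlayer i x hx) (hinv _ _ ih)
    set δ := γ ^ p ^ k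
    obtain ⟨d, hd⟩ : ∃ d, x⁻¹ * δ x = d := ⟨_, rfl⟩
    have e' : δ x = x * d := by rw [← hd, mul_inv_cancel_left]
    have h2 : ∀ n : ℕ, π ((δ ^ n) x) = π x * π d ^ n := by
      intro n
      induction n with
      | zero => simp
      | succ n ih =>
        have e : (δ ^ n) x = x * (x⁻¹ * (δ ^ n) x) := (mul_inv_cancel_left _ _).symm
        have hfix : π (δ (x⁻¹ * (δ ^ n) x)) = π (x⁻¹ * (δ ^ n) x) :=
          (QuotientGroup.eq.2 (hk _ (by rw [← pow_mul]; exact h1 _))).symm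
        rw [pow_succ', MulAut.mul_apply, e, map_mul, map_mul, hfix, e', map_mul π x d,
          map_mul π x⁻¹, map_inv, ih, inv_mul_cancel_left, pow_succ', mul_assoc]
    rw [← QuotientGroup.eq_one_iff, ← QuotientGroup.mk'_apply, map_mul, map_inv, inv_mul_eq_one,
      pow_succ, pow_mul, h2, ← map_pow π d,
      show π (d ^ p) = 1 from (QuotientGroup.eq_one_iff _).2
        ((CfsgLib.PGroupBasic.commutator_pow_le_frattini hG).2 _), mul_one]

variable {Ω : Type u} [Group Ω] {S : Subgroup Ω} [Finite S] {p : ℕ} [hp : Fact p.Prime]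
  {F : FusionSystem S}

/-- Conjugations stabilizing an invariant chain above the Frattini subgroup lie in the essential
subgroup. -/
theorem mem_of_frattini_chain (hS : IsPGroup p S) {E : Subgroup Ω} (hE : F.IsEssential p E) {m : ℕ}
    (D : Fin (m + 1) → Subgroup E) (h0 : D 0 = frattini E) (htop : D (Fin.last m) = ⊤)
    (hinv : ∀ α ∈ F.autGroup E, ∀ i, ∀ x ∈ D i, α x ∈ D i) {g : Ω} (hg : g ∈ normalizerIn S E)
    (hgD : ∀ i : Fin m, ∀ x ∈ D i.succ, x⁻¹ * conjAut S E ⟨g, hg⟩ x ∈ D i.castSucc) : g ∈ E := by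
  have := finite_of_le hE.1.1
  have : Finite (MulAut E) := finite_mulAut
  have hEp := isPGroup_of_le hS hE.1.1
  have hgA : conjAut S E ⟨g, hg⟩ ∈ F.autGroup E :=
    autInducedBy_le_autGroup hE.1.1 (mem_autInducedBy.2 ⟨g, hg.1, fun _ => rfl⟩)
  let L : Submonoid (MulAut E) :=
    { carrier := {γ | γ ∈ F.autGroup E ∧ ∀ i : Fin m, ∀ x ∈ D i.succ, x⁻¹ * γ x ∈ D i.castSucc}
      one_mem' := ⟨one_mem _, fun i x _ => by simp⟩
      mul_mem' := by
        rintro γ δ ⟨hγA, hγ⟩ ⟨hδA, hδ⟩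
        refine ⟨mul_mem hγA hδA, fun i x hx => ?_⟩
        have h1 := hδ i x hx
        have h2 := hγ i (δ x) (hinv δ hδA _ x hx)
        have e : x⁻¹ * (γ * δ) x = (x⁻¹ * δ x) * ((δ x)⁻¹ * γ (δ x)) := by
          rw [MulAut.mul_apply]; group
        rw [e]
        exact mul_mem h1 h2 }
  let L' : Subgroup (MulAut E) :=
    { L with
      inv_mem' := fun {γ} hγ => by
        have e : γ⁻¹ = γ ^ (orderOf γ - 1) := by
          refine inv_eq_of_mul_eq_one_left ?_
          rw [← pow_succ, Nat.sub_add_cancel (orderOf_pos γ), pow_orderOf_eq_one]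
        show γ⁻¹ ∈ L
        rw [e]
        exact L.pow_mem hγ _ }
  have hle : L' ≤ Inn E := by
    refine le_inn_of_radical p (isRadical_of_essential p hS hE) (fun γ hγ => hγ.1)
      (fun α hα γ hγ => ?_) fun γ hγ => ?_
    · refine ⟨mul_mem (mul_mem hα hγ.1) (inv_mem hα), fun i x hx => ?_⟩
      have h1 := hγ.2 i (α⁻¹ x) (hinv _ (inv_mem hα) _ x hx)
      have h2 := hinv α hα _ _ h1
      simpa [MulAut.mul_apply] using h2
    · obtain ⟨k, hk⟩ := trivial_mod_frattini hEp γ D (hinv γ hγ.1) h0 hγ.2 (Fin.last m)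
      have hmem : γ ^ p ^ k ∈ CfsgLib.MetacyclicAut.frattiniKernel E := fun x => by
        haveI : (frattini E).Normal := inferInstance
        exact (inferInstance : (frattini E).Normal).mem_comm (hk x (htop.ge trivial))
      obtain ⟨j, hj⟩ := (CfsgLib.MetacyclicAut.isPGroup_frattiniKernel hEp) ⟨_, hmem⟩
      refine ⟨k + j, ?_⟩
      rw [pow_add, pow_mul]
      exact congrArg Subtype.val hj
  exact (inn_mem_iff hE.1 hg.1 fun x => rfl).1 (hle ⟨hgA, hgD⟩)

/-- The conjugation by an element of `S` is trivial modulo the Frattini subgroup only inside. -/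
theorem mem_of_trivial_mod (hS : IsPGroup p S) {E : Subgroup Ω} (hE : F.IsEssential p E) {g : Ω}
    (hg : g ∈ normalizerIn S E) (h : ∀ x : E, x⁻¹ * conjAut S E ⟨g, hg⟩ x ∈ frattini E) : g ∈ E := by
  refine mem_of_frattini_chain hS hE (m := 1) ![frattini E, ⊤] rfl rfl (fun α _ i x hx => ?_) hg
    fun i x _ => ?_
  · fin_cases i
    · exact frattini_inv α hx
    · trivial
  · fin_cases i
    exact h x

/-- A layer above an invariant subgroup on which `Aut_S` acts trivially. -/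
theorem exists_layer (hS : IsPGroup p S) {E : Subgroup Ω} (hES : E ≤ S) (K : Subgroup E)
    (hK : frattini E ≤ K) (hKt : K ≠ ⊤) (hinv : ∀ α ∈ autInducedBy S E, ∀ x ∈ K, α x ∈ K) :
    ∃ y : E, y ∉ K ∧ ∀ α ∈ autInducedBy S E, y⁻¹ * α y ∈ K := by
  have := finite_of_le hES
  have hEp := isPGroup_of_le hS hES
  haveI := normal_of_frattini_le hEp hK
  let A := autInducedBy S E
  have hw : ∀ α : A, K ≤ K.comap (α : MulAut E).toMonoidHom := fun α x hx => hinv _ α.2 x hx
  let act : MulAction A (E ⧸ K) :=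
    { smul := fun α v => QuotientGroup.map K K (α : MulAut E).toMonoidHom (hw α) v
      one_smul := fun v => by
        induction v using QuotientGroup.induction_on with
        | H x => rfl
      mul_smul := fun α β v => by
        induction v using QuotientGroup.induction_on with
        | H x => rfl }
  letI := act
  have hdvd : p ∣ Nat.card (E ⧸ K) := by
    obtain ⟨k, hk⟩ := hEp.index K
    rw [Subgroup.index_eq_card] at hk
    have hk0 : k ≠ 0 := fun h0 => hKt (Subgroup.index_eq_one.1 (by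
      rw [Subgroup.index_eq_card, hk, h0, pow_zero]))
    rw [hk]; exact dvd_pow_self p hk0
  have h1 : (1 : E ⧸ K) ∈ MulAction.fixedPoints A (E ⧸ K) := fun α =>
    map_one (QuotientGroup.map K K (α : MulAut E).toMonoidHom (hw α))
  obtain ⟨v, hv, hv1⟩ :=
    (isPGroup_autInducedBy hS E).exists_fixed_point_of_prime_dvd_card_of_fixed_point (E ⧸ K) hdvd h1
  induction v using QuotientGroup.induction_on with
  | H y =>
    exact ⟨y, fun hy => hv1 ((QuotientGroup.eq_one_iff y).2 hy).symm,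
      fun α hα => QuotientGroup.eq.1 (hv ⟨α, hα⟩).symm⟩

theorem sup_layer {E : Subgroup Ω} (hES : E ≤ S) {K : Subgroup E} {y : E}
    (hy : ∀ α ∈ autInducedBy S E, y⁻¹ * α y ∈ K)
    (hinv : ∀ α ∈ autInducedBy S E, ∀ x ∈ K, α x ∈ K) :
    ∀ α ∈ autInducedBy S E, ∀ x ∈ zpowers y ⊔ K, α x ∈ zpowers y ⊔ K := by
  intro α hα
  have hle : zpowers y ⊔ K ≤ (zpowers y ⊔ K).comap α.toMonoidHom := by
    refine sup_le (zpowers_le.2 ?_) fun x hx => mem_sup_right (hinv α hα x hx)
    show α y ∈ zpowers y ⊔ K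
    rw [← mul_inv_cancel_left y (α y)]
    exact mul_mem (mem_sup_left (mem_zpowers y)) (mem_sup_right (hy α hα))
  exact fun x hx => hle hx

/-- A flag of the Frattini quotient fixed by `Aut_S`. -/
theorem exists_flag (hS : IsPGroup p S) {E : Subgroup Ω} (hES : E ≤ S)
    (hidx : (frattini E).index = p ^ 3) :
    ∃ V₁ V₂ : Subgroup E, frattini E < V₁ ∧ V₁ < V₂ ∧ V₂ < ⊤ ∧
      (∀ α ∈ autInducedBy S E, ∀ x ∈ V₁, α x ∈ V₁) ∧
      (∀ α ∈ autInducedBy S E, ∀ x ∈ V₂, α x ∈ V₂) ∧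
      (∀ α ∈ autInducedBy S E, ∀ x ∈ V₁, x⁻¹ * α x ∈ frattini E) ∧
      (∀ α ∈ autInducedBy S E, ∀ x ∈ V₂, x⁻¹ * α x ∈ V₁) ∧
      ∀ α ∈ autInducedBy S E, ∀ x : E, x⁻¹ * α x ∈ V₂ := by
  classical
  have := finite_of_le hES
  have hEp := isPGroup_of_le hS hES
  have hF : ∀ α ∈ autInducedBy S E, ∀ x ∈ frattini E, α x ∈ frattini E := fun α _ x hx =>
    frattini_inv α hx
  have hcard : Nat.card E = p ^ 3 * Nat.card (frattini E) := by
    rw [← hidx, mul_comm, Subgroup.card_mul_index]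
  have hpos : 0 < Nat.card (frattini E) := Nat.card_pos
  have hstep : ∀ (K : Subgroup E) (y : E), frattini E ≤ K →
      Nat.card (zpowers y ⊔ K : Subgroup E) ≤ p * Nat.card K := fun K y hK => by
    haveI := normal_of_frattini_le hEp hK
    exact CfsgLib.PGroupBasic.card_sup_zpowers_le K y
      (hK ((CfsgLib.PGroupBasic.commutator_pow_le_frattini hEp).2 y))
  have hsucc : ∀ (K : Subgroup E) (y : E), y ∉ K → K < zpowers y ⊔ K := fun K y hy =>
    lt_of_le_of_ne le_sup_right fun e => hy (by rw [e]; exact mem_sup_left (mem_zpowers y))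
  have hne : ∀ K : Subgroup E, Nat.card K < Nat.card E → K ≠ ⊤ := fun K hK e => by
    rw [e, Subgroup.card_top] at hK; exact lt_irrefl _ hK
  obtain ⟨y₁, hy₁, hy₁'⟩ := exists_layer hS hES (frattini E) le_rfl (hne _ (by
    rw [hcard]; exact lt_mul_left hpos (Nat.one_lt_pow (by norm_num) hp.out.one_lt))) hF
  set V₁ := zpowers y₁ ⊔ frattini E with hV₁
  have h01 := hsucc _ _ hy₁
  have hi₁ := sup_layer hES hy₁' hF
  have c1 : Nat.card V₁ ≤ p * Nat.card (frattini E) := hstep _ _ le_rfl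
  obtain ⟨y₂, hy₂, hy₂'⟩ := exists_layer hS hES V₁ le_sup_right (hne _ (lt_of_le_of_lt c1 (by
    rw [hcard]; exact Nat.mul_lt_mul_of_pos_right (lt_self_pow₀ hp.out.one_lt (by norm_num)) hpos))) hi₁
  set V₂ := zpowers y₂ ⊔ V₁ with hV₂
  have h12 := hsucc _ _ hy₂
  have hi₂ := sup_layer hES hy₂' hi₁
  have c2 : Nat.card V₂ ≤ p ^ 2 * Nat.card (frattini E) := by
    refine (hstep _ _ le_sup_right).trans ?_
    rw [pow_two, mul_assoc]
    exact Nat.mul_le_mul_left p c1
  have hV₂t : V₂ ≠ ⊤ := hne _ (lt_of_le_of_lt c2 (by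
    rw [hcard]; exact Nat.mul_lt_mul_of_pos_right (Nat.pow_lt_pow_right hp.out.one_lt (by norm_num)) hpos))
  have hle₂ : frattini E ≤ V₂ := h01.le.trans h12.le
  obtain ⟨y₃, hy₃, hy₃'⟩ := exists_layer hS hES V₂ hle₂ hV₂t hi₂
  have hgen : ∀ (K : Subgroup E) (y : E), frattini E ≤ K →
      (∀ α ∈ autInducedBy S E, ∀ x ∈ K, α x ∈ K) → (∀ α ∈ autInducedBy S E, y⁻¹ * α y ∈ K) →
      ∀ α ∈ autInducedBy S E, (∀ x ∈ K, x⁻¹ * α x ∈ K) →
        ∀ x ∈ zpowers y ⊔ K, x⁻¹ * α x ∈ K := by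
    intro K y hK _ hy α hα hKα x hx
    haveI := normal_of_frattini_le hEp hK
    rw [← QuotientGroup.eq_one_iff, QuotientGroup.mk_mul, QuotientGroup.mk_inv, inv_mul_eq_one]
    let f : E →* E ⧸ K := (QuotientGroup.mk' K).comp α.toMonoidHom
    have hle : zpowers y ⊔ K ≤ f.eqLocus (QuotientGroup.mk' K) :=
      sup_le (zpowers_le.2 (QuotientGroup.eq.2 (hy α hα)).symm)
        fun z hz => (QuotientGroup.eq.2 (hKα z hz)).symm
    exact (hle hx).symm
  refine ⟨V₁, V₂, h01, h12, lt_top_iff_ne_top.2 hV₂t, hi₁, hi₂, fun α hα x hx => ?_,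
    fun α hα x hx => ?_, fun α hα x => ?_⟩
  · exact hgen _ _ le_rfl hF hy₁' α hα (fun z hz => mul_mem (inv_mem hz) (hF α hα z hz)) x hx
  · exact hgen _ _ h01.le hi₁ hy₂' α hα (fun z hz => mul_mem (inv_mem hz) (hi₁ α hα z hz)) x hx
  · have htop : zpowers y₃ ⊔ V₂ = ⊤ := by
      refine Subgroup.eq_top_of_le_card _ ?_
      have h23 := hsucc _ _ hy₃
      have d1 := CfsgLib.Solvable.card_lt_of_lt h01
      have d2 := CfsgLib.Solvable.card_lt_of_lt h12
      have d3 := CfsgLib.Solvable.card_lt_of_lt h23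
      obtain ⟨a, ha⟩ := IsPGroup.iff_card.1 (hEp.to_subgroup (frattini E))
      obtain ⟨b, hb⟩ := IsPGroup.iff_card.1 (hEp.to_subgroup V₁)
      obtain ⟨c, hc⟩ := IsPGroup.iff_card.1 (hEp.to_subgroup V₂)
      obtain ⟨d, hd⟩ := IsPGroup.iff_card.1 (hEp.to_subgroup (zpowers y₃ ⊔ V₂ : Subgroup E))
      rw [ha, hb, Nat.pow_lt_pow_iff_right hp.out.one_lt] at d1
      rw [hb, hc, Nat.pow_lt_pow_iff_right hp.out.one_lt] at d2
      rw [hc, hd, Nat.pow_lt_pow_iff_right hp.out.one_lt] at d3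
      rw [hcard, ha, hd, ← pow_add]
      exact Nat.pow_le_pow_right hp.out.pos (by omega)
    exact hgen _ _ hle₂ hi₂ hy₃' α hα (fun z hz => mul_mem (inv_mem hz) (hi₂ α hα z hz)) x
      (htop.ge (mem_top x))

/-- `p`-th powers of elements normalizing an essential subgroup with three generators lie in it. -/
theorem pow_mem_of_flag (hS : IsPGroup p S) (hp3 : 3 ≤ p) {E : Subgroup Ω}
    (hE : F.IsEssential p E) (hidx : (frattini E).index = p ^ 3) {h : Ω}
    (hh : h ∈ normalizerIn S E) : h ^ p ∈ E := by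
  have := finite_of_le hE.1.1
  have hEp := isPGroup_of_le hS hE.1.1
  obtain ⟨V₁, V₂, h01, h12, -, -, hi₂, l1, l2, l3⟩ := exists_flag hS hE.1.1 hidx
  refine mem_of_trivial_mod hS hE (pow_mem hh p) fun x => ?_
  set γ := conjAut S E ⟨h, hh⟩
  have hγ : γ ∈ autInducedBy S E := mem_autInducedBy.2 ⟨h, hh.1, fun _ => rfl⟩
  have e : conjAut S E ⟨h ^ p, pow_mem hh p⟩ = γ ^ p := map_pow (conjAut S E) ⟨h, hh⟩ p
  rw [e]
  set π := QuotientGroup.mk' (frattini E)
  set d := x⁻¹ * γ x with hd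
  set d2 := d⁻¹ * γ d with hd2
  have hd2m : d2 ∈ V₁ := l2 γ hγ d (l3 γ hγ x)
  have e2 : π (γ d2) = π d2 := (QuotientGroup.eq.2 (l1 γ hγ d2 hd2m)).symm
  have e1 : γ d = d * d2 := (mul_inv_cancel_left _ _).symm
  have hcm : ∀ a b : E ⧸ frattini E, Commute a b := fun a b => by
    obtain ⟨a, rfl⟩ := QuotientGroup.mk'_surjective _ a
    obtain ⟨b, rfl⟩ := QuotientGroup.mk'_surjective _ b
    rw [← commutatorElement_eq_one_iff_commute, ← map_commutatorElement]
    exact (QuotientGroup.eq_one_iff _).2 ((CfsgLib.PGroupBasic.commutator_pow_le_frattini hEp).1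
      (commutator_mem_commutator (mem_top a) (mem_top b)))
  have hn : ∀ n : ℕ, π ((γ ^ n) x) = π x * π d ^ n * π d2 ^ (n.choose 2) := by
    intro n
    induction n with
    | zero => simp
    | succ n ih =>
      have hr : (x * d ^ n * d2 ^ n.choose 2)⁻¹ * (γ ^ n) x ∈ frattini E :=
        QuotientGroup.eq.1 (by
          show π (x * d ^ n * d2 ^ n.choose 2) = π ((γ ^ n) x)
          rw [ih]; simp only [map_mul, map_pow])
      have e3 : π (γ ((γ ^ n) x)) = π (γ (x * d ^ n * d2 ^ n.choose 2)) :=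
        (QuotientGroup.eq.2 (by rw [← map_inv, ← map_mul]; exact frattini_inv γ hr)).symm
      rw [pow_succ', MulAut.mul_apply, e3]
      simp only [map_mul, map_pow]
      rw [show γ x = x * d from (mul_inv_cancel_left _ _).symm, e1]
      simp only [map_mul, map_pow, e2]
      rw [(hcm (π d) (π d2)).mul_pow, Nat.choose_succ_succ n 1, Nat.choose_one_right, pow_succ',
        pow_add]
      simp only [mul_assoc]
  rw [← QuotientGroup.eq_one_iff, ← QuotientGroup.mk'_apply, map_mul, map_inv, inv_mul_eq_one, hn]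
  have hpw : ∀ a : E, π a ^ p = 1 := fun a => by
    rw [← map_pow]
    exact (QuotientGroup.eq_one_iff _).2 ((CfsgLib.PGroupBasic.commutator_pow_le_frattini hEp).2 a)
  obtain ⟨m, hm⟩ := hp.out.dvd_choose_self two_ne_zero (show 2 < p by omega)
  rw [hpw, hm, pow_mul, hpw, one_pow, mul_one, mul_one]

end CfsgLib.Fusion.RankThree
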