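import Cfsg.Agent.Fusion.RankThree.Basic
import Cfsg.Agent.Solvable.Basics

/-!
Groups of class two and exponent `p` with central quotient of order `p ^ 3`.
-/

set_option autoImplicit false

open Subgroup
open scoped commutatorElement

namespace CfsgLib.Fusion.RankThree

variable {W : Type*} [Group W] {p : ℕ} [hp : Fact p.Prime]

/-- Four elements are independent when only trivial monomials in them are trivial. -/
def Indep4 (p : ℕ) (a : Fin 4 → W) : Prop :=
  ∀ e : Fin 4 → ℤ, a 0 ^ e 0 * a 1 ^ e 1 * a 2 ^ e 2 * a 3 ^ e 3 = 1 → ∀ i, (p : ℤ) ∣ e i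

theorem dvd_of_zpow_mem {H : Subgroup W} {x : W} (hx : x ^ p ∈ H) (hxH : x ∉ H) {i : ℤ}
    (hi : x ^ i ∈ H) : (p : ℤ) ∣ i := by
  by_contra h
  obtain ⟨a, b, hab⟩ : ∃ a b : ℤ, a * i + b * p = 1 := by
    have hc : IsCoprime i (p : ℤ) :=
      ((Nat.prime_iff_prime_int.1 hp.out).coprime_iff_not_dvd.2 h).symm
    exact hc
  apply hxH
  rw [← zpow_one x, ← hab, zpow_add, mul_comm a, zpow_mul, mul_comm b, zpow_mul, zpow_natCast]
  exact mul_mem (zpow_mem hi a) (zpow_mem hx b)

/-- Elements chosen one outside the span of the previous ones are independent. -/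
theorem indep_chain (a : Fin 4 → W) (hexp : ∀ i, a i ^ p = 1) (h0 : a 0 ≠ 1)
    (h1 : a 1 ∉ zpowers (a 0)) (h2 : a 2 ∉ zpowers (a 1) ⊔ zpowers (a 0))
    (h3 : a 3 ∉ zpowers (a 2) ⊔ (zpowers (a 1) ⊔ zpowers (a 0))) : Indep4 p a := by
  intro e he
  set H1 := zpowers (a 0)
  set H2 := zpowers (a 1) ⊔ H1
  set H3 := zpowers (a 2) ⊔ H2
  have m0 : a 0 ^ e 0 ∈ H1 := zpow_mem (mem_zpowers _) _
  have m1 : a 0 ^ e 0 * a 1 ^ e 1 ∈ H2 :=
    mul_mem (mem_sup_right m0) (mem_sup_left (zpow_mem (mem_zpowers _) _))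
  have m2 : a 0 ^ e 0 * a 1 ^ e 1 * a 2 ^ e 2 ∈ H3 :=
    mul_mem (mem_sup_right m1) (mem_sup_left (zpow_mem (mem_zpowers _) _))
  have key : ∀ {H : Subgroup W} {x y : W}, y ∈ H → x ^ p = 1 → x ∉ H → ∀ {i : ℤ}, y * x ^ i ∈ H →
      (p : ℤ) ∣ i := fun hy hx hxH i hi =>
    dvd_of_zpow_mem (by rw [hx]; exact one_mem _) hxH ((Subgroup.mul_mem_cancel_left _ hy).1 hi)
  have triv : ∀ {x : W}, x ^ p = 1 → ∀ {i : ℤ}, (p : ℤ) ∣ i → x ^ i = 1 := by
    rintro x hx i ⟨m, rfl⟩
    rw [zpow_mul, zpow_natCast, hx, one_zpow]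
  have d3 := key m2 (hexp 3) h3 (by rw [he]; exact one_mem _)
  rw [triv (hexp 3) d3, mul_one] at he
  have d2 := key m1 (hexp 2) h2 (by rw [he]; exact one_mem _)
  rw [triv (hexp 2) d2, mul_one] at he
  have d1 := key m0 (hexp 1) h1 (by rw [he]; exact one_mem _)
  rw [triv (hexp 1) d1, mul_one] at he
  have d0 : (p : ℤ) ∣ e 0 := dvd_of_zpow_mem (H := ⊥) (by rw [hexp 0]; exact one_mem _)
    (fun h => h0 (mem_bot.1 h)) (mem_bot.2 he)
  intro i
  fin_cases i
  exacts [d0, d1, d2, d3]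

/-- A group of class two, exponent `p` and central quotient of order `p ^ 3` has an elementary
abelian subgroup of order `p ^ 4`, unless the derived group is too small. -/
theorem class_two_false [Finite W] (hexp : ∀ x : W, x ^ p = 1)
    (hcl : ∀ a b : W, ⁅a, b⁆ ∈ center W) (hidx : (center W).index = p ^ 3)
    (hno : ∀ a : Fin 4 → W, (∀ i j, Commute (a i) (a j)) → ¬ Indep4 p a) : False := by
  classical
  have hP : IsPGroup p W := fun x => ⟨1, by rw [pow_one, hexp]⟩
  set Z := center W with hZ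
  have hzc : ∀ {z : W}, z ∈ Z → ∀ w, Commute z w := fun hz w => (mem_center_iff.1 hz w).symm
  have hcard : Nat.card W = p ^ 3 * Nat.card Z := by rw [← hidx, mul_comm, Subgroup.card_mul_index]
  have hsup : ∀ (H : Subgroup W) [H.Normal] (x : W), Nat.card (zpowers x ⊔ H : Subgroup W) ≤ p * Nat.card H :=
    fun H _ x => CfsgLib.PGroupBasic.card_sup_zpowers_le H x (by rw [hexp]; exact one_mem _)
  have hnormZ : ∀ H : Subgroup W, Z ≤ H → H.Normal := fun H hH => ⟨fun x hx g => by
    have := mul_mem (hH (hcl g x)) hx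
    rwa [commutatorElement_def, inv_mul_cancel_right] at this⟩
  have hout : ∀ H : Subgroup W, Nat.card H < Nat.card W → ∃ x, x ∉ H := fun H hH => by
    by_contra h
    push Not at h
    rw [(Subgroup.eq_top_iff' H).2 h, Subgroup.card_top] at hH
    exact lt_irrefl _ hH
  have hZpos : 0 < Nat.card Z := Nat.card_pos
  have hp1 := hp.out.one_lt
  obtain ⟨u, hu⟩ := hout Z (by rw [hcard]; exact lt_mul_left hZpos (Nat.one_lt_pow (by norm_num) hp1))
  haveI := hnormZ _ (le_sup_right (a := zpowers u) (b := Z))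
  obtain ⟨v, hv⟩ := hout (zpowers u ⊔ Z) (lt_of_le_of_lt (hsup Z u) (by
    rw [hcard]; exact Nat.mul_lt_mul_of_pos_right (lt_self_pow₀ hp1 (by norm_num)) hZpos))
  set H2 := zpowers v ⊔ (zpowers u ⊔ Z) with hH2
  haveI := hnormZ H2 (le_sup_right.trans le_sup_right)
  have hc2 : Nat.card H2 ≤ p ^ 2 * Nat.card Z := by
    calc Nat.card H2 ≤ p * Nat.card (zpowers u ⊔ Z : Subgroup W) := hsup _ v
      _ ≤ p * (p * Nat.card Z) := Nat.mul_le_mul_left _ (hsup _ u)
      _ = p ^ 2 * Nat.card Z := by ring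
  obtain ⟨w, hw⟩ := hout H2 (lt_of_le_of_lt hc2 (by
    rw [hcard]; exact Nat.mul_lt_mul_of_pos_right (Nat.pow_lt_pow_right hp1 (by norm_num)) hZpos))
  -- an element commuting with a spanning triple is central
  have hcen : ∀ x y z g : W, x ∉ Z → y ∉ zpowers x ⊔ Z → z ∉ zpowers y ⊔ (zpowers x ⊔ Z) →
      Commute g x → Commute g y → Commute g z → g ∈ Z := by
    intro x y z g hx hy hz hgx hgy hgz
    have htop : zpowers z ⊔ (zpowers y ⊔ (zpowers x ⊔ Z)) = ⊤ := by
      refine Subgroup.eq_top_of_le_card _ ?_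
      have s1 : Z < zpowers x ⊔ Z := lt_of_le_of_ne le_sup_right fun e =>
        hx (by rw [e]; exact mem_sup_left (mem_zpowers x))
      have s2 : zpowers x ⊔ Z < zpowers y ⊔ (zpowers x ⊔ Z) := lt_of_le_of_ne le_sup_right fun e =>
        hy (by rw [e]; exact mem_sup_left (mem_zpowers y))
      have s3 : zpowers y ⊔ (zpowers x ⊔ Z) < zpowers z ⊔ (zpowers y ⊔ (zpowers x ⊔ Z)) :=
        lt_of_le_of_ne le_sup_right fun e => hz (by rw [e]; exact mem_sup_left (mem_zpowers z))
      have c1 := CfsgLib.Solvable.card_lt_of_lt s1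
      have c2 := CfsgLib.Solvable.card_lt_of_lt s2
      have c3 := CfsgLib.Solvable.card_lt_of_lt s3
      obtain ⟨a, ha⟩ := IsPGroup.iff_card.1 (hP.to_subgroup Z)
      obtain ⟨b, hb⟩ := IsPGroup.iff_card.1 (hP.to_subgroup (zpowers x ⊔ Z : Subgroup W))
      obtain ⟨c, hc⟩ := IsPGroup.iff_card.1 (hP.to_subgroup (zpowers y ⊔ (zpowers x ⊔ Z) : Subgroup W))
      obtain ⟨d, hd⟩ := IsPGroup.iff_card.1 (hP.to_subgroup
        (zpowers z ⊔ (zpowers y ⊔ (zpowers x ⊔ Z)) : Subgroup W))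
      rw [ha, hb, Nat.pow_lt_pow_iff_right hp1] at c1
      rw [hb, hc, Nat.pow_lt_pow_iff_right hp1] at c2
      rw [hc, hd, Nat.pow_lt_pow_iff_right hp1] at c3
      rw [hcard, ha, hd, ← pow_add]
      exact Nat.pow_le_pow_right hp.out.pos (by omega)
    have hle : zpowers z ⊔ (zpowers y ⊔ (zpowers x ⊔ Z)) ≤ centralizer ({g} : Set W) := by
      have hz' : ∀ {b : W}, Commute g b → zpowers b ≤ centralizer ({g} : Set W) := fun hb =>
        zpowers_le.2 (mem_centralizer_singleton_iff.2 hb.symm.eq)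
      exact sup_le (hz' hgz) (sup_le (hz' hgy) (sup_le (hz' hgx) fun t ht =>
        mem_centralizer_singleton_iff.2 (hzc ht g).eq))
    exact mem_center_iff.2 fun t => mem_centralizer_singleton_iff.1 (hle (htop ▸ mem_top t))
  -- commutation is bilinear
  have hbil : ∀ a x y : W, ⁅a, x * y⁆ = ⁅a, x⁆ * ⁅a, y⁆ := fun a x y => by
    calc ⁅a, x * y⁆ = ⁅a, x⁆ * (x * ⁅a, y⁆ * x⁻¹) := by simp only [commutatorElement_def]; group
      _ = _ := by rw [← (hzc (hcl a y) x).eq, mul_inv_cancel_right]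
  have hzp : ∀ a x : W, ∀ i : ℤ, ⁅a, x ^ i⁆ = ⁅a, x⁆ ^ i := fun a x i =>
    map_zpow (MonoidHom.mk' (fun y => ⁅a, y⁆) (hbil a)) x i
  have hbil' : ∀ x y a : W, ⁅x * y, a⁆ = ⁅x, a⁆ * ⁅y, a⁆ := fun x y a => by
    rw [← commutatorElement_inv a (x * y), hbil, mul_inv_rev, commutatorElement_inv,
      commutatorElement_inv, (hzc (hcl y a) _).eq]
  have hzp' : ∀ x a : W, ∀ i : ℤ, ⁅x ^ i, a⁆ = ⁅x, a⁆ ^ i := fun x a i =>
    map_zpow (MonoidHom.mk' (fun y => ⁅y, a⁆) fun y z => hbil' y z a) x i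
  -- monomials in the generators
  have hmono : ∀ i j k : ℤ, u ^ i * v ^ j * w ^ k ∈ Z → (p : ℤ) ∣ i ∧ (p : ℤ) ∣ j ∧ (p : ℤ) ∣ k := by
    intro i j k h
    have key : ∀ {H : Subgroup W} {x y : W}, y ∈ H → x ∉ H → ∀ {i : ℤ}, y * x ^ i ∈ H → (p : ℤ) ∣ i :=
      fun hy hxH i hi =>
        dvd_of_zpow_mem (by rw [hexp]; exact one_mem _) hxH ((Subgroup.mul_mem_cancel_left _ hy).1 hi)
    have m0 : u ^ i ∈ zpowers u ⊔ Z := mem_sup_left (zpow_mem (mem_zpowers u) i)
    have m1 : u ^ i * v ^ j ∈ H2 :=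
      mul_mem (mem_sup_right m0) (mem_sup_left (zpow_mem (mem_zpowers v) j))
    have dk := key m1 hw (mem_sup_right (mem_sup_right h))
    have hk : w ^ k = 1 := by
      obtain ⟨m, rfl⟩ := dk
      rw [zpow_mul, zpow_natCast, hexp, one_zpow]
    rw [hk, mul_one] at h
    have dj := key m0 hv (mem_sup_right h)
    have hj : v ^ j = 1 := by
      obtain ⟨m, rfl⟩ := dj
      rw [zpow_mul, zpow_natCast, hexp, one_zpow]
    rw [hj, mul_one] at h
    exact ⟨dvd_of_zpow_mem (by rw [hexp]; exact one_mem _) hu h, dj, dk⟩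
  -- the values of the form
  set c12 := ⁅u, v⁆ with h12
  set c13 := ⁅u, w⁆ with h13
  set c23 := ⁅v, w⁆ with h23
  -- three independent central elements and anything outside the centre
  have hthree : ∀ z1 z2 z3 : W, z1 ∈ Z → z2 ∈ Z → z3 ∈ Z → z1 ≠ 1 → z2 ∉ zpowers z1 →
      z3 ∉ zpowers z2 ⊔ zpowers z1 → False := by
    intro z1 z2 z3 m1 m2 m3 n1 n2 n3
    refine hno ![z1, z2, z3, u] ?_ (indep_chain _ (fun i => hexp _) n1 n2 n3 fun h => hu ?_)
    · intro i j
      fin_cases i <;> fin_cases j <;>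
        first
          | exact Commute.refl _
          | exact hzc m1 _
          | exact hzc m2 _
          | exact hzc m3 _
          | exact (hzc m1 _).symm
          | exact (hzc m2 _).symm
          | exact (hzc m3 _).symm
    · exact (sup_le (zpowers_le.2 m3) (sup_le (zpowers_le.2 m2) (zpowers_le.2 m1))) h
    -- a commuting pair and two independent central elements
  have htwo : ∀ a b z1 z2 : W, Commute a b → z1 ∈ Z → z2 ∈ Z → z1 ≠ 1 → z2 ∉ zpowers z1 → a ∉ Z →
      b ∉ zpowers a ⊔ Z → False := by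
    intro a b z1 z2 hab m1 m2 n1 n2 ha hb
    refine hno ![z1, z2, a, b] ?_ (indep_chain _ (fun i => hexp _) n1 n2
      (fun h => ha ((sup_le (zpowers_le.2 m2) (zpowers_le.2 m1)) h))
      fun h => hb ((sup_le le_sup_left ((sup_le (zpowers_le.2 m2) (zpowers_le.2 m1)).trans le_sup_right)) h))
    intro i j
    fin_cases i <;> fin_cases j <;>
      first
        | exact Commute.refl _
        | exact hzc m1 _
        | exact hzc m2 _
        | exact (hzc m1 _).symm
        | exact (hzc m2 _).symm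
        | exact hab
        | exact hab.symm
  have hpair : ∀ {a b : W}, b ∈ zpowers a ⊔ Z → ∃ (i : ℤ) (z : W), z ∈ Z ∧ b = a ^ i * z := by
    intro a b hb
    obtain ⟨x, hx, z, hz, rfl⟩ := mem_sup_of_normal_right.1 hb
    obtain ⟨i, rfl⟩ := mem_zpowers_iff.1 hx
    exact ⟨i, z, hz, rfl⟩
  by_cases hc : c12 ≠ 1 ∧ c13 ∉ zpowers c12
  · obtain ⟨n1, n2⟩ := hc
    by_cases h3 : c23 ∈ zpowers c13 ⊔ zpowers c12
    · haveI : (zpowers c12).Normal := ⟨fun z hz g => by
        rw [(hzc (zpowers_le.2 (hcl u v) hz) g).symm.eq, mul_inv_cancel_right]; exact hz⟩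
      obtain ⟨x, hx, y, hy, hxy⟩ := mem_sup_of_normal_right.1 h3
      obtain ⟨s, rfl⟩ := mem_zpowers_iff.1 hx
      obtain ⟨r, rfl⟩ := mem_zpowers_iff.1 hy
      -- the pair `v u^(-s)`, `w u^r` commutes
      refine htwo (v * u ^ (-s)) (w * u ^ r) c12 c13 ?_ (hcl u v) (hcl u w) n1 n2 ?_ ?_
      · rw [← commutatorElement_eq_one_iff_commute, hbil, hbil', hbil', hzp', hzp', hzp, hzp,
          commutatorElement_self, one_zpow, one_zpow, ← commutatorElement_inv u v, ← h12, ← h13, ← h23,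
          ← hxy]
        have e13 : ∀ g, Commute c13 g := hzc (hcl u w)
        have e12 : ∀ g, Commute c12 g := hzc (hcl u v)
        rw [mul_one, zpow_neg, inv_zpow, mul_assoc (c13 ^ s) (c12 ^ r), ((e12 _).zpow_left r).eq]
        group
      · intro h
        have := (hmono (-s) 1 0 (by
          rw [zpow_one, zpow_zero, mul_one]
          have e : u ^ (-s) * v = ⁅u ^ (-s), v⁆ * (v * u ^ (-s)) := by rw [commutatorElement_def]; group
          rw [e]; exact mul_mem (hcl _ _) h)).2.1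
        exact hp.out.one_lt.ne' (by exact_mod_cast Int.eq_one_of_dvd_one (by positivity) this)
      · intro h
        obtain ⟨i, z, hz, e⟩ := hpair h
        -- then `w` lies in the span of the other two
        refine hw ?_
        have hu' : ∀ n : ℤ, u ^ n ∈ H2 := fun n => mem_sup_right (mem_sup_left (zpow_mem (mem_zpowers u) n))
        have hz' : z ∈ H2 := mem_sup_right (mem_sup_right hz)
        have hv' : v ∈ H2 := mem_sup_left (mem_zpowers v)
        have hwu : w * u ^ r ∈ H2 := e ▸ mul_mem (zpow_mem (mul_mem hv' (hu' _)) i) hz'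
        exact (Subgroup.mul_mem_cancel_right _ (hu' r)).1 hwu
    · exact hthree _ _ _ (hcl u v) (hcl u w) (hcl v w) n1 n2 h3
  · -- an element outside `<u>Z` commuting with `u`
    obtain ⟨b, a, hbu, hb, ha⟩ : ∃ b a : W, Commute u b ∧ b ∉ zpowers u ⊔ Z ∧ a ∉ zpowers b ⊔ (zpowers u ⊔ Z) := by
      by_cases e1 : c12 = 1
      · exact ⟨v, w, commutatorElement_eq_one_iff_commute.1 e1, hv, hw⟩
      · have h2 : c13 ∈ zpowers c12 := by
          by_contra h'
          exact hc ⟨e1, h'⟩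
        obtain ⟨i, hi⟩ := mem_zpowers_iff.1 h2
        refine ⟨w * v ^ (-i), v, ?_, fun h => hw ?_, fun h => ?_⟩
        · rw [← commutatorElement_eq_one_iff_commute, hbil, hzp, ← h13, ← h12, ← hi, zpow_neg,
            mul_inv_cancel]
        · have h' : w * v ^ (-i) ∈ H2 := mem_sup_right h
          exact (Subgroup.mul_mem_cancel_right _ (mem_sup_left (zpow_mem (mem_zpowers v) _))).1 h'
        · obtain ⟨x, hx, y, hy, hxy⟩ := mem_sup_of_normal_right.1 h
          obtain ⟨j, rfl⟩ := mem_zpowers_iff.1 hx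
          by_cases hj : (p : ℤ) ∣ j
          · obtain ⟨m, rfl⟩ := hj
            rw [zpow_mul, zpow_natCast, hexp, one_zpow, one_mul] at hxy
            exact hv (hxy ▸ hy)
          · refine hj (dvd_of_zpow_mem (H := H2) (x := w * v ^ (-i)) (by rw [hexp]; exact one_mem _) (fun h' => hw
              ((Subgroup.mul_mem_cancel_right _ (mem_sup_left (zpow_mem (mem_zpowers v) _))).1 h')) ?_)
            have : (w * v ^ (-i)) ^ j * y ∈ H2 := by rw [hxy]; exact mem_sup_left (mem_zpowers v)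
            exact (Subgroup.mul_mem_cancel_right _ (mem_sup_right hy)).1 this
    -- now the values of the form on `a`
    set d1 := ⁅u, a⁆ with hd1
    set d2 := ⁅b, a⁆ with hd2
    by_cases e1 : d1 = 1
    · exact hu (hcen u b a u hu hb ha (Commute.refl u) hbu (commutatorElement_eq_one_iff_commute.1 e1))
    · by_cases e2 : d2 ∈ zpowers d1
      · obtain ⟨i, hi⟩ := mem_zpowers_iff.1 e2
        -- `b u^(-i)` is central
        refine hb ?_
        have hbz : b * u ^ (-i) ∈ Z := by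
          have hc2 : Commute (b * u ^ (-i)) a := by
            rw [← commutatorElement_eq_one_iff_commute, hbil', hzp', ← hd1, ← hd2, ← hi, zpow_neg,
              mul_inv_cancel]
          exact hcen u b a _ hu hb ha (hbu.symm.mul_left ((Commute.refl u).zpow_left _))
            ((Commute.refl b).mul_left (hbu.zpow_left _)) hc2
        have := mul_mem (mem_sup_right hbz : b * u ^ (-i) ∈ zpowers u ⊔ Z)
          (mem_sup_left (zpow_mem (mem_zpowers u) i))
        rwa [mul_assoc, ← zpow_add, neg_add_cancel, zpow_zero, mul_one] at this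
      · exact htwo u b d1 d2 hbu (hcl u a) (hcl b a) e1 e2 hu hb

end CfsgLib.Fusion.RankThree
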