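import Cfsg.Agent.Fusion.RankThree.Layers

/-!
The lower central layers of a `p`-group with two generators and sectional rank at most three which
has a transvection and an automorphism moving its line.
-/

set_option autoImplicit false
set_option linter.unusedSectionVars false

open Subgroup
open scoped commutatorElement

namespace CfsgLib.Fusion.RankThree

/-- Commutation with an element all whose commutators are central. -/
def commLeft {Q : Type*} [Group Q] (a : Q) (h : ∀ e : Q, ⁅e, a⁆ ∈ center Q) : Q →* Q :=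
  MonoidHom.mk' (fun e => ⁅e, a⁆) fun e f => by
    calc ⁅e * f, a⁆ = e * ⁅f, a⁆ * e⁻¹ * ⁅e, a⁆ := by simp only [commutatorElement_def]; group
      _ = ⁅f, a⁆ * ⁅e, a⁆ := by rw [mem_center_iff.1 (h f) e, mul_inv_cancel_right]
      _ = ⁅e, a⁆ * ⁅f, a⁆ := (mem_center_iff.1 (h f) _).symm

theorem commLeft_apply {Q : Type*} [Group Q] (a : Q) (h : ∀ e : Q, ⁅e, a⁆ ∈ center Q) (e : Q) :
    commLeft a h e = ⁅e, a⁆ := rfl

theorem comm_mul_right_central {Q : Type*} [Group Q] (e a b : Q) (hb : ⁅e, b⁆ ∈ center Q) :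
    ⁅e, a * b⁆ = ⁅e, a⁆ * ⁅e, b⁆ := by
  calc ⁅e, a * b⁆ = ⁅e, a⁆ * (a * ⁅e, b⁆ * a⁻¹) := by simp only [commutatorElement_def]; group
    _ = _ := by rw [mem_center_iff.1 hb a, mul_inv_cancel_right]

theorem comm_zpow_right_central {Q : Type*} [Group Q] (e a : Q) (h : ∀ v ∈ zpowers a, ⁅e, v⁆ ∈ center Q)
    (k : ℤ) : ⁅e, a ^ k⁆ = ⁅e, a⁆ ^ k := by
  induction k using Int.induction_on with
  | zero => simp
  | succ k ih =>
    rw [zpow_add, zpow_one, comm_mul_right_central e _ _ (h a (mem_zpowers a)), ih, zpow_add_one]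
  | pred k ih =>
    have h1 : ⁅e, a⁻¹⁆ = ⁅e, a⁆⁻¹ := eq_inv_of_mul_eq_one_left (by
      rw [← comm_mul_right_central e _ _ (h a (mem_zpowers a)), inv_mul_cancel,
        commutatorElement_one_right])
    rw [sub_eq_add_neg, zpow_add, zpow_neg_one, comm_mul_right_central e _ _
      (h _ (inv_mem (mem_zpowers a))), ih, h1, zpow_add, zpow_neg_one]

variable {G : Type*} [Group G] {p : ℕ} [hp : Fact p.Prime]

/-- The endomorphism of a quotient of the series induced by an automorphism. -/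
def serMap (i : ℕ) (α : MulAut G) : G ⧸ ser p G i →* G ⧸ ser p G i :=
  QuotientGroup.map _ _ α.toMonoidHom fun x hx => ser_invariant i α x hx

omit hp in
theorem serMap_mk (i : ℕ) (α : MulAut G) (a : G) :
    serMap (p := p) i α (QuotientGroup.mk' _ a) = QuotientGroup.mk' _ (α a) := rfl

theorem mk_mem_center {i : ℕ} {a : G} (ha : a ∈ ser p G i) :
    QuotientGroup.mk' (ser p G (i + 1)) a ∈ center (G ⧸ ser p G (i + 1)) :=
  mem_center_iff.2 fun v => by
    obtain ⟨b, rfl⟩ := QuotientGroup.mk'_surjective _ v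
    exact (mk_comm ha b).symm.eq

set_option maxHeartbeats 1600000 in
/-- Either the Frattini subgroup is small, or there is a central pair on which the transvection
acts as a transvection again. -/
theorem two_layers [Finite G] (hG : IsPGroup p G) (hp5 : 5 ≤ p)
    (hr : Cfsg.SectionalPRankLE p 3 G) (hidx : (frattini G).index = p ^ 2) (n z : G)
    (y α : MulAut G) {i j : ℤ}
    (hspan : ∀ e : G, ∃ a b : ℤ, (n ^ a * z ^ b)⁻¹ * e ∈ frattini G)
    (hindep : ∀ a b : ℤ, n ^ a * z ^ b ∈ frattini G → (p : ℤ) ∣ a ∧ (p : ℤ) ∣ b)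
    (hyn : y n = n * z) (hyz : z⁻¹ * y z ∈ frattini G) (hyp : ∃ g : G, ∀ a, (y ^ p) a = g * a * g⁻¹)
    (hα : (n ^ i * z ^ j)⁻¹ * α z ∈ frattini G) (hi : ¬ (p : ℤ) ∣ i) :
    Nat.card (frattini G) ≤ p ∨
      ∃ c e w : G, e ∈ center G ∧ w ∈ center G ∧ e ^ p = 1 ∧ y e = e * w ∧ w ≠ 1 ∧
        e ∈ commutator G ∧ c ∈ commutator G ∧ (∀ a, Commute a z → Commute a c → a ∈ center G) ∧
        center G ≤ frattini G := by
  classical
  have hp2 : p ≠ 2 := by omega
  have hpz : Prime (p : ℤ) := Nat.prime_iff_prime_int.1 hp.out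
  have h1 : ser p G 1 = frattini G := ser_one hG
  obtain ⟨hcm, hpw⟩ := CfsgLib.PGroupBasic.commutator_pow_le_frattini hG
  rw [← h1] at hspan hindep hyz hα
  have hpw1 : ∀ a : G, a ^ p ∈ ser p G 1 := fun a => h1 ▸ hpw a
  have hz1 : z ∉ ser p G 1 := fun h => hpz.not_dvd_one
    (hindep 0 1 (by rwa [zpow_zero, one_mul, zpow_one])).2
  have hn1 : n ∉ ser p G 1 := fun h => hpz.not_dvd_one
    (hindep 1 0 (by rwa [zpow_zero, mul_one, zpow_one])).1
  have hmon : ∀ e : G, ∃ a b : ℤ, ∃ r ∈ ser p G 1, e = n ^ a * z ^ b * r := fun e => by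
    obtain ⟨a, b, h⟩ := hspan e
    exact ⟨a, b, _, h, (mul_inv_cancel_left _ _).symm⟩
  -- a subgroup above the Frattini subgroup invariant under both automorphisms
  have hline : ∀ L : Subgroup G, ser p G 1 ≤ L → (∀ a ∈ L, y a ∈ L) → (∀ a ∈ L, α a ∈ L) →
      L = ser p G 1 ∨ L = ⊤ := by
    intro L hL hLy hLα
    refine or_iff_not_imp_left.2 fun hne => ?_
    obtain ⟨v, hv, hv1⟩ := SetLike.exists_of_lt (lt_of_le_of_ne hL (Ne.symm hne))
    obtain ⟨a, b, r, hr', rfl⟩ := hmon v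
    have hv' : n ^ a * z ^ b ∈ L := (Subgroup.mul_mem_cancel_right _ (hL hr')).1 hv
    have hz : z ∈ L := by
      by_contra hzL
      have hzp : z ^ p ∈ L := hL (hpw1 z)
      have hnp : n ^ p ∈ L := hL (hpw1 n)
      set π := QuotientGroup.mk' (ser p G 1)
      have hnz : Commute (π n) (π z) := mk_comm (i := 0) (mem_top n) z
      have e1 : π (y (n ^ a * z ^ b)) = π (n ^ a * z ^ b * z ^ a) := by
        have e0 : π (y z) = π z := (QuotientGroup.eq.2 hyz).symm
        rw [map_mul y, map_zpow y, map_zpow y, map_mul π, map_zpow π, map_zpow π, hyn, map_mul π, e0,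
          hnz.mul_zpow, map_mul π, map_mul π, map_zpow π, map_zpow π,
          map_zpow π, mul_assoc, ← zpow_add, mul_assoc, ← zpow_add, add_comm]
      have hza : z ^ a ∈ L := by
        have h2 : (n ^ a * z ^ b * z ^ a)⁻¹ * y (n ^ a * z ^ b) ∈ L := hL (QuotientGroup.eq.1 e1.symm)
        have h3 := (Subgroup.mul_mem_cancel_right _ (hLy _ hv')).1 h2
        exact (Subgroup.mul_mem_cancel_left _ hv').1 (inv_mem_iff.1 h3)
      by_cases ha : (p : ℤ) ∣ a
      · obtain ⟨m, rfl⟩ := ha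
        have hna : n ^ ((p : ℤ) * m) ∈ L := by
          rw [zpow_mul, zpow_natCast]; exact zpow_mem hnp m
        have hzb : z ^ b ∈ L := (Subgroup.mul_mem_cancel_left _ hna).1 hv'
        obtain ⟨q, rfl⟩ := dvd_of_zpow_mem hzp hzL hzb
        refine hv1 (mul_mem (mul_mem ?_ ?_) hr') <;> rw [zpow_mul, zpow_natCast] <;>
          exact zpow_mem (hpw1 _) _
      · exact ha (dvd_of_zpow_mem hzp hzL hza)
    have hn : n ∈ L := by
      by_contra hnL
      refine hi (dvd_of_zpow_mem (hL (hpw1 n)) hnL ?_)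
      have h2 := (Subgroup.mul_mem_cancel_right _ (hLα z hz)).1 (hL hα)
      exact (Subgroup.mul_mem_cancel_right _ (zpow_mem hz j)).1 (inv_mem_iff.1 h2)
    refine (Subgroup.eq_top_iff' L).2 fun e => ?_
    obtain ⟨a', b', r', hr'', rfl⟩ := hmon e
    exact mul_mem (mul_mem (zpow_mem hn _) (zpow_mem hz _)) (hL hr'')
  -- powers lie in the derived subgroup and the second term
  set M := commutator G ⊔ ser p G 2 with hM
  haveI : M.Normal := by rw [hM]; infer_instance
  set πM := QuotientGroup.mk' M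
  have hMc : ∀ a b : G ⧸ M, Commute a b := fun a b => by
    obtain ⟨a, rfl⟩ := QuotientGroup.mk'_surjective M a
    obtain ⟨b, rfl⟩ := QuotientGroup.mk'_surjective M b
    rw [← commutatorElement_eq_one_iff_commute, ← map_commutatorElement]
    exact (QuotientGroup.eq_one_iff _).2
      (mem_sup_left (commutator_mem_commutator (mem_top a) (mem_top b)))
  have hMinv : ∀ (β : MulAut G), ∀ a ∈ M, β a ∈ M := fun β a ha => by
    have hle : M ≤ M.comap β.toMonoidHom := sup_le
      ((Subgroup.characteristic_iff_le_comap.1 inferInstance β).trans (comap_mono le_sup_left))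
      (fun b hb => mem_sup_right (ser_invariant 2 β b hb))
    exact hle ha
  let ρ : G →* G ⧸ M := MonoidHom.mk' (fun a => πM (a ^ p)) fun a b => by
    rw [map_pow, map_mul, (hMc (πM a) (πM b)).mul_pow, map_pow, map_pow]
  have hρinv : ∀ (β : MulAut G), ∀ a ∈ ρ.ker, β a ∈ ρ.ker := fun β a ha =>
    (QuotientGroup.eq_one_iff _).2 (by
      rw [← map_pow]; exact hMinv β _ ((QuotientGroup.eq_one_iff _).1 ha))
  have hρ1 : ser p G 1 ≤ ρ.ker := fun a ha =>
    (QuotientGroup.eq_one_iff _).2 (mem_sup_right (pow_mem_succ ha))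
  have hP1 : ∀ a : G, a ^ p ∈ M := by
    rcases hline _ hρ1 (hρinv y) (hρinv α) with hk | hk
    swap
    · exact fun a => (QuotientGroup.eq_one_iff _).1 (hk.ge (mem_top a) : a ∈ ρ.ker)
    exfalso
    let Y : G ⧸ M →* G ⧸ M := QuotientGroup.map M M y.toMonoidHom fun a ha => hMinv y a ha
    have hY : ∀ a, Y (πM a) = πM (y a) := fun _ => rfl
    have hρY : ∀ a, Y (ρ a) = ρ (y a) := fun a => by
      show Y (πM (a ^ p)) = πM ((y a) ^ p)
      rw [hY, map_pow]
    obtain ⟨a, ha⟩ : πM (z⁻¹ * y z) ∈ ρ.range := by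
      have hle : ser p G 1 ≤ ρ.range.comap πM := sup_le
        ((closure_le _).2 (by rintro _ ⟨a, -, rfl⟩; exact ⟨a, rfl⟩)) (commutator_le.2 fun a _ b _ => by
          show πM ⁅a, b⁆ ∈ ρ.range
          rw [show πM ⁅a, b⁆ = 1 from (QuotientGroup.eq_one_iff _).2
            (mem_sup_left (commutator_mem_commutator (mem_top a) (mem_top b)))]
          exact one_mem _)
      exact hle hyz
    set R := πM (z⁻¹ * y z) with hR
    set s := a⁻¹ * y a with hs
    have hYR : Y R = R * ρ s := by rw [← ha, hρY, hs, map_mul, map_inv, mul_inv_cancel_left]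
    have hYs : Y (ρ s) = ρ s := by
      rw [hρY, ← mul_inv_cancel_left s (y s), map_mul,
        show ρ (s⁻¹ * y s) = 1 from hρ1 ?_, mul_one]
      set π := QuotientGroup.mk' (ser p G 1)
      have e0 : π (y z) = π z := (QuotientGroup.eq.2 hyz).symm
      obtain ⟨q, b, r, hr', e⟩ := hmon a
      have hr1 : π r = 1 := (QuotientGroup.eq_one_iff r).2 hr'
      have hr2 : π (y r) = 1 := (QuotientGroup.eq_one_iff _).2 (ser_invariant 1 y r hr')
      have e2 : π s = π z ^ q := by
        rw [hs, e, map_mul π, map_inv]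
        simp only [map_mul, map_zpow, hyn, hr1, hr2, mul_one, e0]
        have hnz : Commute (π n) (π z) := mk_comm (i := 0) (mem_top n) z
        rw [hnz.mul_zpow]
        group
      refine (QuotientGroup.eq_one_iff _).1 ?_
      show π (s⁻¹ * y s) = 1
      have e3 : π (y s) = π (y (z ^ q)) := by
        have hm : s⁻¹ * z ^ q ∈ ser p G 1 := QuotientGroup.eq.1 (by rw [← map_zpow] at e2; exact e2)
        refine QuotientGroup.eq.2 ?_
        rw [← map_inv, ← map_mul]
        exact ser_invariant 1 y _ hm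
      rw [map_mul, map_inv, e3, e2, map_zpow y, map_zpow π, e0, inv_mul_cancel]
    have hit : ∀ k : ℕ, πM ((y ^ k) n) =
        πM n * πM z ^ k * R ^ k.choose 2 * ρ s ^ k.choose 3 := by
      intro k
      induction k with
      | zero => simp
      | succ k ih =>
        have hz' : Y (πM z) = πM z * R := by
          rw [hY, hR, map_mul πM z⁻¹, map_inv, mul_inv_cancel_left]
        have hn' : Y (πM n) = πM n * πM z := by rw [hY, hyn, map_mul]
        rw [pow_succ', MulAut.mul_apply, ← hY, ih, map_mul, map_mul, map_mul, map_pow, map_pow,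
          map_pow, hn', hz', hYR, hYs, (hMc (πM z) R).mul_pow, (hMc R (ρ s)).mul_pow,
          Nat.choose_succ_succ k 1, Nat.choose_one_right, Nat.choose_succ_succ k 2, pow_succ' (πM z),
          pow_add, pow_add]
        simp only [mul_assoc]
    have hkill : ∀ {v : G ⧸ M} {k : ℕ}, v ^ p = 1 → p ∣ k → v ^ k = 1 := by
      rintro v k hv ⟨m, rfl⟩
      rw [pow_mul, hv, one_pow]
    obtain ⟨g, hg⟩ := hyp
    have e := hit p
    have hRp : R ^ p = 1 := by
      rw [hR, ← map_pow]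
      exact (QuotientGroup.eq_one_iff _).2 (mem_sup_right (pow_mem_succ hyz))
    have hsp : ρ s ^ p = 1 := by
      show πM (s ^ p) ^ p = 1
      rw [← map_pow]
      exact (QuotientGroup.eq_one_iff _).2 (mem_sup_right (pow_mem_succ (hpw1 s)))
    rw [hkill hRp (hp.out.dvd_choose_self two_ne_zero (by omega)),
      hkill hsp (hp.out.dvd_choose_self (by norm_num) (by omega)), mul_one, mul_one, hg, map_mul, map_mul,
      map_inv, (hMc (πM g) (πM n)).eq, mul_inv_cancel_right] at e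
    refine hz1 (hk.le ?_)
    show πM (z ^ p) = 1
    rw [map_pow]
    exact (mul_eq_left (a := πM n)).1 e.symm
  set c := ⁅n, z⁆ with hc
  have hc1 : c ∈ ser p G 1 := comm_mem_succ (mem_top n : n ∈ ser p G 0) z
  set π2 := QuotientGroup.mk' (ser p G 2) with hπ2
  have hk2 : ∀ {a : G}, a ∈ ser p G 2 ↔ π2 a = 1 := fun {a} => (QuotientGroup.eq_one_iff a).symm
  have hc2 : ∀ e v : G ⧸ ser p G 2, ⁅e, v⁆ ∈ center (G ⧸ ser p G 2) := fun e v => by
    obtain ⟨e, rfl⟩ := QuotientGroup.mk'_surjective _ e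
    obtain ⟨v, rfl⟩ := QuotientGroup.mk'_surjective _ v
    rw [← map_commutatorElement]
    exact mk_mem_center (comm_mem_succ (mem_top e : e ∈ ser p G 0) v)
  have hcomm2 : ∀ a b a' b' : ℤ, ∀ r ∈ ser p G 1, ∀ r' ∈ ser p G 1,
      π2 ⁅n ^ a * z ^ b * r, n ^ a' * z ^ b' * r'⁆ = π2 c ^ (a * b' - b * a') := by
    intro a b a' b' r hr' r' hr''
    have hR : π2 r ∈ center (G ⧸ ser p G 2) := mk_mem_center hr'
    have hR' : π2 r' ∈ center (G ⧸ ser p G 2) := mk_mem_center hr''
    have e0 : ∀ v u t : G ⧸ ser p G 2, t ∈ center (G ⧸ ser p G 2) → ⁅v * t, u⁆ = ⁅v, u⁆ := by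
      intro v u t ht
      calc ⁅v * t, u⁆ = v * (t * u) * t⁻¹ * v⁻¹ * u⁻¹ := by simp only [commutatorElement_def]; group
        _ = v * (u * t) * t⁻¹ * v⁻¹ * u⁻¹ := by rw [(mem_center_iff.1 ht u).symm]
        _ = ⁅v, u⁆ := by simp only [commutatorElement_def]; group
    rw [map_commutatorElement, map_mul, map_mul, e0 _ _ _ hR, map_mul, map_mul,
      ← commutatorElement_inv, e0 _ _ _ hR', commutatorElement_inv]
    simp only [map_zpow, hc, map_commutatorElement]
    have e3 := commLeft (π2 z) (fun e => hc2 e _)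
    have l1 : ∀ (v u : G ⧸ ser p G 2) (k : ℤ), ⁅v ^ k, u⁆ = ⁅v, u⁆ ^ k := fun v u k =>
      map_zpow (commLeft u fun e => hc2 e _) v k
    have l2 : ∀ (v u : G ⧸ ser p G 2) (k : ℤ), ⁅v, u ^ k⁆ = ⁅v, u⁆ ^ k := fun v u k =>
      comm_zpow_right_central v u (fun t _ => hc2 v t) k
    have l3 : ∀ v u t : G ⧸ ser p G 2, ⁅v * u, t⁆ = ⁅v, t⁆ * ⁅u, t⁆ := fun v u t =>
      map_mul (commLeft t fun e => hc2 e _) v u
    rw [l3, comm_mul_right_central _ _ _ (hc2 _ _), comm_mul_right_central _ _ _ (hc2 _ _), l1, l1,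
      l1, l1, l2, l2, l2, l2, commutatorElement_self, commutatorElement_self,
      ← commutatorElement_inv (π2 n) (π2 z)]
    simp only [one_zpow, one_mul, mul_one, inv_zpow', ← zpow_mul, ← zpow_neg, ← zpow_add]
    congr 1
    ring
  have h12 : ser p G 1 ≤ (zpowers (π2 c)).comap π2 := by
    have hcomm : commutator G ≤ (zpowers (π2 c)).comap π2 := by
      rw [_root_.commutator_def, commutator_le]
      intro a _ b _
      obtain ⟨a', b', r, hr', rfl⟩ := hmon a
      obtain ⟨a'', b'', r', hr'', rfl⟩ := hmon b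
      show π2 _ ∈ zpowers (π2 c)
      rw [hcomm2 _ _ _ _ _ hr' _ hr'']
      exact zpow_mem (mem_zpowers _) _
    have hMle : M ≤ (zpowers (π2 c)).comap π2 := sup_le hcomm fun a ha => by
      show π2 a ∈ zpowers (π2 c)
      rw [hk2.1 ha]; exact one_mem _
    refine sup_le ((closure_le _).2 ?_) (commutator_le.2 fun a _ b _ =>
      hcomm (commutator_mem_commutator (mem_top a) (mem_top b)))
    rintro _ ⟨a, -, rfl⟩
    exact hMle (hP1 a)
  let σ : G →* G ⧸ ser p G 2 := MonoidHom.mk' (fun a => π2 (a ^ p)) fun a b => by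
    rw [← map_mul]
    exact pow_mul_ser hp2 (comm_mem_succ (mem_top b : b ∈ ser p G 0) a)
  have hP2 : ∀ a : G, a ^ p ∈ ser p G 2 := by
    have hinv : ∀ (β : MulAut G), ∀ a ∈ σ.ker, β a ∈ σ.ker := fun β a ha => hk2.1 (by
      rw [← map_pow]; exact ser_invariant 2 β _ (hk2.2 ha))
    have hs1 : ser p G 1 ≤ σ.ker := fun a ha => hk2.1 (pow_mem_succ ha)
    rcases hline _ hs1 (hinv y) (hinv α) with hk | hk
    swap
    · exact fun a => hk2.2 (hk.ge (mem_top a) : a ∈ σ.ker)
    exfalso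
    have hle : σ.range ≤ zpowers (π2 c) := by
      rintro _ ⟨a, rfl⟩
      exact h12 (hpw1 a)
    have hcard : Nat.card σ.range ≤ p := (Subgroup.card_le_of_le hle).trans (by
      rw [Nat.card_zpowers]
      exact Nat.le_of_dvd hp.out.pos
        (orderOf_dvd_of_pow_eq_one (by rw [← map_pow]; exact hk2.1 (pow_mem_succ hc1))))
    rw [← Subgroup.index_ker, hk, h1, hidx] at hcard
    nlinarith [hp.out.two_le]
  -- two steps down
  set π3 := QuotientGroup.mk' (ser p G 3) with hπ3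
  have hk3 : ∀ {a : G}, a ∈ ser p G 3 ↔ π3 a = 1 := fun {a} => (QuotientGroup.eq_one_iff a).symm
  have hC3 : ∀ {a : G}, a ∈ ser p G 2 → π3 a ∈ center (G ⧸ ser p G 3) := fun ha => mk_mem_center ha
  have hcp : c ^ p ∈ ser p G 3 := by
    have e : (c * z) ^ p = n * z ^ p * n⁻¹ := by
      rw [← conj_pow]; congr 1; rw [hc, commutatorElement_def]; group
    have e' := pow_mul_ser hp2 (x := c) (y := z) (j := 2) (comm_mem_succ' hc1 z)
    rw [e, ← hπ3, map_mul, map_mul, map_inv, mem_center_iff.1 (hC3 (hP2 z)) (π3 n),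
      mul_inv_cancel_right, map_mul, eq_comm] at e'
    exact hk3.2 (mul_eq_right.1 e')
  have hs1 : ∀ a ∈ ser p G 1, ∃ k : ℤ, ∃ u ∈ ser p G 2, a = c ^ k * u := fun a ha => by
    obtain ⟨k, hk⟩ := mem_zpowers_iff.1 (h12 ha)
    rw [← map_zpow] at hk
    exact ⟨k, _, QuotientGroup.eq.1 hk, (mul_inv_cancel_left _ _).symm⟩
  have hs1c : ∀ a ∈ ser p G 1, ∀ b ∈ ser p G 1, Commute (π3 a) (π3 b) := by
    intro a ha b hb
    obtain ⟨k, u, hu, rfl⟩ := hs1 a ha
    obtain ⟨l, u', hu', rfl⟩ := hs1 b hb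
    simp only [map_mul, map_zpow]
    exact ((Commute.zpow_zpow_self _ k l).mul_right ((mk_comm hu' _).symm.zpow_left k)).mul_left
      (mk_comm hu _)
  have hcen3 : ∀ (e a : G), a ∈ ser p G 1 → ⁅π3 e, π3 a⁆ ∈ center (G ⧸ ser p G 3) := fun e a ha => by
    rw [← map_commutatorElement]; exact hC3 (comm_mem_succ' ha e)
  set d := ⁅n, c⁆ with hd
  set w := ⁅z, c⁆ with hw
  have hd2 : d ∈ ser p G 2 := comm_mem_succ' hc1 n
  have hw2 : w ∈ ser p G 2 := comm_mem_succ' hc1 z
  -- commutators of monomials with multiples of `c`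
  have hcomm3 : ∀ a b k : ℤ, ∀ r ∈ ser p G 1, ∀ u ∈ ser p G 2,
      π3 ⁅n ^ a * z ^ b * r, c ^ k * u⁆ = π3 d ^ (a * k) * π3 w ^ (b * k) := by
    intro a b k r hr' u hu
    have hcz : ∀ v : G ⧸ ser p G 3, ⁅v, π3 (c ^ k)⁆ ∈ center (G ⧸ ser p G 3) := fun v => by
      obtain ⟨v, rfl⟩ := QuotientGroup.mk'_surjective _ v
      exact hcen3 v _ (zpow_mem hc1 k)
    have h0 : ∀ v : G ⧸ ser p G 3, ⁅v, π3 u⁆ = 1 := fun v =>
      commutatorElement_eq_one_iff_commute.2 (mem_center_iff.1 (hC3 hu) v)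
    rw [map_commutatorElement, map_mul π3 (c ^ k), comm_mul_right_central _ _ _ (by rw [h0]; exact one_mem _),
      h0, mul_one]
    show commLeft (π3 (c ^ k)) hcz _ = _
    have e0 : ⁅π3 r, π3 (c ^ k)⁆ = 1 :=
      commutatorElement_eq_one_iff_commute.2 (hs1c r hr' _ (zpow_mem hc1 k))
    have e1 : ∀ v : G, ⁅π3 v, π3 (c ^ k)⁆ = π3 ⁅v, c⁆ ^ k := fun v => by
      rw [map_zpow, map_commutatorElement π3 v c]
      refine comm_zpow_right_central _ _ (fun t ht => ?_) k
      obtain ⟨q, rfl⟩ := mem_zpowers_iff.1 ht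
      rw [← map_zpow]
      exact hcen3 v _ (zpow_mem hc1 q)
    simp only [map_mul, map_zpow, commLeft_apply]
    rw [← map_zpow, e0, e1, e1, mul_one, ← zpow_mul, ← zpow_mul, mul_comm k a, mul_comm k b, hd, hw]
  have hexp3 : ∀ a ∈ ser p G 1, a ^ p ∈ ser p G 3 := by
    intro a ha
    obtain ⟨k, u, hu, rfl⟩ := hs1 a ha
    refine hk3.2 ?_
    rw [map_pow, map_mul, (mk_comm hu _).symm.mul_pow, map_zpow, ← zpow_natCast, ← zpow_mul,
      mul_comm k, zpow_mul, zpow_natCast, ← map_pow, hk3.1 hcp, one_zpow, one_mul, ← map_pow]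
    exact hk3.1 (pow_mem_succ hu)
  have h23 : ∀ a ∈ ser p G 2, ∃ k l : ℤ, π3 a = π3 d ^ k * π3 w ^ l := by
    let T : Subgroup G :=
      { carrier := {a | ∃ k l : ℤ, π3 a = π3 d ^ k * π3 w ^ l}
        one_mem' := ⟨0, 0, by simp⟩
        mul_mem' := by
          rintro a b ⟨k, l, e⟩ ⟨k', l', e'⟩
          refine ⟨k + k', l + l', ?_⟩
          rw [map_mul, e, e', mul_assoc, ← mul_assoc (π3 w ^ l),
            ((mk_comm hd2 w).symm.zpow_zpow l k').eq, mul_assoc (π3 d ^ k'), ← mul_assoc, ← zpow_add,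
            ← zpow_add]
        inv_mem' := by
          rintro a ⟨k, l, e⟩
          refine ⟨-k, -l, ?_⟩
          rw [map_inv, e, mul_inv_rev, ← zpow_neg, ← zpow_neg, ((mk_comm hd2 w).zpow_zpow _ _).eq] }
    suffices h : ser p G 2 ≤ T from fun a ha => h ha
    refine sup_le ((closure_le _).2 ?_) (commutator_le.2 fun a ha b _ => ?_)
    · rintro _ ⟨a, ha, rfl⟩
      exact ⟨0, 0, by rw [hk3.1 (hexp3 a ha)]; simp⟩
    · obtain ⟨k, u, hu, rfl⟩ := hs1 a ha
      obtain ⟨a', b', r, hr', rfl⟩ := hmon b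
      rw [← inv_mem_iff, commutatorElement_inv]
      exact ⟨_, _, hcomm3 a' b' k r hr' u hu⟩
  have hdp : π3 d ^ p = 1 := by rw [← map_pow]; exact hk3.1 (pow_mem_succ hd2)
  have hwp : π3 w ^ p = 1 := by rw [← map_pow]; exact hk3.1 (pow_mem_succ hw2)
  -- the other automorphism on `c`
  obtain ⟨f, v, hv2, hαc⟩ := hs1 (α c) (ser_invariant 1 α c hc1)
  have hαw : π3 (α w) = π3 d ^ (i * f) * π3 w ^ (j * f) := by
    rw [hw, map_commutatorElement α, ← mul_inv_cancel_left (n ^ i * z ^ j) (α z), hαc]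
    exact hcomm3 i j f _ hα v hv2
  by_cases hwne : w ∈ ser p G 3
  · left
    have hs2 : ser p G 2 = ⊥ := by
      by_contra hne
      have hc2' : c ∉ ser p G 2 := fun hcc => by
        refine (ser_succ_lt hG (i := 1) fun h => hne (le_bot_iff.1 (h ▸ ser_succ_le 1))).not_ge ?_
        intro a ha
        obtain ⟨k, u, hu, rfl⟩ := hs1 a ha
        exact mul_mem (zpow_mem hcc k) hu
      have hf : ¬ (p : ℤ) ∣ f := fun ⟨m, hm⟩ => hc2' (by
        have h2 : α c ∈ ser p G 2 := by
          rw [hαc, hm, zpow_mul, zpow_natCast]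
          exact mul_mem (zpow_mem (pow_mem_succ hc1) m) hv2
        simpa using ser_invariant 2 α⁻¹ _ h2)
      have hd3 : d ∈ ser p G 3 := by
        by_contra hd3
        refine (hpz.not_dvd_mul hi hf) (dvd_of_zpow_mem (pow_mem_succ hd2) hd3 (hk3.2 ?_))
        have := hk3.1 (ser_invariant 3 α _ hwne)
        rw [hαw, hk3.1 hwne, one_zpow, mul_one] at this
        rw [map_zpow]; exact this
      refine (ser_succ_lt hG hne).not_ge fun a ha => hk3.2 ?_
      obtain ⟨k, l, e⟩ := h23 a ha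
      rw [e, hk3.1 hd3, hk3.1 hwne, one_zpow, one_zpow, mul_one]
    rw [← h1]
    refine (Subgroup.card_le_of_le (show ser p G 1 ≤ zpowers c from fun a ha => ?_)).trans ?_
    · obtain ⟨k, u, hu, rfl⟩ := hs1 a ha
      rw [hs2, mem_bot] at hu
      rw [hu, mul_one]
      exact zpow_mem (mem_zpowers c) k
    · rw [Nat.card_zpowers]
      refine Nat.le_of_dvd hp.out.pos (orderOf_dvd_of_pow_eq_one ?_)
      have := ser_succ_le 2 (hcp)
      rwa [hs2, mem_bot] at this
  right
  have hyc : (c)⁻¹ * y c ∈ ser p G 2 := by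
    refine QuotientGroup.eq.1 ?_
    show π2 c = π2 (y c)
    rw [hc, map_commutatorElement y, hyn, ← mul_inv_cancel_left z (y z)]
    have := hcomm2 1 1 0 1 1 (one_mem _) _ hyz
    simp only [zpow_one, zpow_zero, mul_one, one_mul] at this
    rw [this]
    simp [hc]
  obtain ⟨u0, hu0, hyc'⟩ : ∃ u ∈ ser p G 2, y c = c * u := ⟨_, hyc, (mul_inv_cancel_left _ _).symm⟩
  have hyd : π3 (y d) = π3 d * π3 w := by
    rw [hd, map_commutatorElement y, hyn, hyc']
    have := hcomm3 1 1 1 1 (one_mem _) u0 hu0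
    simpa only [zpow_one, mul_one, one_mul, hd] using this
  have hyw : π3 (y w) = π3 w := by
    rw [hw, map_commutatorElement y, hyc', ← mul_inv_cancel_left z (y z)]
    have := hcomm3 0 1 1 _ hyz u0 hu0
    simpa only [zpow_one, zpow_zero, mul_one, one_mul, hw] using this
  have hind3 : ∀ k l : ℤ, π3 d ^ k * π3 w ^ l = 1 → (p : ℤ) ∣ k ∧ (p : ℤ) ∣ l := by
    intro k l e
    have hY := congrArg (serMap (p := p) 3 y) e
    have hY3 : ∀ a : G, serMap (p := p) 3 y (π3 a) = π3 (y a) := fun _ => rfl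
    have hdw : Commute (π3 d) (π3 w) := mk_comm hd2 w
    rw [map_mul, map_zpow, map_zpow, map_one, hY3, hY3, hyd, hyw,
      hdw.mul_zpow, mul_assoc, ← zpow_add, add_comm, zpow_add, ← mul_assoc, e, one_mul] at hY
    have hk : (p : ℤ) ∣ k := dvd_of_zpow_mem (pow_mem_succ hw2) hwne (hk3.2 (by rw [map_zpow]; exact hY))
    obtain ⟨m, rfl⟩ := hk
    rw [zpow_mul, zpow_natCast, hdp, one_zpow, one_mul] at e
    exact ⟨dvd_mul_right _ _, dvd_of_zpow_mem (pow_mem_succ hw2) hwne (hk3.2 (by rw [map_zpow]; exact e))⟩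
  -- three steps down
  have hs3 : ser p G 3 = ⊥ := by
    by_contra hne
    refine (ser_succ_lt hG hne).not_ge ?_
    set π := QuotientGroup.mk' (ser p G 4) with hπ
    have hk : ∀ {a : G}, a ∈ ser p G 4 ↔ π a = 1 := fun {a} => (QuotientGroup.eq_one_iff a).symm
    have hC : ∀ {a : G}, a ∈ ser p G 3 → π a ∈ center (G ⧸ ser p G 4) := fun ha => mk_mem_center ha
    have hfix : ∀ a ∈ ser p G 2, ∀ e f : G, (Commute (π a) (π f) ∨ ⁅a, f⁆ ∈ ser p G 3) →
        Commute (π a) (π ⁅e, f⁆) := by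
      intro a ha e f hf
      have hz : ∀ g : G, (Commute (π a) (π g) ∨ ⁅a, g⁆ ∈ ser p G 3) →
          ∃ t ∈ center (G ⧸ ser p G 4), π a * π g * (π a)⁻¹ = t * π g := by
        intro g hg
        rcases hg with hg | hg
        · exact ⟨1, one_mem _, by rw [hg.eq, mul_inv_cancel_right, one_mul]⟩
        · exact ⟨π ⁅a, g⁆, hC hg, by rw [map_commutatorElement, commutatorElement_def]; group⟩
      obtain ⟨t, ht, he⟩ := hz e (Or.inr (comm_mem_succ ha e))
      obtain ⟨t', ht', hf'⟩ := hz f hf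
      have e1 : π a * π ⁅e, f⁆ * (π a)⁻¹ = π ⁅e, f⁆ := by
        have h2 : ∀ (g : G ⧸ ser p G 4), g * t = t * g := mem_center_iff.1 ht
        have h3 : ∀ (g : G ⧸ ser p G 4), g * t' = t' * g := mem_center_iff.1 ht'
        rw [map_commutatorElement]
        calc π a * ⁅π e, π f⁆ * (π a)⁻¹ = ⁅π a * π e * (π a)⁻¹, π a * π f * (π a)⁻¹⁆ := by
              simp only [commutatorElement_def]; group
          _ = ⁅t * π e, t' * π f⁆ := by rw [he, hf']
          _ = t * (π e * t') * π f * (t * π e)⁻¹ * (t' * π f)⁻¹ := by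
              simp only [commutatorElement_def]; group
          _ = t' * (t * (π e * π f * (π e)⁻¹) * t⁻¹) * (π f)⁻¹ * t'⁻¹ := by
              rw [h3 (π e), ← mul_assoc t, h3 t]; group
          _ = ⁅π e, π f⁆ := by
              rw [← h2 (π e * π f * (π e)⁻¹), mul_inv_cancel_right, mul_assoc t',
                ← h3 (π e * π f * (π e)⁻¹ * (π f)⁻¹), mul_inv_cancel_right, commutatorElement_def]
      exact mul_inv_eq_iff_eq_mul.1 e1
    have h2c : ∀ a ∈ ser p G 2, Commute (π a) (π c) := fun a ha =>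
      hfix a ha n z (Or.inr (comm_mem_succ ha z))
    have h2d : ∀ a ∈ ser p G 2, Commute (π a) (π d) := fun a ha => hfix a ha n c (Or.inl (h2c a ha))
    have h2w : ∀ a ∈ ser p G 2, Commute (π a) (π w) := fun a ha => hfix a ha z c (Or.inl (h2c a ha))
    have hcomm1 : ∀ a ∈ ser p G 1, ∀ b ∈ ser p G 2, Commute (π a) (π b) := by
      intro a ha b hb
      obtain ⟨k, u, hu, rfl⟩ := hs1 a ha
      obtain ⟨k', l', e⟩ := h23 u hu
      rw [← map_zpow, ← map_zpow, ← map_mul] at e
      have hs : ((d ^ k' * w ^ l'))⁻¹ * u ∈ ser p G 3 := QuotientGroup.eq.1 e.symm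
      rw [← mul_inv_cancel_left (d ^ k' * w ^ l') u]
      simp only [map_mul, map_zpow]
      exact ((h2c b hb).symm.zpow_left k).mul_left
        ((((h2d b hb).symm.zpow_left k').mul_left ((h2w b hb).symm.zpow_left l')).mul_left
          (mem_center_iff.1 (hC hs) (π b)).symm)
    have hpow : ∀ v : G, (Commute (π ⁅v, c⁆) (π c)) → π ⁅v, c⁆ ^ p = 1 := by
      intro v hvc
      have e : π ((⁅v, c⁆ * c) ^ p) = π (c ^ p) := by
        have : (⁅v, c⁆ * c) ^ p = v * c ^ p * v⁻¹ := by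
          rw [← conj_pow]; congr 1; rw [commutatorElement_def]; group
        rw [this, map_mul, map_mul, map_inv, mem_center_iff.1 (hC hcp) (π v), mul_inv_cancel_right]
      rw [map_pow, map_mul, hvc.mul_pow, map_pow] at e
      exact mul_eq_right.1 e
    have hdp' : π d ^ p = 1 := hpow n (h2c d hd2)
    have hwp' : π w ^ p = 1 := hpow z (h2c w hw2)
    have hcen : ∀ (v : G ⧸ ser p G 4) {a : G}, a ∈ ser p G 2 → ⁅v, π a⁆ ∈ center (G ⧸ ser p G 4) :=
      fun v a ha => by
        obtain ⟨v, rfl⟩ := QuotientGroup.mk'_surjective _ v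
        rw [← map_commutatorElement]; exact hC (comm_mem_succ' ha v)
    set P := ⁅n, d⁆ with hP
    set Q := ⁅z, d⁆ with hQ
    set R := ⁅z, w⁆ with hR
    have hP3 : P ∈ ser p G 3 := comm_mem_succ' hd2 n
    have hQ3 : Q ∈ ser p G 3 := comm_mem_succ' hd2 z
    have hR3 : R ∈ ser p G 3 := comm_mem_succ' hw2 z
    have h3c : ∀ {a b : G}, a ∈ ser p G 3 → Commute (π a) (π b) := fun ha => mk_comm ha _
    have hjac : π ⁅n, w⁆ = π Q := by
      have e1 : n * (z * c * z⁻¹) * n⁻¹ = c * (z * (n * c * n⁻¹) * z⁻¹) * c⁻¹ := by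
        rw [hc, commutatorElement_def n z]; group
      have e2 : n * (z * c * z⁻¹) * n⁻¹ = ⁅n, w⁆ * w * (d * c) := by
        rw [hw, hd]; simp only [commutatorElement_def]; group
      have e3 : z * (n * c * n⁻¹) * z⁻¹ = Q * d * (w * c) := by
        rw [hQ, hw, hd]; simp only [commutatorElement_def]; group
      rw [e2, e3] at e1
      have e4 := congrArg π e1
      simp only [map_mul, map_inv] at e4
      have hx : Commute (π c) (π Q * π d * (π w * π c)) :=
        ((h3c hQ3).symm.mul_right (h2c d hd2).symm).mul_right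
          ((h2c w hw2).symm.mul_right (Commute.refl _))
      rw [hx.eq, mul_inv_cancel_right, mul_assoc, mul_assoc (π Q), ← mul_assoc (π w), ← mul_assoc (π d),
        (h2d w hw2).eq] at e4
      exact mul_right_cancel e4
    have hcomm4 : ∀ a b k l : ℤ, ∀ r ∈ ser p G 1, ∀ u ∈ ser p G 3,
        π ⁅n ^ a * z ^ b * r, d ^ k * w ^ l * u⁆ =
          (π P ^ k * π Q ^ l) ^ a * (π Q ^ k * π R ^ l) ^ b := by
      intro a b k l r hr' u hu
      have hx : d ^ k * w ^ l ∈ ser p G 2 := mul_mem (zpow_mem hd2 k) (zpow_mem hw2 l)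
      have h0 : ∀ v : G ⧸ ser p G 4, ⁅v, π u⁆ = 1 := fun v =>
        commutatorElement_eq_one_iff_commute.2 (mem_center_iff.1 (hC hu) v)
      rw [map_commutatorElement, map_mul π (d ^ k * w ^ l),
        comm_mul_right_central _ _ _ (by rw [h0]; exact one_mem _), h0, mul_one]
      have l1 : ∀ v v' : G ⧸ ser p G 4, ⁅v * v', π (d ^ k * w ^ l)⁆ =
          ⁅v, π (d ^ k * w ^ l)⁆ * ⁅v', π (d ^ k * w ^ l)⁆ :=
        map_mul (commLeft (π (d ^ k * w ^ l)) fun v => hcen v hx)
      have l2 : ∀ (v : G ⧸ ser p G 4) (q : ℤ), ⁅v ^ q, π (d ^ k * w ^ l)⁆ =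
          ⁅v, π (d ^ k * w ^ l)⁆ ^ q :=
        map_zpow (commLeft (π (d ^ k * w ^ l)) fun v => hcen v hx)
      rw [map_mul π (n ^ a * z ^ b), map_mul π (n ^ a), map_zpow π n, map_zpow π z, l1, l1, l2, l2]
      have e1 : ∀ v : G, ⁅π v, π (d ^ k * w ^ l)⁆ = π ⁅v, d⁆ ^ k * π ⁅v, w⁆ ^ l := fun v => by
        rw [map_mul π, comm_mul_right_central _ _ _ (hcen _ (zpow_mem hw2 l)), map_zpow, map_zpow,
          map_commutatorElement π v d, map_commutatorElement π v w, comm_zpow_right_central _ _ (fun t ht => ?_) k,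
          comm_zpow_right_central _ _ (fun t ht => ?_) l]
        · obtain ⟨q, rfl⟩ := mem_zpowers_iff.1 ht
          rw [← map_zpow]; exact hcen _ (zpow_mem hw2 q)
        · obtain ⟨q, rfl⟩ := mem_zpowers_iff.1 ht
          rw [← map_zpow]; exact hcen _ (zpow_mem hd2 q)
      have e0 : ⁅π r, π (d ^ k * w ^ l)⁆ = 1 :=
        commutatorElement_eq_one_iff_commute.2 (hcomm1 r hr' _ hx)
      rw [e0, mul_one, e1, e1, hjac]
    -- the transvection
    obtain ⟨u1, hu1, hyd'⟩ : ∃ u ∈ ser p G 3, y d = d * w * u := by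
      rw [← map_mul] at hyd
      exact ⟨_, QuotientGroup.eq.1 hyd.symm, (mul_inv_cancel_left _ _).symm⟩
    obtain ⟨u2, hu2, hyw'⟩ : ∃ u ∈ ser p G 3, y w = w * u :=
      ⟨_, QuotientGroup.eq.1 hyw.symm, (mul_inv_cancel_left _ _).symm⟩
    have hyP : π (y P) = π P * π Q ^ 2 * π R := by
      rw [hP, map_commutatorElement y, hyn, hyd']
      have := hcomm4 1 1 1 1 1 (one_mem _) u1 hu1
      simp only [zpow_one, mul_one] at this
      rw [this, pow_two]
      simp only [mul_assoc, hP]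
    have hyQ : π (y Q) = π Q * π R := by
      rw [hQ, map_commutatorElement y, hyd', ← mul_inv_cancel_left z (y z)]
      have := hcomm4 0 1 1 1 _ hyz u1 hu1
      simp only [zpow_one, zpow_zero, one_mul] at this
      rw [this]
    have hyR : π (y R) = π R := by
      rw [hR, map_commutatorElement y, hyw', ← mul_inv_cancel_left z (y z)]
      have := hcomm4 0 1 0 1 _ hyz u2 hu2
      simp only [zpow_one, zpow_zero, one_mul] at this
      rw [this]
    have hsection : ∀ A B : G, A ∈ ser p G 3 → B ∈ ser p G 3 →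
        (∀ k l : ℤ, π A ^ k * π B ^ l = 1 → (p : ℤ) ∣ k ∧ (p : ℤ) ∣ l) → False := by
      intro A B hA hB hAB
      refine rank_contra hr (ser p G 4) ![d, w, A, B] (fun s t => hk.2 ?_) (fun s => hk.2 ?_)
        fun e he => ?_
      · rw [map_commutatorElement, commutatorElement_eq_one_iff_commute]
        fin_cases s <;> fin_cases t <;>
          first
            | exact Commute.refl _
            | exact h2w d hd2
            | exact (h2w d hd2).symm
            | exact h3c hA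
            | exact h3c hB
            | exact (h3c hA).symm
            | exact (h3c hB).symm
      · rw [map_pow]
        fin_cases s
        · exact hdp'
        · exact hwp'
        · exact (map_pow π A p).symm.trans (hk.1 (pow_mem_succ hA))
        · exact (map_pow π B p).symm.trans (hk.1 (pow_mem_succ hB))
      · simp only [Matrix.cons_val_zero, Matrix.cons_val_one, Matrix.cons_val] at he
        have h3 : π3 d ^ e 0 * π3 w ^ e 1 = 1 := by
          have := hk3.1 (ser_succ_le 3 he)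
          simpa only [map_mul, map_zpow, hk3.1 hA, hk3.1 hB, one_zpow, mul_one] using this
        obtain ⟨⟨q, hq⟩, ⟨q', hq'⟩⟩ := hind3 _ _ h3
        have h4 := hk.1 he
        simp only [map_mul, map_zpow] at h4
        rw [hq, hq', zpow_mul, zpow_mul, zpow_natCast, zpow_natCast, hdp', hwp', one_zpow, one_zpow,
          one_mul, one_mul] at h4
        obtain ⟨g2, g3⟩ := hAB _ _ h4
        intro s
        fin_cases s
        exacts [⟨q, hq⟩, ⟨q', hq'⟩, g2, g3]
    have hdvd : ∀ {A : G}, A ∈ ser p G 3 → π A ≠ 1 → ∀ {k : ℤ}, π A ^ k = 1 → (p : ℤ) ∣ k :=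
      fun {A} hA hA1 {k} e => dvd_of_zpow_mem (pow_mem_succ hA) (fun h => hA1 (hk.1 h))
        (hk.2 (by rw [map_zpow]; exact e))
    have hexp4 : ∀ {A : G}, A ∈ ser p G 3 → ∀ {k : ℤ}, (p : ℤ) ∣ k → π A ^ k = 1 := by
      rintro A hA k ⟨m, rfl⟩
      rw [zpow_mul, zpow_natCast, ← map_pow, hk.1 (pow_mem_succ hA), one_zpow]
    have hY4 : ∀ a : G, serMap (p := p) 4 y (π a) = π (y a) := fun _ => rfl
    have hR1 : π R = 1 := by
      by_contra hR1
      refine hsection Q R hQ3 hR3 fun k l e => ?_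
      have hY := congrArg (serMap (p := p) 4 y) e
      rw [map_mul, map_zpow, map_zpow, map_one, hY4, hY4, hyQ, hyR, (h3c hQ3).mul_zpow, mul_assoc,
        ← zpow_add, add_comm, zpow_add, ← mul_assoc, e, one_mul] at hY
      have hk' := hdvd hR3 hR1 hY
      rw [hexp4 hQ3 hk', one_mul] at e
      exact ⟨hk', hdvd hR3 hR1 e⟩
    have hQ1 : π Q = 1 := by
      by_contra hQ1
      refine hsection P Q hP3 hQ3 fun k l e => ?_
      have hY := congrArg (serMap (p := p) 4 y) e
      rw [map_mul, map_zpow, map_zpow, map_one, hY4, hY4, hyP, hyQ, hR1, mul_one, mul_one,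
        ((h3c hP3).pow_right 2).mul_zpow, mul_assoc, ← zpow_natCast, ← zpow_mul, ← zpow_add, add_comm,
        zpow_add, ← mul_assoc, e, one_mul] at hY
      have hk' : (p : ℤ) ∣ k := (hpz.dvd_or_dvd (hdvd hQ3 hQ1 hY)).resolve_left fun h => hp2
        ((Nat.prime_dvd_prime_iff_eq hp.out Nat.prime_two).1 (Int.natCast_dvd_natCast.1 h))
      rw [hexp4 hP3 hk', one_mul] at e
      exact ⟨hk', hdvd hQ3 hQ1 e⟩
    have hP1' : π P = 1 := by
      have hc2' : c ∉ ser p G 2 := fun h => hwne (comm_mem_succ' h z)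
      have hf : ¬ (p : ℤ) ∣ f := fun ⟨m, hm⟩ => hc2' (by
        have h2 : α c ∈ ser p G 2 := by
          rw [hαc, hm, zpow_mul, zpow_natCast]
          exact mul_mem (zpow_mem (pow_mem_succ hc1) m) hv2
        simpa using ser_invariant 2 α⁻¹ _ h2)
      by_contra hP1'
      rw [← map_zpow, ← map_zpow, ← map_mul] at hαw
      have hu := QuotientGroup.eq.1 hαw.symm
      have hRα : π (α R) = 1 := hk.1 (ser_invariant 4 α _ (hk.2 hR1))
      rw [hR, map_commutatorElement α, ← mul_inv_cancel_left (n ^ i * z ^ j) (α z),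
        ← mul_inv_cancel_left (d ^ (i * f) * w ^ (j * f)) (α w), hcomm4 _ _ _ _ _ hα _ hu, hQ1, hR1,
        one_zpow, one_zpow, mul_one, mul_one, one_zpow, mul_one, ← zpow_mul] at hRα
      exact hpz.not_dvd_mul (hpz.not_dvd_mul hi hf) hi (hdvd hP3 hP1' hRα)
    refine sup_le ((closure_le _).2 ?_) (commutator_le.2 fun a ha b _ => ?_)
    · rintro _ ⟨a, ha, rfl⟩
      obtain ⟨k', l', e⟩ := h23 a ha
      rw [← map_zpow, ← map_zpow, ← map_mul] at e
      have hu := QuotientGroup.eq.1 e.symm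
      refine hk.2 ?_
      rw [map_pow, ← mul_inv_cancel_left (d ^ k' * w ^ l') a, map_mul, (h3c hu).symm.mul_pow, map_mul,
        map_zpow, map_zpow, ((h2w d hd2).zpow_zpow k' l').mul_pow, ← zpow_natCast (π d ^ k'),
        ← zpow_natCast (π w ^ l'), ← zpow_mul, ← zpow_mul, mul_comm k', mul_comm l', zpow_mul,
        zpow_mul, zpow_natCast, zpow_natCast, hdp', hwp', one_zpow, one_zpow, one_mul, one_mul,
        ← map_pow]
      exact hk.1 (pow_mem_succ hu)
    · obtain ⟨k', l', e⟩ := h23 a ha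
      rw [← map_zpow, ← map_zpow, ← map_mul] at e
      have hu := QuotientGroup.eq.1 e.symm
      obtain ⟨a', b', r, hr', rfl⟩ := hmon b
      rw [← inv_mem_iff, commutatorElement_inv]
      refine hk.2 ?_
      rw [← mul_inv_cancel_left (d ^ k' * w ^ l') a, hcomm4 _ _ _ _ _ hr' _ hu, hP1', hQ1, hR1]
      simp
  -- conclusion
  have hk0 : ∀ {a : G}, π3 a = 1 → a = 1 := fun h => mem_bot.1 (hs3 ▸ hk3.2 h)
  have hcen2 : ∀ {a : G}, a ∈ ser p G 2 → a ∈ center G := fun {a} ha => mem_center_iff.2 fun g => by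
    have := comm_mem_succ ha g
    rw [hs3, mem_bot, commutatorElement_eq_one_iff_mul_comm] at this
    exact this.symm
  have hcomm : ∀ a, Commute a c → ∃ k : ℤ, ∃ u ∈ ser p G 2, a = c ^ k * u := by
    intro a hac
    obtain ⟨a', b', r, hr', rfl⟩ := hmon a
    have e := hcomm3 a' b' 1 r hr' 1 (one_mem _)
    rw [zpow_one, mul_one, commutatorElement_eq_one_iff_commute.2 hac, map_one, mul_one, mul_one] at e
    obtain ⟨⟨q, rfl⟩, ⟨q', rfl⟩⟩ := hind3 _ _ e.symm
    refine hs1 _ (mul_mem (mul_mem ?_ ?_) hr') <;> rw [zpow_mul, zpow_natCast] <;>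
      exact zpow_mem (hpw1 _) _
  refine ⟨c, d, w, hcen2 hd2, hcen2 hw2, ?_, ?_, fun h => hwne (h ▸ one_mem _),
    commutator_mem_commutator (mem_top n) (mem_top c), commutator_mem_commutator (mem_top n) (mem_top z),
    fun a haz hac => ?_, fun a ha => ?_⟩
  · exact hk0 ((map_pow π3 d p).trans hdp)
  · rw [← inv_mul_eq_one]
    exact hk0 (by rw [map_mul, map_inv, hyd, map_mul, inv_mul_cancel] : π3 ((y d)⁻¹ * (d * w)) = 1)
  · obtain ⟨k, u, hu, rfl⟩ := hcomm a hac
    have hcz : Commute (c ^ k) z := by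
      have hu' : Commute u z := (mem_center_iff.1 (hcen2 hu) z).symm
      have := haz.mul_left hu'.inv_left
      rwa [mul_inv_cancel_right] at this
    have e := hcomm3 0 1 k 1 (one_mem _) 1 (one_mem _)
    rw [zpow_zero, zpow_one, one_mul, mul_one, mul_one, zero_mul, one_mul, zpow_zero, one_mul,
      commutatorElement_eq_one_iff_commute.2 hcz.symm, map_one] at e
    obtain ⟨q, rfl⟩ := dvd_of_zpow_mem (pow_mem_succ hw2) hwne (hk3.2 (by rw [map_zpow]; exact e.symm))
    rw [zpow_mul, zpow_natCast, mem_bot.1 (hs3 ▸ hcp : c ^ p ∈ (⊥ : Subgroup G)), one_zpow, one_mul]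
    exact hcen2 hu
  · obtain ⟨k, u, hu, rfl⟩ := hcomm a (mem_center_iff.1 ha c).symm
    rw [← h1]
    exact mul_mem (zpow_mem hc1 k) (ser_succ_le 1 hu)

end CfsgLib.Fusion.RankThree
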