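import Cfsg.Agent.Fusion.RankThree.Middle
import Cfsg.Agent.Fusion.RankThree.TwoLayers

/-!
The reducible case all the way down: commutators of the Frattini subgroup fall two steps.
-/

set_option autoImplicit false
set_option linter.unusedSectionVars false

open Subgroup
open scoped commutatorElement

namespace CfsgLib.Fusion.RankThree

variable {G : Type*} [Group G] {p : ℕ} [hp : Fact p.Prime]

/-- The hypotheses on a torus and a transvection for three generators with the third in the middle. -/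
structure ThreeGen (p : ℕ) (G : Type*) [Group G] (n z u : G) (τ y α : MulAut G) (μ ν i : ℤ) :
    Prop where
  μν : (p : ℤ) ∣ μ * ν - 1
  μ1 : ¬ (p : ℤ) ∣ μ - 1
  μ2 : ¬ (p : ℤ) ∣ μ ^ 2 - 1
  span : ∀ e : G, ∃ a b k : ℤ, ∃ r ∈ ser p G 1, e = n ^ a * z ^ b * u ^ k * r
  indep : ∀ a b k : ℤ, n ^ a * z ^ b * u ^ k ∈ ser p G 1 →
    (p : ℤ) ∣ a ∧ (p : ℤ) ∣ b ∧ (p : ℤ) ∣ k
  hnu : ⁅n, u⁆ ∈ ser p G 2
  hzu : ⁅z, u⁆ ∈ ser p G 2
  hnp : n ^ p ∈ ser p G 2
  hzp : z ^ p ∈ ser p G 2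
  τn : ∃ r ∈ ser p G 1, τ n = n ^ ν * r
  τz : ∃ r ∈ ser p G 1, τ z = z ^ μ * r
  τu : ∃ r ∈ ser p G 1, τ u = u * r
  yn : y n = n * z
  yz : ∃ r ∈ ser p G 1, y z = z * r
  αz : ∃ j m : ℤ, ∃ r ∈ ser p G 1, α z = n ^ i * z ^ j * u ^ m * r
  hi : ¬ (p : ℤ) ∣ i

set_option maxHeartbeats 1600000 in
/-- Commutators of the Frattini subgroup fall two steps, and the torus fixes the layer. -/
theorem deep_step [Finite G] (hG : IsPGroup p G) (hp2 : p ≠ 2)
    (hr : Cfsg.SectionalPRankLE p 3 G) {n z u : G} {τ y α : MulAut G} {μ ν i : ℤ}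
    (T : ThreeGen p G n z u τ y α μ ν i) :
    (∀ a ∈ ser p G 1, ∀ e : G, ⁅e, a⁆ ∈ ser p G 3) ∧
      ∀ a ∈ ser p G 1, a⁻¹ * τ a ∈ ser p G 2 := by
  classical
  have hpz : Prime (p : ℤ) := Nat.prime_iff_prime_int.1 hp.out
  have hν1 : ¬ (p : ℤ) ∣ ν - 1 := fun h => T.μ1 (by
    obtain ⟨r, hr⟩ := T.μν
    obtain ⟨r', hr'⟩ := h
    exact ⟨r - μ * r', by linear_combination hr - μ * hr'⟩)
  have hμν' : ¬ (p : ℤ) ∣ μ - ν := fun h => T.μ2 (by
    obtain ⟨r, hr⟩ := T.μν
    obtain ⟨r', hr'⟩ := h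
    exact ⟨μ * r' + r, by linear_combination μ * hr' + hr⟩)
  obtain ⟨rn, hrn, eτn⟩ := T.τn
  obtain ⟨rz, hrz, eτz⟩ := T.τz
  obtain ⟨ru, hru, eτu⟩ := T.τu
  obtain ⟨rz', hrz', eyz⟩ := T.yz
  obtain ⟨j, m, rα, hrα, eαz⟩ := T.αz
  set c := ⁅n, z⁆ with hc
  have hc1 : c ∈ ser p G 1 := comm_mem_succ (mem_top n : n ∈ ser p G 0) z
  have hup1 : u ^ p ∈ ser p G 1 := pow_mem_succ (mem_top u : u ∈ ser p G 0)
  set π2 := QuotientGroup.mk' (ser p G 2)
  have hk2 : ∀ {a : G}, a ∈ ser p G 2 ↔ π2 a = 1 := fun {a} => (QuotientGroup.eq_one_iff a).symm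
  have hc2 : ∀ e v : G ⧸ ser p G 2, ⁅e, v⁆ ∈ center (G ⧸ ser p G 2) := fun e v => by
    obtain ⟨e, rfl⟩ := QuotientGroup.mk'_surjective _ e
    obtain ⟨v, rfl⟩ := QuotientGroup.mk'_surjective _ v
    rw [← map_commutatorElement]
    exact mk_mem_center (comm_mem_succ (mem_top e : e ∈ ser p G 0) v)
  have hcomm2 : ∀ a b k a' b' k' : ℤ, ∀ r ∈ ser p G 1, ∀ r' ∈ ser p G 1,
      π2 ⁅n ^ a * z ^ b * u ^ k * r, n ^ a' * z ^ b' * u ^ k' * r'⁆ = π2 c ^ (a * b' - b * a') := by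
    intro a b k a' b' k' r hr' r' hr''
    have e0 : ∀ v v' t : G ⧸ ser p G 2, t ∈ center (G ⧸ ser p G 2) → ⁅v * t, v'⁆ = ⁅v, v'⁆ := by
      intro v v' t ht
      calc ⁅v * t, v'⁆ = v * (t * v') * t⁻¹ * v⁻¹ * v'⁻¹ := by simp only [commutatorElement_def]; group
        _ = v * (v' * t) * t⁻¹ * v⁻¹ * v'⁻¹ := by rw [(mem_center_iff.1 ht v').symm]
        _ = ⁅v, v'⁆ := by simp only [commutatorElement_def]; group
    rw [map_commutatorElement, map_mul, map_mul π2 (n ^ a' * z ^ b' * u ^ k'), e0 _ _ _ (mk_mem_center hr'),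
      ← commutatorElement_inv, e0 _ _ _ (mk_mem_center hr''), commutatorElement_inv]
    simp only [map_mul, map_zpow]
    rw [comm_monomial hc2, ← map_commutatorElement π2 n z, ← map_commutatorElement π2 n u,
      ← map_commutatorElement π2 z u, hk2.1 T.hnu, hk2.1 T.hzu, one_zpow, one_zpow, mul_one, mul_one]
  let C1 : Subgroup (G ⧸ ser p G 2) := zpowers (π2 (u ^ p)) ⊔ zpowers (π2 c)
  have h12 : ∀ a ∈ ser p G 1, ∃ k l : ℤ, ∃ s ∈ ser p G 2, a = (u ^ p) ^ k * c ^ l * s := by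
    have hle : ser p G 1 ≤ C1.comap π2 := by
      let σ : G →* G ⧸ ser p G 2 := MonoidHom.mk' (fun a => π2 (a ^ p)) fun a b => by
        rw [← map_mul]
        exact pow_mul_ser hp2 (comm_mem_succ (mem_top b : b ∈ ser p G 0) a)
      refine sup_le ((closure_le _).2 ?_) (commutator_le.2 fun a _ b _ => ?_)
      · rintro _ ⟨a, -, rfl⟩
        obtain ⟨i', j', k', r, hr', rfl⟩ := T.span a
        show σ _ ∈ C1
        rw [map_mul, map_mul, map_mul, map_zpow, map_zpow, map_zpow,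
          show σ n = 1 from hk2.1 T.hnp, show σ z = 1 from hk2.1 T.hzp,
          show σ r = 1 from hk2.1 (pow_mem_succ hr'), one_zpow, one_zpow, one_mul, one_mul, mul_one]
        exact mem_sup_left (zpow_mem (mem_zpowers (π2 (u ^ p))) k')
      · obtain ⟨a', b', k', r, hr', rfl⟩ := T.span a
        obtain ⟨a'', b'', k'', r', hr'', rfl⟩ := T.span b
        show π2 _ ∈ C1
        rw [hcomm2 _ _ _ _ _ _ _ hr' _ hr'']
        exact mem_sup_right (zpow_mem (mem_zpowers _) _)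
    intro a ha
    haveI : (zpowers (π2 c)).Normal := ⟨fun v hv g => by
      rw [mem_center_iff.1 (zpowers_le.2 (mk_mem_center hc1) hv) g, mul_inv_cancel_right]; exact hv⟩
    obtain ⟨v, hv, v', hv', e⟩ := mem_sup_of_normal_right.1 (hle ha)
    obtain ⟨k, rfl⟩ := mem_zpowers_iff.1 hv
    obtain ⟨l, rfl⟩ := mem_zpowers_iff.1 hv'
    rw [← map_zpow, ← map_zpow, ← map_mul] at e
    exact ⟨k, l, _, QuotientGroup.eq.1 e, (mul_inv_cancel_left _ _).symm⟩
  have hcomm2' : ∀ a b k a' b' k' : ℤ, ∀ r ∈ ser p G 1, ∀ r' ∈ ser p G 1, ∀ (v w' : G),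
      v = n ^ a * z ^ b * u ^ k * r → w' = n ^ a' * z ^ b' * u ^ k' * r' →
        π2 ⁅v, w'⁆ = π2 c ^ (a * b' - b * a') := by
    intro a b k a' b' k' r h r' h' v w' e e'
    rw [e, e']; exact hcomm2 a b k a' b' k' r h r' h'
  have hτc : c⁻¹ * τ c ∈ ser p G 2 := by
    refine QuotientGroup.eq.1 ?_
    show π2 c = π2 (τ c)
    rw [hc, map_commutatorElement τ, eτn, eτz,
      hcomm2' ν 0 0 0 μ 0 rn hrn rz hrz (n ^ ν * rn) (z ^ μ * rz) (by simp) (by simp), ← hc, zero_mul, sub_zero]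
    exact ((zpow_congr (by rw [← map_pow]; exact hk2.1 (pow_mem_succ hc1)) (j := 1)
      (by rw [mul_comm]; exact T.μν)).trans (zpow_one _)).symm
  have hτup : (u ^ p)⁻¹ * τ (u ^ p) ∈ ser p G 2 := by
    refine QuotientGroup.eq.1 ?_
    show π2 (u ^ p) = π2 (τ (u ^ p))
    rw [map_pow τ, eτu, pow_mul_ser hp2 (j := 1) (comm_mem_succ hru u |> ser_succ_le 1),
      map_mul, hk2.1 (pow_mem_succ hru), mul_one]
  have hτ1 : ∀ a ∈ ser p G 1, a⁻¹ * τ a ∈ ser p G 2 := by
    intro a ha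
    obtain ⟨k, l, s, hs, rfl⟩ := h12 a ha
    refine QuotientGroup.eq.1 ?_
    show π2 _ = π2 (τ _)
    simp only [map_mul, map_zpow, hk2.1 hs, hk2.1 (ser_invariant 2 τ _ hs), mul_one]
    rw [show π2 c = π2 (τ c) from QuotientGroup.eq.2 hτc,
      show π2 (u ^ p) = π2 (τ (u ^ p)) from QuotientGroup.eq.2 hτup]
  refine ⟨?_, hτ1⟩
  -- modulo the third term
  set π3 := QuotientGroup.mk' (ser p G 3) with hπ3
  have hk3 : ∀ {a : G}, a ∈ ser p G 3 ↔ π3 a = 1 := fun {a} => (QuotientGroup.eq_one_iff a).symm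
  have hC3 : ∀ {a : G}, a ∈ ser p G 2 → π3 a ∈ center (G ⧸ ser p G 3) := fun ha => mk_mem_center ha
  have hu2 : ∀ e : G, ⁅e, u⁆ ∈ ser p G 2 := fun e => by
    obtain ⟨a, b, k, r, hr', rfl⟩ := T.span e
    refine hk2.2 ?_
    rw [hcomm2' a b k 0 0 1 r hr' 1 (one_mem _) _ _ rfl (by simp), mul_zero, mul_zero, sub_zero,
      zpow_zero]
  have hupc : ∀ e : G, ⁅e, u ^ p⁆ ∈ ser p G 3 := fun e => by
    have h1 : ⁅e, u⁆ ∈ ser p G 2 := hu2 e
    have e1 : π3 (e * u ^ p * e⁻¹) = π3 (u ^ p) := by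
      rw [← conj_pow, show e * u * e⁻¹ = ⁅e, u⁆ * u by rw [commutatorElement_def]; group,
        pow_mul_ser hp2 (j := 2) (ser_succ_le 2 (comm_mem_succ' h1 u)), map_mul,
        hk3.1 (pow_mem_succ h1), one_mul]
    refine hk3.2 ?_
    rw [commutatorElement_def, map_mul, e1, map_inv, mul_inv_cancel]
  have hcp : c ^ p ∈ ser p G 3 := by
    have e : (c * z) ^ p = n * z ^ p * n⁻¹ := by
      rw [← conj_pow]; congr 1; rw [hc, commutatorElement_def]; group
    have e' := pow_mul_ser hp2 (x := c) (y := z) (j := 2) (comm_mem_succ' hc1 z)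
    rw [e, ← hπ3, map_mul, map_mul, map_inv, mem_center_iff.1 (hC3 T.hzp) (π3 n),
      mul_inv_cancel_right, map_mul, eq_comm] at e'
    exact hk3.2 (mul_eq_right.1 e')
  have hcu : ⁅u, c⁆ ∈ ser p G 3 := by
    have hl : ∀ e : G, ∃ t ∈ center (G ⧸ ser p G 3), π3 u * π3 e * (π3 u)⁻¹ = t * π3 e := fun e =>
      ⟨π3 ⁅u, e⁆, hC3 (by rw [← commutatorElement_inv e u]; exact inv_mem (hu2 e)),
        by rw [map_commutatorElement, commutatorElement_def]; group⟩
    obtain ⟨t, ht, he⟩ := hl n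
    obtain ⟨t', ht', he'⟩ := hl z
    have h2 : ∀ g, g * t = t * g := mem_center_iff.1 ht
    have h3 : ∀ g, g * t' = t' * g := mem_center_iff.1 ht'
    refine hk3.2 ?_
    rw [map_commutatorElement, commutatorElement_eq_one_iff_commute, hc, map_commutatorElement]
    refine mul_inv_eq_iff_eq_mul.1 ?_
    calc π3 u * ⁅π3 n, π3 z⁆ * (π3 u)⁻¹ = ⁅π3 u * π3 n * (π3 u)⁻¹, π3 u * π3 z * (π3 u)⁻¹⁆ := by
          simp only [commutatorElement_def]; group
      _ = ⁅t * π3 n, t' * π3 z⁆ := by rw [he, he']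
      _ = t * (π3 n * t') * π3 z * (t * π3 n)⁻¹ * (t' * π3 z)⁻¹ := by
          simp only [commutatorElement_def]; group
      _ = t' * (t * (π3 n * π3 z * (π3 n)⁻¹) * t⁻¹) * (π3 z)⁻¹ * t'⁻¹ := by
          rw [h3 (π3 n), ← mul_assoc t, h3 t]; group
      _ = ⁅π3 n, π3 z⁆ := by
          rw [← h2 (π3 n * π3 z * (π3 n)⁻¹), mul_inv_cancel_right, mul_assoc t',
            ← h3 (π3 n * π3 z * (π3 n)⁻¹ * (π3 z)⁻¹), mul_inv_cancel_right, commutatorElement_def]
  set d := ⁅n, c⁆ with hd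
  set w := ⁅z, c⁆ with hw
  have hd2 : d ∈ ser p G 2 := comm_mem_succ' hc1 n
  have hw2 : w ∈ ser p G 2 := comm_mem_succ' hc1 z
  have hcc : ∀ v : G ⧸ ser p G 3, ⁅v, π3 c⁆ ∈ center (G ⧸ ser p G 3) := fun v => by
    obtain ⟨v, rfl⟩ := QuotientGroup.mk'_surjective _ v
    rw [← map_commutatorElement]; exact hC3 (comm_mem_succ' hc1 v)
  -- commutators with the Frattini subgroup
  have hcen3 : ∀ {a : G}, a ∈ ser p G 1 → ∀ e : G, ⁅π3 e, π3 a⁆ ∈ center (G ⧸ ser p G 3) :=
    fun {a} ha e => by rw [← map_commutatorElement]; exact hC3 (comm_mem_succ' ha e)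
  have hcomA : ∀ (e : G) (k l : ℤ), ∀ s ∈ ser p G 2,
      π3 ⁅e, (u ^ p) ^ k * c ^ l * s⁆ = π3 ⁅e, c⁆ ^ l := by
    intro e k l s hs
    have h0 : ⁅π3 e, π3 s⁆ = 1 :=
      commutatorElement_eq_one_iff_commute.2 (mem_center_iff.1 (hC3 hs) _)
    rw [map_commutatorElement, map_commutatorElement π3 e c, map_mul π3 ((u ^ p) ^ k * c ^ l),
      comm_mul_right_central _ _ _ (by rw [h0]; exact one_mem _), h0, mul_one, map_mul π3,
      comm_mul_right_central _ _ _ (hcen3 (zpow_mem hc1 l) e), map_zpow, map_zpow,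
      comm_zpow_right_central _ _ (fun t ht => ?_) l, comm_zpow_right_central _ _ (fun t ht => ?_) k,
      ← map_commutatorElement π3 e (u ^ p), hk3.1 (hupc e), one_zpow, one_mul]
    · obtain ⟨q, rfl⟩ := mem_zpowers_iff.1 ht
      rw [← map_zpow]; exact hcen3 (zpow_mem hup1 q) e
    · obtain ⟨q, rfl⟩ := mem_zpowers_iff.1 ht
      rw [← map_zpow]; exact hcen3 (zpow_mem hc1 q) e
  have hcomC : ∀ a b k : ℤ, ∀ r ∈ ser p G 1,
      π3 ⁅n ^ a * z ^ b * u ^ k * r, c⁆ = π3 d ^ a * π3 w ^ b := by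
    intro a b k r hr'
    have h0 : π3 ⁅r, c⁆ = 1 := by
      obtain ⟨k', l', s, hs, rfl⟩ := h12 r hr'
      rw [← commutatorElement_inv, map_inv, hcomA c k' l' s hs, commutatorElement_self, map_one,
        one_zpow, inv_one]
    rw [map_commutatorElement] at h0 ⊢
    show commLeft (π3 c) hcc _ = _
    rw [map_mul π3, map_mul π3, map_mul π3, map_zpow π3, map_zpow π3, map_zpow π3, map_mul, map_mul,
      map_mul, map_zpow, map_zpow, map_zpow]
    simp only [commLeft_apply, h0, mul_one, ← map_commutatorElement, hk3.1 hcu, one_zpow, ← hd, ← hw]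
  have hcommA : ∀ a b k' k l : ℤ, ∀ r ∈ ser p G 1, ∀ s ∈ ser p G 2, ∀ v v' : G,
      v = n ^ a * z ^ b * u ^ k' * r → v' = (u ^ p) ^ k * c ^ l * s →
        π3 ⁅v, v'⁆ = π3 d ^ (a * l) * π3 w ^ (b * l) := by
    intro a b k' k l r hr' s hs v v' e e'
    have hdw : Commute (π3 d) (π3 w) := mk_comm hd2 w
    rw [e, e', hcomA _ k l s hs, hcomC a b k' r hr', (hdw.zpow_zpow a b).mul_zpow,
      ← zpow_mul, ← zpow_mul]
  suffices hall : w ∈ ser p G 3 ∧ d ∈ ser p G 3 by
    intro a ha e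
    obtain ⟨k, l, s, hs, rfl⟩ := h12 a ha
    obtain ⟨a', b', k', r, hr', rfl⟩ := T.span e
    exact hk3.2 (by rw [hcommA a' b' k' k l r hr' s hs _ _ rfl rfl, hk3.1 hall.1, hk3.1 hall.2,
      one_zpow, one_zpow, one_mul])
  have hdp : π3 d ^ p = 1 := by rw [← map_pow]; exact hk3.1 (pow_mem_succ hd2)
  have hwp : π3 w ^ p = 1 := by rw [← map_pow]; exact hk3.1 (pow_mem_succ hw2)
  -- the action of the torus and of the transvection
  obtain ⟨sc, hsc, eτc⟩ : ∃ s ∈ ser p G 2, τ c = c * s := ⟨_, hτc, (mul_inv_cancel_left _ _).symm⟩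
  have hτd : π3 (τ d) = π3 d ^ ν := by
    rw [hd, map_commutatorElement τ, eτn, eτc,
      hcommA ν 0 0 0 1 rn hrn sc hsc (n ^ ν * rn) (c * sc) (by simp) (by simp), mul_one, zero_mul, zpow_zero, mul_one, ← hd]
  have hτw : π3 (τ w) = π3 w ^ μ := by
    rw [hw, map_commutatorElement τ, eτz, eτc,
      hcommA 0 μ 0 0 1 rz hrz sc hsc (z ^ μ * rz) (c * sc) (by simp) (by simp)]
    simp only [mul_one, zero_mul, zpow_zero, one_mul, ← hw]
  obtain ⟨syc, hsyc, eyc⟩ : ∃ s ∈ ser p G 2, y c = c * s := by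
    refine ⟨_, ?_, (mul_inv_cancel_left _ _).symm⟩
    refine QuotientGroup.eq.1 ?_
    show π2 c = π2 (y c)
    rw [hc, map_commutatorElement y, T.yn, eyz,
      hcomm2' 1 1 0 0 1 0 1 (one_mem _) rz' hrz' (n * z) (z * rz') (by simp) (by simp)]
    simp [hc]
  have hyd : π3 (y d) = π3 d * π3 w := by
    rw [hd, map_commutatorElement y, T.yn, eyc,
      hcommA 1 1 0 0 1 1 (one_mem _) syc hsyc (n * z) (c * syc) (by simp) (by simp)]
    simp [hd]
  -- the subgroup generated by the third term and the powers of the third generator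
  set L := (zpowers (π3 (u ^ p))).comap π3 with hL
  have hupZ : π3 (u ^ p) ∈ center (G ⧸ ser p G 3) := mem_center_iff.2 fun v => by
    obtain ⟨e, rfl⟩ := QuotientGroup.mk'_surjective _ v
    refine commutatorElement_eq_one_iff_mul_comm.1 ?_
    rw [← map_commutatorElement]; exact hk3.1 (hupc e)
  haveI : (zpowers (π3 (u ^ p))).Normal := ⟨fun v hv g => by
    rw [mem_center_iff.1 (zpowers_le.2 hupZ hv) g, mul_inv_cancel_right]; exact hv⟩
  haveI hLn : L.Normal := by rw [hL]; infer_instance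
  have h3L : ser p G 3 ≤ L := fun a ha => by
    show π3 a ∈ zpowers (π3 (u ^ p))
    rw [hk3.1 ha]; exact one_mem _
  have hupL : u ^ p ∈ L := mem_zpowers (π3 (u ^ p))
  have hpow1 : ∀ a ∈ ser p G 1, ∃ k : ℤ, π3 (a ^ p) = π3 (u ^ p) ^ ((p : ℤ) * k) := by
    intro a ha
    obtain ⟨k, l, s, hs, rfl⟩ := h12 a ha
    refine ⟨k, ?_⟩
    have hcs : Commute (π3 ((u ^ p) ^ k * c ^ l)) (π3 s) := (mem_center_iff.1 (hC3 hs) _)
    have huc : Commute (π3 ((u ^ p) ^ k)) (π3 (c ^ l)) := by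
      rw [map_zpow, map_zpow]
      exact Commute.zpow_zpow (show Commute (π3 (u ^ p)) (π3 c) from (mem_center_iff.1 hupZ (π3 c)).symm) k l
    rw [map_pow, map_mul, hcs.mul_pow, map_mul, huc.mul_pow, ← map_pow π3 s, hk3.1 (pow_mem_succ hs),
      mul_one, map_zpow π3 c, ← zpow_natCast (π3 c ^ l), ← zpow_mul, mul_comm l, zpow_mul, zpow_natCast,
      ← map_pow π3 c, hk3.1 hcp, one_zpow, mul_one, map_zpow, ← zpow_natCast, ← zpow_mul, mul_comm k]
  obtain ⟨mτ, hmτ⟩ : ∃ q : ℤ, π3 (τ (u ^ p)) = π3 (u ^ p) ^ (1 + (p : ℤ) * q) := by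
    obtain ⟨q, hq⟩ := hpow1 ru hru
    refine ⟨q, ?_⟩
    rw [map_pow τ, eτu, pow_mul_ser hp2 (j := 2) (hu2 ru), map_mul, hq, zpow_add, zpow_one]
  have hfixL : ∀ v ∈ ser p G 2, v ∈ L → π3 (τ v) = π3 v := by
    intro v hv hvL
    obtain ⟨k, hk⟩ := mem_zpowers_iff.1 (show π3 v ∈ zpowers _ from hvL)
    have h1 : serMap (p := p) 3 τ (π3 v) = π3 (τ v) := rfl
    have h2 : serMap (p := p) 3 τ (π3 (u ^ p)) = π3 (τ (u ^ p)) := rfl
    rw [← h1, ← hk, map_zpow, h2, hmτ, ← zpow_mul,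
      show (1 + (p : ℤ) * mτ) * k = k + k * p * mτ by ring, zpow_add, zpow_mul, zpow_mul, hk,
      zpow_natCast, ← map_pow, hk3.1 (pow_mem_succ hv), one_zpow, mul_one]
  have hwL : w ∈ L → w ∈ ser p G 3 := fun h => hk3.2 (eq_one_of_weights (serMap (p := p) 3 τ)
    (i := μ) (j := 1) hτw (by rw [zpow_one]; exact hfixL w hw2 h) hwp T.μ1)
  have hdL : d ∈ L → d ∈ ser p G 3 := fun h => hk3.2 (eq_one_of_weights (serMap (p := p) 3 τ)
    (i := ν) (j := 1) hτd (by rw [zpow_one]; exact hfixL d hd2 h) hdp hν1)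
  have hw3 : w ∈ ser p G 3 := by
    by_contra hw3
    -- a section of rank four
    set πL := QuotientGroup.mk' L
    have hkL : ∀ {a : G}, a ∈ L ↔ πL a = 1 := fun {a} => (QuotientGroup.eq_one_iff a).symm
    have h3 : ∀ {a b : G}, π3 a = π3 b → πL a = πL b := fun {a b} h =>
      QuotientGroup.eq.2 (h3L (QuotientGroup.eq.1 h))
    have hwcen : πL w ∈ center (G ⧸ L) := mem_center_iff.2 fun v => by
      obtain ⟨e, rfl⟩ := QuotientGroup.mk'_surjective _ v
      rw [← map_mul, ← map_mul]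
      exact h3 (by rw [map_mul, map_mul]; exact mem_center_iff.1 (hC3 hw2) _)
    haveI : (zpowers (πL w)).Normal := ⟨fun v hv g => by
      rw [mem_center_iff.1 (zpowers_le.2 hwcen hv) g, mul_inv_cancel_right]; exact hv⟩
    set M := (zpowers (πL w)).comap πL with hM
    haveI hMn : M.Normal := by rw [hM]; infer_instance
    have hLM : L ≤ M := fun a ha => by
      show πL a ∈ zpowers (πL w)
      rw [hkL.1 ha]; exact one_mem _
    have hwM : w ∈ M := mem_zpowers (πL w)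
    have h3M : ser p G 3 ≤ M := h3L.trans hLM
    have hLτ : ∀ a ∈ L, τ a ∈ L := fun a ha => by
      obtain ⟨k, hk⟩ := mem_zpowers_iff.1 (show π3 a ∈ zpowers _ from ha)
      show π3 (τ a) ∈ zpowers _
      have h2 : serMap (p := p) 3 τ (π3 (u ^ p)) = π3 (τ (u ^ p)) := rfl
      rw [← show serMap (p := p) 3 τ (π3 a) = π3 (τ a) from rfl, ← hk, map_zpow, h2, hmτ]
      exact zpow_mem (zpow_mem (mem_zpowers _) _) _
    have hMτ : ∀ a ∈ M, τ a ∈ M := fun a ha => by
      obtain ⟨k, hk⟩ := mem_zpowers_iff.1 (show πL a ∈ zpowers _ from ha)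
      rw [← map_zpow] at hk
      have e : τ a = τ w ^ k * τ ((w ^ k)⁻¹ * a) := by rw [← map_zpow, ← map_mul, mul_inv_cancel_left]
      rw [e]
      refine mul_mem (zpow_mem ?_ k) (hLM (hLτ _ (QuotientGroup.eq.1 hk)))
      show πL (τ w) ∈ zpowers (πL w)
      rw [h3 (a := τ w) (b := w ^ μ) (by rw [hτw, map_zpow]), map_zpow]
      exact zpow_mem (mem_zpowers _) μ
    set πM := QuotientGroup.mk' M
    let A : G ⧸ M →* G ⧸ M := QuotientGroup.map M M τ.toMonoidHom fun a ha => hMτ a ha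
    have hA : ∀ a, A (πM a) = πM (τ a) := fun _ => rfl
    have hkM : ∀ {a : G}, a ∈ M ↔ πM a = 1 := fun {a} => (QuotientGroup.eq_one_iff a).symm
    have h3M' : ∀ {a b : G}, π3 a = π3 b → πM a = πM b := fun {a b} h =>
      QuotientGroup.eq.2 (h3M (QuotientGroup.eq.1 h))
    have hpM : ∀ {a : G}, a ∈ ser p G 1 → πM (a ^ p) = 1 := fun {a} ha => by
      obtain ⟨k, hk⟩ := hpow1 a ha
      rw [← map_zpow] at hk
      rw [h3M' hk]
      exact hkM.1 (hLM (zpow_mem hupL _))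
    -- elements of the middle layer modulo `M`
    have h2M : ∀ a ∈ ser p G 2, ∃ k : ℤ, πM a = πM d ^ k := by
      let T' : Subgroup G := (zpowers (πM d)).comap πM
      suffices hT : ser p G 2 ≤ T' from fun a ha => by
        obtain ⟨k, hk⟩ := mem_zpowers_iff.1 (hT ha)
        exact ⟨k, hk.symm⟩
      refine sup_le ((closure_le _).2 ?_) (commutator_le.2 fun a ha b _ => ?_)
      · rintro _ ⟨a, ha, rfl⟩
        show πM (a ^ p) ∈ zpowers _
        rw [hpM ha]; exact one_mem _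
      · obtain ⟨k, l, s, hs, rfl⟩ := h12 a ha
        obtain ⟨a', b', k', r, hr', rfl⟩ := T.span b
        rw [← inv_mem_iff, commutatorElement_inv]
        show πM _ ∈ zpowers _
        have e := hcommA a' b' k' k l r hr' s hs _ _ rfl rfl
        rw [← map_zpow, ← map_zpow, ← map_mul] at e
        rw [h3M' e, map_mul, map_zpow, map_zpow, hkM.1 hwM, one_zpow, mul_one]
        exact zpow_mem (mem_zpowers _) _
    have hτdM : A (πM d) = πM d ^ ν := by
      rw [hA, ← map_zpow]; exact h3M' (by rw [hτd, map_zpow])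
    have hweight : ∀ v ∈ ser p G 2, πM (τ v) = πM v ^ μ → v ∈ M := fun v hv hτv => by
      obtain ⟨k, hk⟩ := h2M v hv
      refine hkM.2 (eq_one_of_weights A (p := p) (i := μ) (j := ν) (by rw [hA]; exact hτv) ?_
        (by rw [← map_pow]; exact hkM.1 (h3M (pow_mem_succ hv))) hμν')
      rw [hk, map_zpow, hτdM, ← zpow_mul, ← zpow_mul, mul_comm]
    have hz : z ^ p ∈ M := hweight _ T.hzp (by
      have e : π3 ((z ^ μ * rz) ^ p) = π3 ((z ^ p) ^ μ * rz ^ p) := by
        rw [pow_mul_ser hp2 (j := 2) (comm_mem_succ hrz _), ← zpow_natCast, ← zpow_mul, mul_comm,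
          zpow_mul, zpow_natCast]
      rw [map_pow τ, eτz, h3M' e, map_mul, hpM hrz, mul_one, map_zpow])
    have hzu : ⁅z, u⁆ ∈ M := hweight _ T.hzu (by
      obtain ⟨k, l, s, hs, ers⟩ := h12 ru hru
      have hcu' : ∀ v : G ⧸ ser p G 3, ⁅v, π3 u⁆ ∈ center (G ⧸ ser p G 3) := fun v => by
        obtain ⟨v, rfl⟩ := QuotientGroup.mk'_surjective _ v
        rw [← map_commutatorElement]; exact hC3 (hu2 v)
      have hru0 : ⁅π3 rz, π3 u⁆ = 1 := by
        obtain ⟨k', l', s', hs', e'⟩ := h12 rz hrz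
        rw [← map_commutatorElement, ← commutatorElement_inv, map_inv, e', hcomA u k' l' s' hs',
          hk3.1 hcu, one_zpow, inv_one]
      have e : π3 ⁅z ^ μ * rz, u * ru⁆ = π3 ⁅z, u⁆ ^ μ * π3 w ^ (μ * l) := by
        rw [map_commutatorElement, map_mul π3 u, comm_mul_right_central _ _ _ (by
          rw [← map_commutatorElement]; exact hC3 (comm_mem_succ' hru _)),
          ← map_commutatorElement π3 _ ru,
          hcommA 0 μ 0 k l rz hrz s hs _ _ (by simp) ers, zero_mul, zpow_zero, one_mul]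
        congr 1
        show commLeft (π3 u) hcu' _ = _
        rw [map_mul π3, map_zpow π3, map_mul, map_zpow, commLeft_apply, commLeft_apply, hru0, mul_one,
          map_commutatorElement]
      rw [← map_zpow, ← map_zpow, ← map_mul] at e
      rw [map_commutatorElement τ, eτz, eτu, h3M' e, map_mul, map_zpow, map_zpow, hkM.1 hwM, one_zpow,
        mul_one])
    have hd3 : d ∉ ser p G 3 := fun h => hw3 (hk3.2 (by
      have := hk3.1 (ser_invariant 3 y _ h)
      rwa [hyd, hk3.1 h, one_mul] at this))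
    have hdM : d ∉ M := fun h => hd3 (hdL (hkL.2 (by
      have hLmap : ∀ a ∈ L, τ a ∈ L := hLτ
      let AL : G ⧸ L →* G ⧸ L := QuotientGroup.map L L τ.toMonoidHom fun a ha => hLmap a ha
      obtain ⟨k, hk⟩ := mem_zpowers_iff.1 (show πL d ∈ zpowers (πL w) from h)
      refine eq_one_of_weights AL (p := p) (i := ν) (j := μ) ?_ ?_ ?_ ?_
      · rw [← map_zpow]; exact h3 (show π3 (τ d) = _ by rw [hτd, map_zpow])
      · have : AL (πL w) = πL w ^ μ := by
          rw [← map_zpow]; exact h3 (show π3 (τ w) = _ by rw [hτw, map_zpow])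
        rw [← hk, map_zpow, this, ← zpow_mul, ← zpow_mul, mul_comm]
      · rw [← map_pow]; exact hkL.1 (h3L (pow_mem_succ hd2))
      · rw [← neg_sub, dvd_neg]; exact hμν')))
    refine rank_contra hr M ![z, u, c, d] (fun s t => ?_) (fun s => ?_) fun e he => ?_
    · have hd' : ∀ v : G, ⁅d, v⁆ ∈ M := fun v => h3M (comm_mem_succ hd2 v)
      have hd'' : ∀ v : G, ⁅v, d⁆ ∈ M := fun v => h3M (comm_mem_succ' hd2 v)
      fin_cases s <;> fin_cases t <;>
        first
          | exact commutatorElement_self (_ : G) ▸ one_mem M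
          | exact hzu
          | exact hwM
          | exact h3M hcu
          | exact hd' _
          | exact hd'' _
          | (rw [← commutatorElement_inv]; exact inv_mem hzu)
          | (rw [← commutatorElement_inv]; exact inv_mem hwM)
          | (rw [← commutatorElement_inv]; exact inv_mem (h3M hcu))
    · fin_cases s
      exacts [hz, hLM hupL, h3M hcp, h3M (pow_mem_succ hd2)]
    · simp only [Matrix.cons_val_zero, Matrix.cons_val_one, Matrix.cons_val] at he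
      have hM1 : M ≤ ser p G 1 := fun a ha => by
        obtain ⟨k, hk⟩ := mem_zpowers_iff.1 (show πL a ∈ zpowers _ from ha)
        rw [← map_zpow] at hk
        have h2 := QuotientGroup.eq.1 hk
        obtain ⟨l, hl⟩ := mem_zpowers_iff.1 (show π3 ((w ^ k)⁻¹ * a) ∈ zpowers _ from h2)
        rw [← map_zpow] at hl
        have h4 := ser_succ_le 1 (ser_succ_le 2 (QuotientGroup.eq.1 hl))
        rw [← mul_inv_cancel_left (w ^ k) a, ← mul_inv_cancel_left ((u ^ p) ^ l) ((w ^ k)⁻¹ * a)]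
        exact mul_mem (zpow_mem (ser_succ_le 1 hw2) k) (mul_mem (zpow_mem hup1 l) h4)
      have h01 : z ^ e 0 * u ^ e 1 ∈ ser p G 1 := by
        have := hM1 he
        rw [Subgroup.mul_mem_cancel_right _ (zpow_mem (ser_succ_le 1 hd2) _),
          Subgroup.mul_mem_cancel_right _ (zpow_mem hc1 _)] at this
        exact this
      obtain ⟨-, g0, g1⟩ := T.indep 0 (e 0) (e 1) (by rwa [zpow_zero, one_mul])
      have hzu01 : z ^ e 0 * u ^ e 1 ∈ M := by
        obtain ⟨q, hq⟩ := g0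
        obtain ⟨q', hq'⟩ := g1
        rw [hq, hq', zpow_mul, zpow_mul, zpow_natCast, zpow_natCast]
        exact mul_mem (zpow_mem hz q) (zpow_mem (hLM hupL) q')
      have hcd : c ^ e 2 * d ^ e 3 ∈ M := by
        rw [mul_assoc, Subgroup.mul_mem_cancel_left _ hzu01] at he
        exact he
      have g2 : (p : ℤ) ∣ e 2 := by
        by_contra hne
        refine hw3 (hk3.2 ?_)
        -- `c` would be a power of `u ^ p` two steps down
        have hc' : π2 c ∈ zpowers (π2 (u ^ p)) := by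
          have h2 : c ^ e 2 ∈ (zpowers (π2 (u ^ p))).comap π2 := by
            have hle : M ≤ (zpowers (π2 (u ^ p))).comap π2 := fun a ha => by
              obtain ⟨k, hk⟩ := mem_zpowers_iff.1 (show πL a ∈ zpowers _ from ha)
              rw [← map_zpow] at hk
              obtain ⟨l, hl⟩ := mem_zpowers_iff.1 (show π3 ((w ^ k)⁻¹ * a) ∈ zpowers _ from
                QuotientGroup.eq.1 hk)
              rw [← map_zpow] at hl
              have h4 := hk2.1 (ser_succ_le 2 (QuotientGroup.eq.1 hl))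
              rw [map_mul, map_inv, inv_mul_eq_one, map_mul, map_inv,
                hk2.1 (zpow_mem hw2 k), inv_one, one_mul, map_zpow] at h4
              exact ⟨l, h4⟩
            have hd0 : d ^ e 3 ∈ (zpowers (π2 (u ^ p))).comap π2 := by
              show π2 _ ∈ zpowers _
              rw [hk2.1 (zpow_mem hd2 _)]; exact one_mem _
            exact (Subgroup.mul_mem_cancel_right _ hd0).1 (hle hcd)
          by_contra hc'
          refine hne (dvd_of_zpow_mem (H := (zpowers (π2 (u ^ p))).comap π2) ?_ hc' h2)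
          show π2 (c ^ p) ∈ zpowers _
          rw [hk2.1 (pow_mem_succ hc1)]; exact one_mem _
        obtain ⟨k, hk⟩ := mem_zpowers_iff.1 hc'
        rw [← map_zpow] at hk
        have hs := QuotientGroup.eq.1 hk
        have := hcommA 0 1 0 k 0 1 (one_mem _) _ hs z c (by simp)
          (by rw [zpow_zero, mul_one, mul_inv_cancel_left])
        simpa [hw] using this
      have hc2' : c ^ e 2 ∈ M := by
        obtain ⟨q, hq⟩ := g2
        rw [hq, zpow_mul, zpow_natCast]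
        exact zpow_mem (h3M hcp) q
      have g3 := dvd_of_zpow_mem (h3M (pow_mem_succ hd2)) hdM ((Subgroup.mul_mem_cancel_left _ hc2').1 hcd)
      intro s
      fin_cases s
      exacts [g0, g1, g2, g3]
  refine ⟨hw3, ?_⟩
  obtain ⟨a', b', k', rn', hrn', eαn⟩ := T.span (α n)
  have hαc2 : π2 (α c) = π2 c ^ (a' * j - b' * i) := by
    rw [hc, map_commutatorElement α, hcomm2' a' b' k' i j m rn' hrn' rα hrα _ _ eαn eαz, ← hc]
  obtain ⟨sα, hsα, eαc⟩ : ∃ s ∈ ser p G 2, α c = c ^ (a' * j - b' * i) * s := by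
    rw [← map_zpow] at hαc2
    exact ⟨_, QuotientGroup.eq.1 hαc2.symm, (mul_inv_cancel_left _ _).symm⟩
  by_cases hl : (p : ℤ) ∣ a' * j - b' * i
  · have hαc : α c ∈ ser p G 2 := by
      obtain ⟨q, hq⟩ := hl
      rw [eαc, hq, zpow_mul, zpow_natCast]
      exact mul_mem (zpow_mem (pow_mem_succ hc1) q) hsα
    have hc2'' : c ∈ ser p G 2 := by simpa using ser_invariant 2 α⁻¹ _ hαc
    exact comm_mem_succ' hc2'' n
  · have h1 := hk3.1 (ser_invariant 3 α _ hw3)
    rw [hw, map_commutatorElement α, eαz, eαc,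
      hcommA i j m 0 (a' * j - b' * i) rα hrα sα hsα _ _ rfl (by rw [zpow_zero, one_mul]),
      hk3.1 hw3, one_zpow, mul_one] at h1
    by_contra hd3
    exact hpz.not_dvd_mul T.hi hl
      (dvd_of_zpow_mem (pow_mem_succ hd2) hd3 (hk3.2 (by rw [map_zpow]; exact h1)))

end CfsgLib.Fusion.RankThree
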