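import Cfsg.Agent.Fusion.RankThree.Middle
import Mathlib.LinearAlgebra.Matrix.Charpoly.Coeff
import Mathlib.RingTheory.Nilpotent.Basic

/-!
The group of order `p ^ 4` that is a Heisenberg group times a cyclic group, with named generators.
-/

set_option autoImplicit false
set_option linter.unusedSectionVars false

open Subgroup
open scoped commutatorElement Matrix

namespace CfsgLib.Fusion.RankThree

variable {p : ℕ} [hp : Fact p.Prime]

/-- Generators of the Heisenberg group times a cyclic group. -/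
structure Frame (p : ℕ) {Q : Type*} [Group Q] (X A Z U : Q) : Prop where
  cZ : Z ∈ center Q
  cU : U ∈ center Q
  comm : ⁅X, A⁆ = Z
  exp : ∀ q : Q, q ^ p = 1
  span : ∀ q : Q, ∃ i j k l : ℤ, q = X ^ i * A ^ j * (Z ^ k * U ^ l)
  indep : ∀ i j k l : ℤ, X ^ i * A ^ j * (Z ^ k * U ^ l) = 1 →
    (p : ℤ) ∣ i ∧ (p : ℤ) ∣ j ∧ (p : ℤ) ∣ k ∧ (p : ℤ) ∣ l

namespace Frame

variable {Q : Type*} [Group Q] {X A Z U : Q} (fr : Frame p X A Z U)
include fr hp

theorem zu_mem (k l : ℤ) : Z ^ k * U ^ l ∈ center Q := mul_mem (zpow_mem fr.cZ k) (zpow_mem fr.cU l)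

theorem comm_mem (a b : Q) : ⁅a, b⁆ ∈ center Q := by
  set π := QuotientGroup.mk' (center Q)
  have hg : ∀ q, ∃ i j : ℤ, π q = π X ^ i * π A ^ j := fun q => by
    obtain ⟨i, j, k, l, rfl⟩ := fr.span q
    refine ⟨i, j, ?_⟩
    rw [map_mul, show π (Z ^ k * U ^ l) = 1 from (QuotientGroup.eq_one_iff _).2 (fr.zu_mem k l),
      mul_one, map_mul, map_zpow, map_zpow]
  have hXA : Commute (π X) (π A) := by
    rw [← commutatorElement_eq_one_iff_commute, ← map_commutatorElement]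
    exact (QuotientGroup.eq_one_iff _).2 (fr.comm.symm ▸ fr.cZ)
  rw [← QuotientGroup.eq_one_iff, ← QuotientGroup.mk'_apply, map_commutatorElement,
    commutatorElement_eq_one_iff_commute]
  obtain ⟨i, j, e⟩ := hg a
  obtain ⟨i', j', e'⟩ := hg b
  rw [e, e']
  exact ((Commute.zpow_zpow_self _ i i').mul_right (hXA.zpow_zpow i j')).mul_left
    ((hXA.symm.zpow_zpow j i').mul_right (Commute.zpow_zpow_self _ j j'))

theorem commute_center {c : Q} (hc : c ∈ center Q) (q : Q) : Commute c q :=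
  (mem_center_iff.1 hc q).symm

/-- The commutator of two monomials. -/
theorem comm_eq (i j i' j' : ℤ) {c c' : Q} (hc : c ∈ center Q) (hc' : c' ∈ center Q) :
    ⁅X ^ i * A ^ j * c, X ^ i' * A ^ j' * c'⁆ = Z ^ (i * j' - j * i') := by
  have e : ∀ a b v : Q, v ∈ center Q → ⁅a * v, b⁆ = ⁅a, b⁆ := fun a b v hv => by
    calc ⁅a * v, b⁆ = a * (v * b) * v⁻¹ * a⁻¹ * b⁻¹ := by simp only [commutatorElement_def]; group
      _ = a * (b * v) * v⁻¹ * a⁻¹ * b⁻¹ := by rw [(fr.commute_center hv b).eq]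
      _ = ⁅a, b⁆ := by simp only [commutatorElement_def]; group
  rw [e _ _ _ hc, ← commutatorElement_inv, e _ _ _ hc', commutatorElement_inv]
  have h := comm_monomial fr.comm_mem X A A i j 0 i' j' 0
  simpa [fr.comm] using h

theorem pow_p_eq {y : Q} {i j : ℤ} (h : (p : ℤ) ∣ i - j) : y ^ i = y ^ j := zpow_congr (fr.exp y) h

theorem mul_form (i j i' j' : ℤ) {c c' : Q} (hc : c ∈ center Q) (hc' : c' ∈ center Q) :
    ∃ w ∈ center Q, (X ^ i * A ^ j * c) * (X ^ i' * A ^ j' * c') = X ^ (i + i') * A ^ (j + j') * w := by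
  have h : ⁅A ^ j, X ^ i'⁆ = Z ^ (-(j * i')) := by
    have := fr.comm_eq 0 j i' 0 (one_mem _) (one_mem (center Q))
    simpa using this
  refine ⟨Z ^ (-(j * i')) * (c * c'), mul_mem (zpow_mem fr.cZ _) (mul_mem hc hc'), ?_⟩
  have e1 : A ^ j * X ^ i' = X ^ i' * A ^ j * Z ^ (-(j * i')) := by
    rw [← (fr.commute_center (zpow_mem fr.cZ _) _).eq, ← h, commutatorElement_def]
    group
  calc X ^ i * A ^ j * c * (X ^ i' * A ^ j' * c')
      = X ^ i * (A ^ j * (c * X ^ i')) * A ^ j' * c' := by group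
    _ = X ^ i * (A ^ j * X ^ i') * (c * A ^ j') * c' := by
        rw [(fr.commute_center hc (X ^ i')).eq]; group
    _ = X ^ (i + i') * A ^ j * (Z ^ (-(j * i')) * A ^ j') * (c * c') := by
        rw [e1, (fr.commute_center hc (A ^ j')).eq]; group
    _ = X ^ (i + i') * A ^ (j + j') * (Z ^ (-(j * i')) * (c * c')) := by
        rw [(fr.commute_center (zpow_mem fr.cZ _) (A ^ j')).eq]; group

/-- The two outer coordinates. -/
noncomputable def chi (q : Q) : ZMod p × ZMod p :=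
  (((fr.span q).choose : ZMod p), ((fr.span q).choose_spec.choose : ZMod p))

theorem chi_eq {q c : Q} {i j : ℤ} (hc : c ∈ center Q) (hq : q = X ^ i * A ^ j * c) :
    fr.chi q = ((i : ZMod p), (j : ZMod p)) := by
  obtain ⟨k, l, e⟩ := (fr.span q).choose_spec.choose_spec
  unfold chi
  generalize (fr.span q).choose_spec.choose = j₀ at e ⊢
  generalize (fr.span q).choose = i₀ at e ⊢
  obtain ⟨w, hw, hm⟩ := fr.mul_form i₀ j₀ (-i) (-j) (fr.zu_mem k l) (one_mem _)
  have h1 : ∃ v ∈ center Q, (X ^ i * A ^ j * c) * (X ^ (-i) * A ^ (-j) * 1) = v := by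
    obtain ⟨v, hv, e'⟩ := fr.mul_form i j (-i) (-j) hc (one_mem _)
    exact ⟨v, hv, by rw [e', add_neg_cancel, add_neg_cancel, zpow_zero, zpow_zero, one_mul, one_mul]⟩
  obtain ⟨v, hv, hv'⟩ := h1
  rw [← hq, e, hm] at hv'
  obtain ⟨i₁, j₁, k₁, l₁, e₁⟩ := fr.span (w * v⁻¹)
  have hwv : w * v⁻¹ ∈ center Q := mul_mem hw (inv_mem hv)
  -- a central element has trivial outer coordinates
  have hA : ⁅w * v⁻¹, A⁆ = 1 := commutatorElement_eq_one_iff_commute.2 (fr.commute_center hwv A)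
  have hX : ⁅w * v⁻¹, X⁆ = 1 := commutatorElement_eq_one_iff_commute.2 (fr.commute_center hwv X)
  have ha := fr.comm_eq i₁ j₁ 0 1 (fr.zu_mem k₁ l₁) (one_mem (center Q))
  have hb := fr.comm_eq i₁ j₁ 1 0 (fr.zu_mem k₁ l₁) (one_mem (center Q))
  simp only [zpow_zero, zpow_one, one_mul, mul_one, mul_zero, zero_sub, sub_zero, ← e₁, hA, hX] at ha hb
  have d1 : (p : ℤ) ∣ i₁ := (fr.indep 0 0 i₁ 0 (by simpa using ha.symm)).2.2.1
  have d2 : (p : ℤ) ∣ j₁ := dvd_neg.1 (fr.indep 0 0 (-j₁) 0 (by simpa using hb.symm)).2.2.1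
  rw [fr.pow_p_eq (y := X) (j := 0) (by rwa [sub_zero]), fr.pow_p_eq (y := A) (i := j₁) (j := 0)
    (by rwa [sub_zero]), zpow_zero, zpow_zero, one_mul, one_mul] at e₁
  have h0 := fr.indep (i₀ + -i) (j₀ + -j) k₁ l₁ (by
    rw [← e₁, ← mul_assoc, hv', mul_inv_cancel])
  refine Prod.ext ?_ ?_
  · rw [← sub_eq_zero, ← Int.cast_sub, ZMod.intCast_zmod_eq_zero_iff_dvd, sub_eq_add_neg]
    exact h0.1
  · rw [← sub_eq_zero, ← Int.cast_sub, ZMod.intCast_zmod_eq_zero_iff_dvd, sub_eq_add_neg]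
    exact h0.2.1

theorem exists_form (q : Q) : ∃ (i j : ℤ) (c : Q), c ∈ center Q ∧ q = X ^ i * A ^ j * c ∧
    fr.chi q = ((i : ZMod p), (j : ZMod p)) := by
  obtain ⟨i, j, k, l, e⟩ := fr.span q
  exact ⟨i, j, _, fr.zu_mem k l, e, fr.chi_eq (fr.zu_mem k l) e⟩

theorem chi_mul (a b : Q) : fr.chi (a * b) = fr.chi a + fr.chi b := by
  obtain ⟨i, j, c, hc, e, h⟩ := fr.exists_form a
  obtain ⟨i', j', c', hc', e', h'⟩ := fr.exists_form b
  obtain ⟨w, hw, hm⟩ := fr.mul_form i j i' j' hc hc'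
  rw [fr.chi_eq hw (show a * b = _ by rw [e, e', hm]), h, h']
  simp

theorem chi_zpow (a : Q) (n : ℤ) : fr.chi (a ^ n) = n • fr.chi a :=
  map_zsmul (AddMonoidHom.mk' (fun q : Additive Q => fr.chi q.toMul) fun a b => fr.chi_mul _ _) n
    (Additive.ofMul a)

theorem chi_one : fr.chi 1 = 0 := by simpa using fr.chi_zpow 1 0

theorem chi_X : fr.chi X = (1, 0) := by
  simpa using fr.chi_eq (q := X) (i := 1) (j := 0) (one_mem _) (by simp)

theorem chi_A : fr.chi A = (0, 1) := by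
  simpa using fr.chi_eq (q := A) (i := 0) (j := 1) (one_mem _) (by simp)

theorem chi_center {c : Q} (hc : c ∈ center Q) : fr.chi c = 0 :=
  (fr.chi_eq (q := c) (i := 0) (j := 0) hc (by simp)).trans (by simp)

theorem center_of_chi {q : Q} (h : fr.chi q = 0) : q ∈ center Q := by
  obtain ⟨i, j, c, hc, e, h'⟩ := fr.exists_form q
  rw [h'] at h
  simp only [Prod.mk_eq_zero, ZMod.intCast_zmod_eq_zero_iff_dvd] at h
  rw [e, fr.pow_p_eq (y := X) (i := i) (j := 0) (by rw [sub_zero]; exact h.1),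
    fr.pow_p_eq (y := A) (i := j) (j := 0) (by rw [sub_zero]; exact h.2), zpow_zero, zpow_zero,
    one_mul, one_mul]
  exact hc

theorem center_form {q : Q} (h : q ∈ center Q) : ∃ k l : ℤ, q = Z ^ k * U ^ l := by
  obtain ⟨i, j, k, l, e⟩ := fr.span q
  have h' := fr.chi_eq (fr.zu_mem k l) e
  rw [fr.chi_center h] at h'
  simp only [Prod.ext_iff, Prod.fst_zero, Prod.snd_zero, eq_comm (a := (0 : ZMod p)),
    ZMod.intCast_zmod_eq_zero_iff_dvd] at h'
  refine ⟨k, l, ?_⟩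
  rw [e, fr.pow_p_eq (y := X) (i := i) (j := 0) (by rw [sub_zero]; exact h'.1),
    fr.pow_p_eq (y := A) (i := j) (j := 0) (by rw [sub_zero]; exact h'.2), zpow_zero, zpow_zero,
    one_mul, one_mul]

/-- The matrix of an automorphism on the outer coordinates. -/
noncomputable def mat (f : MulAut Q) : Matrix (Fin 2) (Fin 2) (ZMod p) :=
  !![(fr.chi (f X)).1, (fr.chi (f X)).2; (fr.chi (f A)).1, (fr.chi (f A)).2]

theorem chi_apply (f : MulAut Q) (q : Q) :
    (fr.chi (f q)).1 = (fr.chi q).1 * fr.mat f 0 0 + (fr.chi q).2 * fr.mat f 1 0 ∧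
    (fr.chi (f q)).2 = (fr.chi q).1 * fr.mat f 0 1 + (fr.chi q).2 * fr.mat f 1 1 := by
  obtain ⟨i, j, c, hc, e, h⟩ := fr.exists_form q
  have hc' : f c ∈ center Q := Subgroup.characteristic_iff_le_comap.1 inferInstance f hc
  rw [h]
  simp [e, mat, fr.chi_mul, fr.chi_zpow, fr.chi_center hc']

theorem mat_mul (f g : MulAut Q) : fr.mat (f * g) = fr.mat g * fr.mat f := by
  ext r s
  have h1 := fr.chi_apply f (g X)
  have h2 := fr.chi_apply f (g A)
  fin_cases r <;> fin_cases s <;> simp [mat, Matrix.mul_apply, Fin.sum_univ_two] at h1 h2 ⊢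
  exacts [h1.1, h1.2, h2.1, h2.2]

theorem mat_one : fr.mat 1 = 1 := by
  ext r s
  fin_cases r <;> fin_cases s <;> simp [mat, fr.chi_X, fr.chi_A]

theorem mat_pow (f : MulAut Q) (n : ℕ) : fr.mat (f ^ n) = fr.mat f ^ n := by
  induction n with
  | zero => rw [pow_zero, pow_zero, fr.mat_one]
  | succ n ih => rw [pow_succ, fr.mat_mul, ih, ← pow_succ']

theorem apply_Z (f : MulAut Q) {n : ℤ}
    (hn : (n : ZMod p) = fr.mat f 0 0 * fr.mat f 1 1 - fr.mat f 0 1 * fr.mat f 1 0) :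
    f Z = Z ^ n := by
  obtain ⟨i, j, c, hc, e, h⟩ := fr.exists_form (f X)
  obtain ⟨i', j', c', hc', e', h'⟩ := fr.exists_form (f A)
  rw [← fr.comm, map_commutatorElement, e, e', fr.comm_eq i j i' j' hc hc', fr.comm]
  refine fr.pow_p_eq ?_
  rw [← ZMod.intCast_zmod_eq_zero_iff_dvd, Int.cast_sub, sub_eq_zero, hn]
  simp [mat, h, h']

/-- A `p`-element acts unipotently. -/
theorem unipotent (f : MulAut Q) {k : ℕ} (hk : f ^ p ^ k = 1) :
    fr.mat f 0 0 + fr.mat f 1 1 = 2 ∧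
      (fr.mat f 0 0 - 1) * (fr.mat f 1 1 - 1) = fr.mat f 0 1 * fr.mat f 1 0 := by
  have hN : IsNilpotent (fr.mat f - 1) := ⟨p ^ k, by
    rw [sub_pow_char_pow_of_commute (p := p) (h := Commute.one_right _), one_pow, ← fr.mat_pow, hk, fr.mat_one,
      sub_self]⟩
  have ht : Matrix.trace (fr.mat f - 1) = 0 :=
    (Matrix.isNilpotent_trace_of_isNilpotent hN).eq_zero
  have hd : Matrix.det (fr.mat f - 1) = 0 := by
    obtain ⟨n, hn⟩ := hN
    refine IsNilpotent.eq_zero ⟨n + 1, ?_⟩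
    rw [← Matrix.det_pow, pow_succ, hn, zero_mul, Matrix.det_zero]
  rw [Matrix.trace_fin_two] at ht
  rw [Matrix.det_fin_two] at hd
  simp only [Matrix.sub_apply, Matrix.one_apply_eq, Matrix.one_apply_ne (show (0 : Fin 2) ≠ 1 by decide),
    Matrix.one_apply_ne (show (1 : Fin 2) ≠ 0 by decide), sub_zero] at ht hd
  exact ⟨by linear_combination ht, by linear_combination hd⟩

/-- The fourth generator moves only along the derived subgroup. -/
theorem unipotent_U (f : MulAut Q) {k : ℕ} (hk : f ^ p ^ k = 1) : ∃ e : ℤ, f U = U * Z ^ e := by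
  obtain ⟨e, l, he⟩ : ∃ e l : ℤ, f U = Z ^ e * U ^ l :=
    fr.center_form (Subgroup.characteristic_iff_le_comap.1 inferInstance f fr.cU)
  have hdet : fr.mat f 0 0 * fr.mat f 1 1 - fr.mat f 0 1 * fr.mat f 1 0 = 1 := by
    obtain ⟨h1, h2⟩ := fr.unipotent f hk
    linear_combination h2 + h1
  have hfZ : f Z = Z := by simpa using fr.apply_Z f (n := 1) (by rw [hdet]; simp)
  have hn : ∀ n : ℕ, ∃ e' : ℤ, (f ^ n) U = Z ^ e' * U ^ (l ^ n) := by
    intro n
    induction n with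
    | zero => exact ⟨0, by simp⟩
    | succ n ih =>
      obtain ⟨e', ih⟩ := ih
      refine ⟨e' + e * l ^ n, ?_⟩
      rw [pow_succ', MulAut.mul_apply, ih, map_mul, map_zpow, map_zpow, hfZ, he,
        (fr.commute_center (zpow_mem fr.cZ e) _).mul_zpow, ← zpow_mul, ← zpow_mul, zpow_add,
        ← mul_assoc, pow_succ' l n]
  obtain ⟨e', h⟩ := hn (p ^ k)
  rw [hk, MulAut.one_apply] at h
  have hl := (fr.indep 0 0 e' (l ^ p ^ k - 1) (by
    rw [zpow_zero, zpow_zero, one_mul, one_mul, zpow_sub, zpow_one, ← mul_assoc, ← h, mul_inv_cancel])).2.2.2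
  refine ⟨e, ?_⟩
  rw [he, fr.pow_p_eq (y := U) (i := l) (j := 1) (by
    rw [← ZMod.intCast_zmod_eq_zero_iff_dvd] at hl ⊢
    push_cast at hl ⊢
    rwa [ZMod.pow_card_pow] at hl), zpow_one, (fr.commute_center fr.cU _).eq]

/-- The automorphisms fixing the line of `X` and trivial on the layers. -/
def Uni (f : MulAut Q) : Prop :=
  fr.chi (f X) = (1, 0) ∧ (fr.chi (f A)).2 = 1 ∧ ∃ e : ℤ, f U = U * Z ^ e

theorem uni_mat {f : MulAut Q} (h : fr.Uni f) :
    fr.mat f 0 0 = 1 ∧ fr.mat f 0 1 = 0 ∧ fr.mat f 1 1 = 1 := by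
  simp [mat, h.1, h.2.1]

theorem uni_Z {f : MulAut Q} (h : fr.Uni f) : f Z = Z := by
  obtain ⟨h1, h2, h3⟩ := fr.uni_mat h
  simpa using fr.apply_Z f (n := 1) (by rw [h1, h2, h3]; simp)

/-- The group of such automorphisms. -/
noncomputable def uniGroup [Finite Q] : Subgroup (MulAut Q) :=
  haveI : Finite (MulAut Q) :=
    Finite.of_injective (fun f : MulAut Q => (f : Q → Q)) fun _ _ h => DFunLike.coe_injective h
  let M : Submonoid (MulAut Q) :=
    { carrier := {f | fr.Uni f}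
      one_mem' := ⟨fr.chi_X, by simp [fr.chi_A], 0, by simp⟩
      mul_mem' := by
        intro f g hf hg
        obtain ⟨hg1, hg2, e', he'⟩ := hg
        obtain ⟨f1, f2, f3⟩ := fr.uni_mat hf
        have hfZ := fr.uni_Z hf
        obtain ⟨-, -, e, he⟩ := hf
        have h1 := fr.chi_apply f (g X)
        have h2 := fr.chi_apply f (g A)
        refine ⟨Prod.ext ?_ ?_, ?_, e + e', ?_⟩
        · rw [MulAut.mul_apply, h1.1, hg1, f1]; simp
        · rw [MulAut.mul_apply, h1.2, hg1, f2]; simp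
        · rw [MulAut.mul_apply, h2.2, hg2, f2, f3]; simp
        · rw [MulAut.mul_apply, he', map_mul, map_zpow, he, hfZ, zpow_add, mul_assoc] }
  { M with
    inv_mem' := fun {f} hf => by
      have e : f⁻¹ = f ^ (orderOf f - 1) := by
        refine inv_eq_of_mul_eq_one_left ?_
        rw [← pow_succ, Nat.sub_add_cancel (orderOf_pos f), pow_orderOf_eq_one]
      show f⁻¹ ∈ M
      rw [e]
      exact M.pow_mem hf _ }

theorem mem_uniGroup [Finite Q] {f : MulAut Q} : f ∈ fr.uniGroup ↔ fr.Uni f := Iff.rfl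

theorem uni_pow_eq_one [Finite Q] {f : MulAut Q} (hf : fr.Uni f) : f ^ p ^ 2 = 1 := by
  have hg : ∀ n : ℕ, fr.Uni (f ^ n) := fun n => fr.mem_uniGroup.1 (pow_mem (fr.mem_uniGroup.2 hf) n)
  obtain ⟨h1, h2, h3⟩ := fr.uni_mat hf
  obtain ⟨-, -, e, he⟩ := hf
  have hZ : ∀ n : ℕ, (f ^ n) Z = Z := fun n => fr.uni_Z (hg n)
  have hU : ∀ n : ℕ, (f ^ n) U = U * Z ^ (e * n) := by
    intro n
    induction n with
    | zero => simp
    | succ n ih =>
      rw [pow_succ', MulAut.mul_apply, ih, map_mul, map_zpow,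
        show f Z = Z by simpa using hZ 1, he, mul_assoc, ← zpow_add]
      congr 2
      push_cast; ring
  have hUp : (f ^ p) U = U := by
    rw [hU, fr.pow_p_eq (j := 0) (by rw [sub_zero]; exact dvd_mul_left _ _), zpow_zero, mul_one]
  have hc : ∀ n : ℕ, (fr.chi ((f ^ n) A)).1 = n * fr.mat f 1 0 := by
    intro n
    induction n with
    | zero => simp [fr.chi_A]
    | succ n ih =>
      rw [pow_succ', MulAut.mul_apply, (fr.chi_apply f _).1, ih, (hg n).2.1, h1]
      push_cast; ring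
  set g := f ^ p
  have hgen : ∀ {y : Q}, fr.chi (g y) = fr.chi y → (g ^ p) y = y := by
    intro y hy
    have hw : y⁻¹ * g y ∈ center Q := fr.center_of_chi (by
      have h4 := fr.chi_mul y (y⁻¹ * g y)
      rw [mul_inv_cancel_left, hy] at h4
      exact left_eq_add.1 h4)
    have hfix : g (y⁻¹ * g y) = y⁻¹ * g y := by
      obtain ⟨k, l, e'⟩ := fr.center_form hw
      rw [e', map_mul, map_zpow, map_zpow, hZ, hUp]
    have : ∀ n : ℕ, (g ^ n) y = y * (y⁻¹ * g y) ^ n := by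
      intro n
      induction n with
      | zero => simp
      | succ n ih =>
        rw [pow_succ', MulAut.mul_apply, ih, map_mul, map_pow, hfix, pow_succ', ← mul_assoc,
          mul_inv_cancel_left]
    rw [this, fr.exp, mul_one]
  refine MulEquiv.ext fun q => ?_
  obtain ⟨i, j, k, l, rfl⟩ := fr.span q
  rw [pow_two, pow_mul, MulAut.one_apply]
  have hfix : ∀ {y : Q}, g y = y → ∀ n : ℕ, (g ^ n) y = y := fun {y} hy n => by
    induction n with
    | zero => simp
    | succ n ih => rw [pow_succ, MulAut.mul_apply, hy, ih]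
  rw [map_mul, map_mul, map_mul, map_zpow, map_zpow, map_zpow, map_zpow,
    hgen (by rw [(hg p).1, fr.chi_X]),
    hgen (Prod.ext (by rw [hc, fr.chi_A]; simp) (by rw [(hg p).2.1, fr.chi_A])),
    hfix (hZ p) p, hfix hUp p]

end Frame

end CfsgLib.Fusion.RankThree
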