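import Cfsg.Agent.Fusion.RankThree.Reducible

/-!
A system of sectional rank three with trivial core has a pearl.
-/

set_option autoImplicit false
set_option linter.unusedSectionVars false
set_option linter.style.haveILetI false

open Cfsg Cfsg.FusionSystem Subgroup
open scoped commutatorElement

namespace CfsgLib.Fusion.RankThree

universe u

variable {Ω : Type u} [Group Ω] {S : Subgroup Ω} [Finite S] {p : ℕ} [hp : Fact p.Prime]
  {F : FusionSystem S}

/-- If all essential subgroups are reducible with three generators, the core is not trivial. -/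
theorem reducible_family_false (hS : IsPGroup p S) (hF : F.IsSaturated p)
    (hcore : F.core = ⊥) {E₀ : Subgroup Ω} (hE₀ : F.IsEssential p E₀)
    (hall : ∀ M, F.IsEssential p M →
      (frattini M).index = p ^ 3 ∧ ¬ IsIrredTop F M ∧ Nonempty (Red F p M)) : False := by
  classical
  obtain ⟨-, -, ⟨d₀⟩⟩ := hall E₀ hE₀
  have hpz : Prime (p : ℤ) := Nat.prime_iff_prime_int.1 hp.out
  have hsub : ∀ M, F.IsEssential p M → fratImg M = fratImg E₀ := by
    intro M hM
    obtain ⟨-, -, ⟨dM⟩⟩ := hall M hM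
    exact le_antisymm
      (d₀.sub M dM.x hM dM.isCover (d₀.mem_of_essential hM (mem_sup_left (mem_zpowers _))))
      (dM.sub E₀ d₀.x hE₀ d₀.isCover (dM.mem_of_essential hE₀ (mem_sup_left (mem_zpowers _))))
  by_cases hbot : frattini E₀ = ⊥
  swap
  · -- the common Frattini subgroup
    have hFS : fratImg E₀ ≤ S := (Subgroup.map_subtype_le _).trans hE₀.1.1
    have hnorm : F.IsNormal (fratImg E₀) := by
      refine isNormal_of_essential p hS hF (fun P hP => ?_) fun P hP α hα a ha => ?_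
      · rcases hP with rfl | hP
        exacts [hFS, (hsub P hP).ge.trans (Subgroup.map_subtype_le _)]
      · rcases hP with rfl | hP
        · exact d₀.inv α a ha
        · rw [← hsub P hP] at ha ⊢
          obtain ⟨b, hb, e⟩ := ha
          obtain rfl : b = a := Subtype.ext e
          exact ⟨α b, frattini_inv α hb, rfl⟩
    refine hbot (Subgroup.map_injective E₀.subtype_injective ?_)
    rw [Subgroup.map_bot, ← le_bot_iff, ← hcore]
    exact le_core hnorm
  have hbotM : ∀ M, F.IsEssential p M → frattini M = ⊥ := fun M hM => by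
    refine Subgroup.map_injective M.subtype_injective ?_
    rw [Subgroup.map_bot]
    exact (hsub M hM).trans (by rw [fratImg, hbot, Subgroup.map_bot])
  obtain ⟨hτn, hτz, hτu⟩ := d₀.exact_weights hbot
  obtain ⟨β, hβ, hβτ⟩ := d₀.ext
  let ι : E₀ →* S := Subgroup.inclusion hE₀.1.1
  set u₀ : S := ⟨d₀.u, d₀.uS⟩ with hu₀
  -- the lines agree
  have hline : ∀ M, F.IsEssential p M → ∀ dM : Red F p M,
      zpowers (dM.u : Ω) = zpowers (d₀.u : Ω) := by
    intro M hM dM
    obtain ⟨a, k, he⟩ := d₀.center_form hbot _ dM.u_cen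
    have heS : (⟨(dM.u : Ω), dM.uS⟩ : S) = ι (d₀.z ^ a * d₀.u ^ k) := Subtype.ext he
    have hk : ¬ (p : ℤ) ∣ k := fun hk => dM.u_not (by
      rw [heS, zpow_congr (d₀.pow_eq_one hbot hS d₀.u) (i := k) (j := 0) (by rwa [sub_zero]),
        zpow_zero, mul_one, map_zpow]
      refine zpow_mem ?_ a
      have e : ι d₀.z = ⁅(ι d₀.n)⁻¹, (⟨d₀.x, d₀.hxN.1⟩ : S)⁆ := by
        refine Subtype.ext ?_
        show (d₀.z : Ω) = ⁅(d₀.n : Ω)⁻¹, d₀.x⁆
        rw [d₀.z_def, commutatorElement_def]
        show (d₀.n : Ω)⁻¹ * (d₀.x * d₀.n * d₀.x⁻¹) = _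
        group
      rw [e]
      exact (CfsgLib.PGroupBasic.commutator_pow_le_frattini hS).1
        (commutator_mem_commutator (mem_top _) (mem_top _)))
    obtain ⟨b, hb⟩ := dM.line_fix (hbotM M hM) hS hF hβ
    have hβι : ∀ v : E₀, β (ι v) = ι (d₀.τ v) := fun v => Subtype.ext (hβτ v (ι v) rfl).symm
    have e2 : d₀.z ^ (d₀.μ * a) * d₀.u ^ k = (d₀.z ^ a * d₀.u ^ k) ^ b := by
      refine Subgroup.inclusion_injective hE₀.1.1 ?_
      have h1 : β (ι (d₀.z ^ a * d₀.u ^ k)) = ι (d₀.z ^ a * d₀.u ^ k) ^ b := by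
        rw [← heS]; exact Subtype.ext hb
      rw [hβι, map_mul d₀.τ, map_zpow, map_zpow, hτz, hτu, ← zpow_mul, ← map_zpow] at h1
      exact h1
    have hzu : Commute d₀.z d₀.u := d₀.commute hbot hS _ _
    rw [(hzu.zpow_zpow a k).mul_zpow, ← zpow_mul, ← zpow_mul] at e2
    obtain ⟨-, g1, g2⟩ := d₀.indep 0 (a * b - d₀.μ * a) (k * b - k) (by
      rw [zpow_zero, one_mul, zpow_sub, zpow_sub, mul_assoc, ← mul_assoc _ (d₀.u ^ (k * b)),
        (hzu.zpow_zpow _ _).inv_left.eq, mul_assoc, ← mul_assoc, ← e2, ← mul_inv_rev,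
        (hzu.zpow_zpow _ _).eq, mul_inv_cancel]
      exact one_mem _)
    have hb1 : (p : ℤ) ∣ b - 1 := by
      rw [show k * b - k = k * (b - 1) by ring] at g2
      exact (hpz.dvd_or_dvd g2).resolve_left hk
    have ha : (p : ℤ) ∣ a := by
      obtain ⟨q, hq⟩ := hb1
      obtain ⟨q', hq'⟩ := g1
      have : (p : ℤ) ∣ a * (d₀.μ - 1) := ⟨a * q - q', by linear_combination a * hq - hq'⟩
      exact (hpz.dvd_or_dvd this).resolve_right d₀.μ1
    have e3 : (dM.u : Ω) = (d₀.u : Ω) ^ k := by
      rw [he, zpow_congr (d₀.pow_eq_one hbot hS d₀.z) (i := a) (j := 0) (by rwa [sub_zero]),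
        zpow_zero, one_mul, SubgroupClass.coe_zpow]
    refine le_antisymm (zpowers_le.2 (e3 ▸ zpow_mem_zpowers _ k)) (zpowers_le.2 ?_)
    obtain ⟨l, hl⟩ := solve_mod hk 1
    refine ⟨l, ?_⟩
    show (dM.u : Ω) ^ l = d₀.u
    rw [e3, ← zpow_mul, zpow_congr (congrArg Subtype.val (d₀.pow_eq_one hbot hS d₀.u) :) hl, zpow_one]
  have hS0 : zpowers (d₀.u : Ω) ≤ S := zpowers_le.2 d₀.uS
  have hnorm : F.IsNormal (zpowers (d₀.u : Ω)) := by
    refine isNormal_of_essential p hS hF (fun P hP => ?_) fun P hP α hα a ha => ?_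
    · rcases hP with rfl | hP
      exacts [hS0, zpowers_le.2 (d₀.mem_of_essential hP (mem_sup_left (mem_zpowers _)))]
    · obtain ⟨i, hi⟩ := mem_zpowers_iff.1 ha
      rcases hP with rfl | hP
      · obtain ⟨k, hk⟩ := d₀.line_fix hbot hS hF hα
        have e : a = (⟨d₀.u, d₀.uS⟩ : P) ^ i := Subtype.ext hi.symm
        rw [e, map_zpow, SubgroupClass.coe_zpow, hk, SubgroupClass.coe_zpow]
        exact zpow_mem (zpow_mem_zpowers _ k) i
      · obtain ⟨hidx, hirr, ⟨dP⟩⟩ := hall P hP
        rw [← hline P hP dP] at ha ⊢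
        obtain ⟨i, hi⟩ := mem_zpowers_iff.1 ha
        have e : a = dP.u ^ i := Subtype.ext (by rw [SubgroupClass.coe_zpow]; exact hi.symm)
        obtain ⟨k, hk⟩ := mem_zpowers_iff.1 (dP.line_fix_self (hbotM P hP) hS hP hidx hirr hα)
        rw [e, map_zpow, SubgroupClass.coe_zpow, ← hk, SubgroupClass.coe_zpow]
        exact zpow_mem (zpow_mem_zpowers _ k) i
  have h := le_core hnorm (mem_zpowers (d₀.u : Ω))
  rw [hcore, mem_bot] at h
  refine d₀.u_not ?_
  have : (⟨(d₀.u : Ω), d₀.uS⟩ : S) = 1 := Subtype.ext h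
  rw [this]
  exact one_mem _

/-- A saturated system of sectional rank three with trivial core has a pearl. -/
theorem exists_pearl (hS : IsPGroup p S) (hF : F.IsSaturated p) (hp5 : 5 ≤ p)
    (hsr : Cfsg.SectionalPRankLE p 3 S) (hsr2 : ¬ Cfsg.SectionalPRankLE p 2 S) (hcore : F.core = ⊥) :
    ∃ E : Subgroup Ω, F.IsEssential p E ∧ IsPearl p E := by
  classical
  by_contra hno
  push Not at hno
  have hp2 : p ≠ 2 := by omega
  by_cases hex : ∃ E, F.IsEssential p E
  swap
  · -- no essential subgroups: the whole group is normal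
    push Not at hex
    have hnorm : F.IsNormal S := isNormal_of_essential p hS hF
      (fun P hP => by
        rcases hP with rfl | hP
        exacts [le_rfl, absurd hP (hex P)])
      fun P hP α hα a ha => by
        rcases hP with rfl | hP
        exacts [(α a).2, absurd hP (hex P)]
    have hbot : S = ⊥ := le_bot_iff.1 ((le_core hnorm).trans hcore.le)
    refine hsr2 fun H N _ A _ _ => ?_
    haveI hsub : Subsingleton S := by rw [hbot]; infer_instance
    haveI : Subsingleton (H ⧸ N) := Quotient.instSubsingletonQuotient _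
    rw [Nat.card_of_subsingleton (1 : A)]
    exact Nat.one_le_pow _ _ hp.out.pos
  have hcases : ∀ M, F.IsEssential p M → Nonempty (Stem F p M) ∨
      ((frattini M).index = p ^ 3 ∧ IsIrredTop F M) ∨
      ((frattini M).index = p ^ 3 ∧ ¬ IsIrredTop F M ∧ Nonempty (Red F p M)) := by
    intro M hM
    rcases index_cases hS hF hM hsr with h | h
    · exact Or.inl (exists_stem hS hp5 hF hM h hsr (hno M hM))
    · by_cases hirr : IsIrredTop F M
      · exact Or.inr (Or.inl ⟨h, hirr⟩)
      · exact Or.inr (Or.inr ⟨h, hirr, exists_red hS hF hp5 hM h hirr hsr⟩)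
  -- no member with two generators
  have hnostem : ∀ M, F.IsEssential p M → ¬ Nonempty (Stem F p M) := by
    rintro E hE ⟨d⟩
    refine d.false_of_others hS hF hE hcore hsr hp2 fun M hM _ => ?_
    rcases hcases M hM with h | ⟨h, hirr⟩ | ⟨-, -, ⟨dM⟩⟩
    · exact Or.inl h
    · exact Or.inr (Or.inl ⟨h, hirr, (irreducible_cover hS hF hp5 hM h hirr hsr).1⟩)
    · exact Or.inr (Or.inr ⟨_, dM.u_cen, dM.u_not⟩)
  by_cases hred : ∃ M, F.IsEssential p M ∧ Nonempty (Red F p M)
  · obtain ⟨E₀, hE₀, ⟨d₀⟩⟩ := hred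
    refine reducible_family_false hS hF hcore hE₀ fun M hM => ?_
    rcases hcases M hM with h | ⟨h, hirr⟩ | h
    · exact absurd h (hnostem M hM)
    · exact absurd ((irreducible_cover hS hF hp5 hM h hirr hsr).2 _ d₀.u_cen) d₀.u_not
    · exact h
  · push Not at hred
    obtain ⟨E₀, hE₀⟩ := hex
    refine irreducible_family_false hS hF hp5 hsr hcore hE₀ fun M hM => ?_
    rcases hcases M hM with h | h | ⟨-, -, h⟩
    · exact absurd h (hnostem M hM)
    · exact h
    · exact absurd h (by simpa using hred M hM)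

end CfsgLib.Fusion.RankThree
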