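import Cfsg.Agent.Fusion.RankThree.Basic
import Cfsg.Agent.Fusion.ShearEmbedded
import Cfsg.Agent.Fusion.ShearPair

/-!
An irreducible group on a module of order `p ^ 3` containing a transvection has no strongly
`p`-embedded subgroup.
-/

set_option autoImplicit false
set_option linter.unusedSectionVars false

open Cfsg Cfsg.FusionSystem Subgroup
open scoped commutatorElement

namespace CfsgLib.Fusion.RankThree

universe u v

section group

variable {X : Type v} [Group X] [Finite X] {p : ℕ} [hp : Fact p.Prime]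

/-- An abelian subgroup having a unique conjugate in a Sylow subgroup, any two conjugates of which
contain nontrivial commuting elements, excludes a strongly embedded subgroup. -/
theorem conjugates_false {Y : Subgroup X} (P : Sylow p X)
    (hP : kGeneratedCore p 1 (P : Subgroup X) ≤ Y) (hY : Y ≠ ⊤) (U : Subgroup X) (hUp : IsPGroup p U)
    (hUc : ∀ a ∈ U, ∀ b ∈ U, Commute a b)
    (huniq : ∀ g h : X, (∀ a ∈ U, g * a * g⁻¹ ∈ (P : Subgroup X)) →
      (∀ a ∈ U, h * a * h⁻¹ ∈ (P : Subgroup X)) → ∀ a ∈ U, (g⁻¹ * h) * a * (g⁻¹ * h)⁻¹ ∈ U)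
    (hcomm : ∀ g : X, ∃ u ∈ U, u ≠ 1 ∧ ∃ s ∈ U, s ≠ 1 ∧ Commute u (g * s * g⁻¹)) : False := by
  obtain ⟨g₀, hg₀⟩ : ∃ g₀ : X, ∀ a ∈ U, g₀ * a * g₀⁻¹ ∈ (P : Subgroup X) := by
    obtain ⟨Q, hQ⟩ := hUp.exists_le_sylow
    obtain ⟨g₀, hg₀⟩ := MulAction.exists_smul_eq X Q P
    exact ⟨g₀, fun a ha => by rw [← hg₀, Sylow.coe_subgroup_smul]; exact ⟨a, hQ ha, rfl⟩⟩
  let V := U.map (MulAut.conj g₀).toMonoidHom
  have hV : ∀ {b : X}, b ∈ V ↔ g₀⁻¹ * b * g₀ ∈ U := by
    intro b
    constructor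
    · rintro ⟨a, ha, rfl⟩; simpa [mul_assoc] using ha
    · intro hb; exact ⟨_, hb, by simp [mul_assoc]⟩
  have hVP : V ≤ (P : Subgroup X) := by rintro _ ⟨a, ha, rfl⟩; exact hg₀ a ha
  have hVp : IsPGroup p V := hUp.map _
  have hVc : ∀ a ∈ V, ∀ b ∈ V, Commute a b := by
    rintro _ ⟨a, ha, rfl⟩ _ ⟨b, hb, rfl⟩
    exact (hUc a ha b hb).map _
  obtain ⟨u₀, hu₀, hu₀1, -⟩ := hcomm 1
  have hVne : V ≠ ⊥ := fun h => hu₀1 (by
    have h' : MulAut.conj g₀ u₀ ∈ V := ⟨u₀, hu₀, rfl⟩
    rw [h, mem_bot] at h'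
    exact (map_eq_one_iff _ (MulAut.conj g₀).injective).1 h')
  have hPne : (P : Subgroup X) ≠ ⊥ := fun h => hVne (le_bot_iff.1 (h ▸ hVP))
  have hPY := sylow_le_of_kGen p hP hPne
  refine hY ((Subgroup.eq_top_iff' _).2 fun g => ?_)
  obtain ⟨u, hu, hu1, s, hs, hs1, hus⟩ := hcomm (g₀⁻¹ * g * g₀)
  set u' := g₀ * u * g₀⁻¹ with hu'
  set s' := g₀ * s * g₀⁻¹ with hs'
  have hus' : Commute u' (g * s' * g⁻¹) := by
    have := hus.map (MulAut.conj g₀).toMonoidHom
    simpa [hu', hs', mul_assoc] using this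
  have hu'V : u' ∈ V := ⟨u, hu, rfl⟩
  have hs'V : s' ∈ V := ⟨s, hs, rfl⟩
  have hcn : ∀ {a b : X}, Commute a b → b ∈ Subgroup.normalizer (Subgroup.zpowers a : Set X) := by
    intro a b hab
    refine Subgroup.centralizer_le_normalizer _ (Subgroup.mem_centralizer_iff.2 fun w hw => ?_)
    obtain ⟨i, rfl⟩ := Subgroup.mem_zpowers_iff.1 hw
    exact (hab.zpow_left i).eq
  have hsY : g * s' * g⁻¹ ∈ Y :=
    normalizer_le_of_kGen p hP hPne (hVp.to_le (Subgroup.zpowers_le.2 hu'V))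
      (Subgroup.zpowers_le.2 (hPY (hVP hu'V)))
      (by simp [Subgroup.zpowers_eq_bot, hu', hu1]) (hcn hus')
  let W := V.map (MulAut.conj g).toMonoidHom
  have hWY : W ≤ Y := by
    rintro _ ⟨w, hw, rfl⟩
    refine normalizer_le_of_kGen p hP hPne ?_ (Subgroup.zpowers_le.2 hsY)
      (by simp [Subgroup.zpowers_eq_bot, hs', hs1]) (hcn (?_ : Commute _ _))
    · exact (hVp.map (MulAut.conj g).toMonoidHom).to_le (Subgroup.zpowers_le.2 ⟨s', hs'V, by simp⟩)
    · simpa [MulAut.conj_apply] using (hVc s' hs'V w hw).map (MulAut.conj g).toMonoidHom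
  have hPin : SylowIn p (P : Subgroup X) Y := ⟨hPY, P.subtype hPY, rfl⟩
  obtain ⟨y, hy, hyW⟩ := hPin.exists_conj_le (hVp.map _) hWY
  suffices h : y * g ∈ Y by simpa using Y.mul_mem (Y.inv_mem hy) h
  have h2 : ∀ a ∈ U, (y * g * g₀) * a * (y * g * g₀)⁻¹ ∈ (P : Subgroup X) := fun a ha => by
    have := hyW (MulAut.conj g (g₀ * a * g₀⁻¹)) ⟨_, ⟨a, ha, rfl⟩, rfl⟩
    simpa [mul_assoc] using this
  have h3 := huniq g₀ (y * g * g₀) hg₀ h2
  refine normalizer_le_of_kGen p hP hPne hVp (hVP.trans hPY) hVne ?_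
  refine Subgroup.mem_normalizer_fintype fun b hb => hV.2 ?_
  have := h3 _ (hV.1 hb)
  simpa [mul_assoc] using this

end group

section module

variable {A : Type u} [CommGroup A] [Finite A] {X : Type v} [Group X] [Finite X] {p : ℕ}
  [hp : Fact p.Prime] (ρ : X →* MulAut A)

/-- `t` is a transvection with centre `c` and axis `D`. -/
structure IsTv (p : ℕ) (t : X) (c : A) (D : Subgroup A) : Prop where
  ne_one : t ≠ 1
  order_c : orderOf c = p
  card_D : Nat.card D = p ^ 2
  mem : c ∈ D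
  fix : ∀ a ∈ D, ρ t a = a
  disp : ∀ a, a⁻¹ * ρ t a ∈ zpowers c

variable {ρ} (hρ : Function.Injective ρ) (hA : Nat.card A = p ^ 3) (hexp : ∀ a : A, a ^ p = 1)

include hA in
theorem axis_maximal {D K : Subgroup A} (hD : Nat.card D = p ^ 2) (hle : D ≤ K) {a : A} (ha : a ∈ K)
    (haD : a ∉ D) : K = ⊤ := by
  refine Subgroup.eq_top_of_le_card _ ?_
  have hlt : D < K := SetLike.lt_iff_le_and_exists.2 ⟨hle, a, ha, haD⟩
  have := CfsgLib.Solvable.card_lt_of_lt hlt
  obtain ⟨k, -, hk⟩ := (Nat.dvd_prime_pow hp.out).1 (hA ▸ Subgroup.card_subgroup_dvd_card K)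
  rw [hD, hk, Nat.pow_lt_pow_iff_right hp.out.one_lt] at this
  rw [hA, hk]
  exact Nat.pow_le_pow_right hp.out.pos (by omega)

include hρ hA in
theorem IsTv.fixed_mem {t : X} {c : A} {D : Subgroup A} (h : IsTv ρ p t c D) {a : A}
    (ha : ρ t a = a) : a ∈ D := by
  by_contra haD
  refine h.ne_one (hρ (MulEquiv.ext fun b => ?_))
  have := axis_maximal hA (K := (ρ t).toMonoidHom.eqLocus (MonoidHom.id A)) h.card_D
    (fun x hx => h.fix x hx) ha haD
  rw [map_one]
  exact (this.ge (mem_top b) : b ∈ (ρ t).toMonoidHom.eqLocus (MonoidHom.id A))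

theorem IsTv.conj {t : X} {c : A} {D : Subgroup A} (h : IsTv ρ p t c D) (g : X) :
    IsTv ρ p (g * t * g⁻¹) (ρ g c) (D.map (ρ g).toMonoidHom) where
  ne_one := fun e => h.ne_one (conj_eq_one_iff.1 e)
  order_c := by rw [MulEquiv.orderOf_eq, h.order_c]
  card_D := by rw [Subgroup.card_map_of_injective (ρ g).injective, h.card_D]
  mem := ⟨c, h.mem, rfl⟩
  fix := by
    rintro _ ⟨a, ha, rfl⟩
    simp [MulAut.mul_apply, h.fix a ha]
  disp := fun a => by
    obtain ⟨n, hn⟩ := mem_zpowers_iff.1 (h.disp ((ρ g)⁻¹ a))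
    refine ⟨n, ?_⟩
    show ρ g c ^ n = a⁻¹ * ρ (g * t * g⁻¹) a
    rw [← map_zpow, hn, map_mul, map_inv, MulAut.apply_inv_self, map_mul, map_mul, map_inv,
      MulAut.mul_apply, MulAut.mul_apply]

include hρ in
theorem IsTv.commute {t t' : X} {c c' : A} {D D' : Subgroup A} (h : IsTv ρ p t c D)
    (h' : IsTv ρ p t' c' D') (h1 : c' ∈ D) (h2 : c ∈ D') : Commute t t' := by
  refine hρ (MulEquiv.ext fun a => ?_)
  obtain ⟨m, hm⟩ := mem_zpowers_iff.1 (h.disp a)
  obtain ⟨n, hn⟩ := mem_zpowers_iff.1 (h'.disp a)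
  rw [map_mul, map_mul, MulAut.mul_apply, MulAut.mul_apply]
  rw [eq_inv_mul_iff_mul_eq] at hm hn
  rw [← hm, ← hn, map_mul, map_mul, map_zpow, map_zpow, h.fix c' h1, h'.fix c h2, ← hm, ← hn,
    mul_right_comm]

/-- The transformations fixing `D` pointwise and moving every point inside `D`. -/
def axisGroup (ρ : X →* MulAut A) (D : Subgroup A) : Subgroup X :=
  (ShearPair.stab (fun x y : A => mul_comm x y) ⊤ D).comap ρ

/-- The transformations fixing `c` and moving every point by powers of `c`. -/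
def centreGroup (ρ : X →* MulAut A) (c : A) : Subgroup X :=
  (TransvectionCentre.shear ⊤ c).comap ρ

theorem mem_axisGroup {D : Subgroup A} {x : X} :
    x ∈ axisGroup ρ D ↔ (∀ a ∈ D, ρ x a = a) ∧ ∀ a, a⁻¹ * ρ x a ∈ D :=
  ⟨fun h => ⟨h.2.1, h.2.2⟩, fun h => ⟨trivial, h.1, h.2⟩⟩

theorem mem_centreGroup {c : A} {x : X} :
    x ∈ centreGroup ρ c ↔ ρ x c = c ∧ ∀ a, a⁻¹ * ρ x a ∈ zpowers c :=
  ⟨fun h => ⟨h.2.1, h.2.2⟩, fun h => ⟨trivial, h.1, h.2⟩⟩

include hρ hA in
/-- A transvection of given axis and given centre in the axis group. -/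
theorem tv_of_axis {D : Subgroup A} (hD : Nat.card D = p ^ 2) {x : X} (hx : x ∈ axisGroup ρ D)
    {a : A} (ha : a ∉ D) {d : A} (hd : a⁻¹ * ρ x a = d) (hd1 : d ≠ 1) (hexp : ∀ a : A, a ^ p = 1) :
    IsTv ρ p x d D where
  ne_one := fun e => hd1 (by rw [← hd, e, map_one]; simp)
  order_c := orderOf_eq_prime (hexp d) hd1
  card_D := hD
  mem := hd ▸ (mem_axisGroup.1 hx).2 a
  fix := (mem_axisGroup.1 hx).1
  disp := fun b => by
    let K : Subgroup A := (zpowers d).comap (MonoidHom.mk' (fun b => b⁻¹ * ρ x b) fun b b' => by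
      rw [mul_inv, map_mul, mul_mul_mul_comm])
    have hK : K = ⊤ := axis_maximal hA (K := K) hD (fun b hb => by
      show b⁻¹ * ρ x b ∈ zpowers d
      rw [(mem_axisGroup.1 hx).1 b hb, inv_mul_cancel]; exact one_mem _)
      (show a⁻¹ * ρ x a ∈ zpowers d from hd ▸ mem_zpowers d) ha
    exact hK.ge (mem_top b)

include hρ hA hexp in
/-- There are no two transvections with the same axis and different centres. -/
theorem axis_false {Y : Subgroup X} (P : Sylow p X)
    (hP : kGeneratedCore p 1 (P : Subgroup X) ≤ Y) (hY : Y ≠ ⊤) {t t' : X} {c c' : A}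
    {D : Subgroup A} (h : IsTv ρ p t c D) (h' : IsTv ρ p t' c' D) (hc : c' ∉ zpowers c) : False := by
  classical
  set U := axisGroup ρ D
  obtain ⟨a, ha⟩ : ∃ a, a ∉ D := by
    by_contra hcon
    push Not at hcon
    have := h.card_D
    rw [(Subgroup.eq_top_iff' D).2 hcon, Subgroup.card_top, hA] at this
    exact absurd (Nat.pow_right_injective hp.out.two_le this) (by norm_num)
  have hle : ∀ {s : X} {e : A}, IsTv ρ p s e D → s ∈ U := fun hs =>
    mem_axisGroup.2 ⟨hs.fix, fun b => Subgroup.zpowers_le.2 hs.mem (hs.disp b)⟩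
  -- the displacement of the outside element is onto the axis
  have hsurj : ∀ d ∈ D, ∃ u ∈ U, a⁻¹ * ρ u a = d := by
    let f : U →* D := MonoidHom.mk' (fun u => ⟨a⁻¹ * ρ u a, (mem_axisGroup.1 u.2).2 a⟩) fun u w =>
      Subtype.ext (by
        have hw := (mem_axisGroup.1 w.2).2 a
        show a⁻¹ * ρ (u * w : U) a = a⁻¹ * ρ u a * (a⁻¹ * ρ w a)
        have e : ρ u (ρ w a) = ρ u a * (a⁻¹ * ρ w a) := by
          conv_lhs => rw [← mul_inv_cancel_left a (ρ w a), map_mul, (mem_axisGroup.1 u.2).1 _ hw]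
        rw [Subgroup.coe_mul, map_mul, MulAut.mul_apply, e, mul_assoc])
    have hf : f.range = ⊤ := by
      refine Subgroup.eq_top_of_le_card _ ?_
      have hm : ∀ {s : X} {e : A}, IsTv ρ p s e D → e ∈ f.range.map D.subtype := fun {s e} hs => by
        have h1 : a⁻¹ * ρ s a ∈ f.range.map D.subtype := ⟨f ⟨s, hle hs⟩, ⟨_, rfl⟩, rfl⟩
        have h2 : a⁻¹ * ρ s a ≠ 1 := fun e1 => ha (hs.fixed_mem hρ hA (inv_mul_eq_one.1 e1).symm)
        exact Subgroup.zpowers_le.2 h1
          (TransvectionCentre.mem_zpowers_swap hs.order_c (hs.disp a) h2)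
      have hlt : zpowers c < f.range.map D.subtype :=
        SetLike.lt_iff_le_and_exists.2 ⟨Subgroup.zpowers_le.2 (hm h), c', hm h', hc⟩
      have := CfsgLib.Solvable.card_lt_of_lt hlt
      rw [Nat.card_zpowers, h.order_c, Subgroup.card_map_of_injective D.subtype_injective] at this
      obtain ⟨k, -, hk⟩ := (Nat.dvd_prime_pow hp.out).1 (h.card_D ▸ Subgroup.card_subgroup_dvd_card f.range)
      rw [hk] at this ⊢
      rw [h.card_D]
      refine Nat.pow_le_pow_right hp.out.pos ?_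
      by_contra hlt2
      have := Nat.pow_le_pow_right hp.out.pos (show k ≤ 1 by omega)
      rw [pow_one] at this
      omega
    intro d hd
    obtain ⟨u, hu⟩ := hf.ge (mem_top (⟨d, hd⟩ : D))
    exact ⟨u, u.2, congrArg Subtype.val hu⟩
  have hUp : IsPGroup p U := by
    refine (ShearPair.stab_isPGroup (fun x y : A => mul_comm x y) p ?_ D).comap_of_injective ρ hρ
    exact fun b => ⟨1, by rw [pow_one]; exact hexp b⟩
  have hUc : ∀ u ∈ U, ∀ w ∈ U, Commute u w := fun u hu w hw => hρ (MulEquiv.ext fun b => by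
    obtain ⟨hu1, hu2⟩ := mem_axisGroup.1 hu
    obtain ⟨hw1, hw2⟩ := mem_axisGroup.1 hw
    rw [map_mul, map_mul, MulAut.mul_apply, MulAut.mul_apply]
    obtain ⟨x, hx, e1⟩ : ∃ x ∈ D, ρ w b = b * x := ⟨_, hw2 b, (mul_inv_cancel_left _ _).symm⟩
    obtain ⟨y, hy, e2⟩ : ∃ y ∈ D, ρ u b = b * y := ⟨_, hu2 b, (mul_inv_cancel_left _ _).symm⟩
    rw [e1, e2, map_mul, map_mul, hu1 _ hx, hw1 _ hy, e1, e2, mul_right_comm])
  -- every element of the Sylow subgroup moves points inside an invariant hyperplane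
  have hinvH : ∀ g : X, (∀ u ∈ U, g * u * g⁻¹ ∈ (P : Subgroup X)) → ∀ M : Subgroup A,
      (∀ x ∈ (P : Subgroup X), ∀ b, b⁻¹ * ρ x b ∈ M) → D.map (ρ g).toMonoidHom ≤ M := by
    intro g hg M hM
    rintro _ ⟨d, hd, rfl⟩
    obtain ⟨u, hu, rfl⟩ := hsurj d hd
    have := hM _ (hg u hu) (ρ g a)
    rw [map_mul, map_mul, map_inv, MulAut.mul_apply, MulAut.mul_apply, MulAut.inv_apply_self] at this
    simpa [map_mul, map_inv] using this
  obtain ⟨M, hM1, hM⟩ : ∃ M : Subgroup A, M ≠ ⊤ ∧ ∀ x ∈ (P : Subgroup X), ∀ b, b⁻¹ * ρ x b ∈ M := by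
    -- a fixed homomorphism to the cyclic group of order `p`
    have hq : Nat.card (A ⧸ D) = p := by
      have e := D.index_mul_card
      rw [hA, h.card_D, pow_succ' p 2, Subgroup.index_eq_card] at e
      exact Nat.eq_of_mul_eq_mul_right (pow_pos hp.out.pos 2) e
    haveI := isCyclic_of_prime_card hq
    let e₀ : A ⧸ D ≃* Multiplicative (ZMod p) := mulEquivOfCyclicCardEq (by
      rw [hq, Nat.card_congr Multiplicative.toAdd, Nat.card_zmod])
    let H := A →* Multiplicative (ZMod p)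
    have : Finite H := Finite.of_injective _ DFunLike.coe_injective
    have hHp : IsPGroup p H := fun φ => ⟨1, MonoidHom.ext fun b => by
      rw [pow_one, MonoidHom.pow_apply, ← map_pow, hexp, map_one, MonoidHom.one_apply]⟩
    let ψ : H := e₀.toMonoidHom.comp (QuotientGroup.mk' D)
    have hψ : ψ ≠ 1 := fun e => ha (by
      have : e₀ (a : A ⧸ D) = 1 := DFunLike.congr_fun e a
      rw [map_eq_one_iff _ e₀.injective, QuotientGroup.eq_one_iff] at this
      exact this)
    let act : MulAction (P : Subgroup X) H :=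
      { smul := fun x φ => φ.comp ((ρ (x : X))⁻¹ : MulAut A).toMonoidHom
        one_smul := fun φ => MonoidHom.ext fun b => by
          show φ ((ρ ((1 : (P : Subgroup X)) : X))⁻¹ b) = φ b
          simp
        mul_smul := fun x y φ => MonoidHom.ext fun b => by
          show φ ((ρ ((x * y : (P : Subgroup X)) : X))⁻¹ b) = φ ((ρ (y : X))⁻¹ ((ρ (x : X))⁻¹ b))
          simp [MulAut.mul_apply] }
    letI := act
    have hdvd : p ∣ Nat.card H := by
      obtain ⟨k, hk⟩ := IsPGroup.iff_card.1 hHp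
      have hk0 : k ≠ 0 := fun h0 => by
        rw [h0, pow_zero, Nat.card_eq_one_iff_unique] at hk
        haveI := hk.1
        exact hψ (Subsingleton.elim _ _)
      rw [hk]; exact dvd_pow_self p hk0
    have h1 : (1 : H) ∈ MulAction.fixedPoints (P : Subgroup X) H := fun x => MonoidHom.ext fun b => rfl
    obtain ⟨φ, hφ, hφ1⟩ := P.2.exists_fixed_point_of_prime_dvd_card_of_fixed_point H hdvd h1
    refine ⟨φ.ker, fun e => hφ1 (MonoidHom.ext fun b => ?_), fun x hx b => ?_⟩
    · exact (e.ge (mem_top b) : b ∈ φ.ker).symm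
    · have h2 := DFunLike.congr_fun (hφ ⟨x, hx⟩) (ρ x b)
      show φ (b⁻¹ * ρ x b) = 1
      rw [map_mul, map_inv, inv_mul_eq_one, ← h2]
      show φ b = φ ((ρ x)⁻¹ (ρ x b))
      rw [MulAut.inv_apply_self]
  refine conjugates_false P hP hY U hUp hUc (fun g k hg hk => ?_) fun g => ?_
  · have key : ∀ g : X, (∀ u ∈ U, g * u * g⁻¹ ∈ (P : Subgroup X)) → D.map (ρ g).toMonoidHom = M := by
      intro g hg
      have hle' := hinvH g hg M hM
      refine le_antisymm hle' fun m hm => ?_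
      by_contra hmD
      exact hM1 (axis_maximal hA (by rw [Subgroup.card_map_of_injective (ρ g).injective, h.card_D])
        hle' hm hmD)
    have e : ∀ d ∈ D, (ρ g)⁻¹ (ρ k d) ∈ D := fun d hd => by
      obtain ⟨d', hd', e'⟩ := ((key k hk).trans (key g hg).symm).le ⟨d, hd, rfl⟩
      rw [MulEquiv.coe_toMonoidHom, MulEquiv.coe_toMonoidHom] at e'
      rw [← e', MulAut.inv_apply_self]; exact hd'
    have e' : ∀ d ∈ D, (ρ k)⁻¹ (ρ g d) ∈ D := fun d hd => by
      obtain ⟨d', hd', e''⟩ := ((key g hg).trans (key k hk).symm).le ⟨d, hd, rfl⟩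
      rw [MulEquiv.coe_toMonoidHom, MulEquiv.coe_toMonoidHom] at e''
      rw [← e'', MulAut.inv_apply_self]; exact hd'
    intro u hu
    obtain ⟨hu1, hu2⟩ := mem_axisGroup.1 hu
    refine mem_axisGroup.2 ⟨fun d hd => ?_, fun b => ?_⟩
    · simp only [map_mul, map_inv, mul_inv_rev, inv_inv, MulAut.mul_apply]
      rw [hu1 _ (e' d hd), MulAut.apply_inv_self, MulAut.inv_apply_self]
    · have h2 := e _ (hu2 ((ρ k)⁻¹ (ρ g b)))
      simpa only [map_mul, map_inv, mul_inv_rev, inv_inv, MulAut.mul_apply, MulAut.apply_inv_self,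
        MulAut.inv_apply_self] using h2
  · -- a common point of the two axes
    obtain ⟨l, hlD, hlg, hl1⟩ : ∃ l, l ∈ D ∧ l ∈ D.map (ρ g).toMonoidHom ∧ l ≠ 1 := by
      by_contra hcon
      push Not at hcon
      let m : D × (D.map (ρ g).toMonoidHom : Subgroup A) → A := fun q => (q.1 : A) * q.2
      have hm : Function.Injective m := by
        rintro ⟨a1, b1⟩ ⟨a2, b2⟩ e
        have e' : (a2 : A)⁻¹ * a1 = b2 * (b1 : A)⁻¹ := by
          rw [inv_mul_eq_iff_eq_mul, ← mul_assoc, eq_mul_inv_iff_mul_eq]; exact e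
        have := hcon _ (mul_mem (inv_mem a2.2) a1.2) (e' ▸ mul_mem b2.2 (inv_mem b1.2))
        refine Prod.ext (Subtype.ext (inv_mul_eq_one.1 this).symm) (Subtype.ext ?_)
        rw [this] at e'
        exact (mul_inv_eq_one.1 e'.symm).symm
      have := Nat.card_le_card_of_injective m hm
      rw [Nat.card_prod, Subgroup.card_map_of_injective (ρ g).injective, h.card_D, hA, ← pow_add] at this
      have := (Nat.pow_le_pow_iff_right hp.out.one_lt).1 this
      omega
    obtain ⟨l', hl', hgl⟩ := hlg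
    obtain ⟨u, hu, hua⟩ := hsurj l hlD
    obtain ⟨s, hs, hsa⟩ := hsurj l' hl'
    have hl'1 : l' ≠ 1 := fun e => hl1 (by rw [← hgl, e, map_one])
    have tu := tv_of_axis hρ hA h.card_D hu ha hua hl1 hexp
    have ts := tv_of_axis hρ hA h.card_D hs ha hsa hl'1 hexp
    refine ⟨u, hu, tu.ne_one, s, hs, ts.ne_one, tu.commute hρ (ts.conj g) ?_ ⟨l', hl', hgl⟩⟩
    rw [show ρ g l' = l from hgl]; exact hlD

include hρ hA hexp in
/-- There are no two transvections with the same centre and different axes. -/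
theorem centre_false {Y : Subgroup X} (P : Sylow p X)
    (hP : kGeneratedCore p 1 (P : Subgroup X) ≤ Y) (hY : Y ≠ ⊤) {t t' : X} {c c' : A}
    {D D' : Subgroup A} (h : IsTv ρ p t c D) (h' : IsTv ρ p t' c' D') (hc : c' ∈ zpowers c)
    (hD : D ≠ D') : False := by
  classical
  set U := centreGroup ρ c
  have hcc : zpowers c' = zpowers c := le_antisymm (Subgroup.zpowers_le.2 hc) (Subgroup.zpowers_le.2
    (TransvectionCentre.mem_zpowers_swap h.order_c hc fun e => by
      have := h'.order_c; rw [e, orderOf_one] at this; exact hp.out.one_lt.ne this))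
  have ht : t ∈ U := mem_centreGroup.2 ⟨h.fix c h.mem, h.disp⟩
  have hcD' : c ∈ D' := Subgroup.zpowers_le.2 h'.mem (hcc ▸ mem_zpowers c)
  have ht' : t' ∈ U := mem_centreGroup.2 ⟨h'.fix c hcD', fun b => hcc ▸ h'.disp b⟩
  have hUp : IsPGroup p U :=
    (shear_isPGroup ⊤ (by rw [← h.order_c, pow_orderOf_eq_one])).comap_of_injective ρ hρ
  have hUc : ∀ u ∈ U, ∀ w ∈ U, Commute u w := fun u hu w hw => hρ (by
    rw [map_mul, map_mul]
    exact (TransvectionCentre.shear_commute (show ρ u ∈ TransvectionCentre.shear ⊤ c from hu)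
      (show ρ w ∈ TransvectionCentre.shear ⊤ c from hw) (mem_centreGroup.1 hu).1 (mem_centreGroup.1 hw).1).eq)
  -- common fixed points of the centre group
  have hfix : ∀ b, (∀ u ∈ U, ρ u b = b) → b ∈ zpowers c := by
    intro b hb
    have hbD := h.fixed_mem hρ hA (hb t ht)
    have hbD' := h'.fixed_mem hρ hA (hb t' ht')
    by_contra hbc
    refine hD ?_
    have hle : zpowers c < D ⊓ D' := SetLike.lt_iff_le_and_exists.2
      ⟨le_inf (Subgroup.zpowers_le.2 h.mem) (Subgroup.zpowers_le.2 hcD'), b, Subgroup.mem_inf.2 ⟨hbD, hbD'⟩, hbc⟩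
    have hlt := CfsgLib.Solvable.card_lt_of_lt hle
    rw [Nat.card_zpowers, h.order_c] at hlt
    obtain ⟨k, -, hk⟩ := (Nat.dvd_prime_pow hp.out).1 (hA ▸ Subgroup.card_subgroup_dvd_card (D ⊓ D'))
    rw [hk] at hlt
    have h2 : p ^ 2 ≤ Nat.card (D ⊓ D' : Subgroup A) := by
      rw [hk]
      refine Nat.pow_le_pow_right hp.out.pos ?_
      by_contra hk2
      have := Nat.pow_le_pow_right hp.out.pos (show k ≤ 1 by omega)
      rw [pow_one] at this
      omega
    rw [← Subgroup.eq_of_le_of_card_ge (inf_le_left : D ⊓ D' ≤ D) (by rw [h.card_D]; exact h2)]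
    exact Subgroup.eq_of_le_of_card_ge inf_le_right (by rw [h'.card_D]; exact h2)
  -- a fixed point of the Sylow subgroup
  obtain ⟨w, hw1, hw⟩ : ∃ w : A, w ≠ 1 ∧ ∀ x ∈ (P : Subgroup X), ρ x w = w := by
    let act : MulAction (P : Subgroup X) A :=
      { smul := fun x b => ρ (x : X) b
        one_smul := fun b => by show ρ ((1 : (P : Subgroup X)) : X) b = b; simp
        mul_smul := fun x y b => by
          show ρ ((x * y : (P : Subgroup X)) : X) b = ρ (x : X) (ρ (y : X) b)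
          simp [MulAut.mul_apply] }
    letI := act
    have h1 : (1 : A) ∈ MulAction.fixedPoints (P : Subgroup X) A := fun x => map_one (ρ (x : X))
    obtain ⟨w, hw, hw1⟩ := P.2.exists_fixed_point_of_prime_dvd_card_of_fixed_point A
      (hA ▸ dvd_pow_self p (by norm_num)) h1
    exact ⟨w, fun e => hw1 e.symm, fun x hx => hw ⟨x, hx⟩⟩
  refine conjugates_false P hP hY U hUp hUc (fun g k hg hk => ?_) fun g => ?_
  · have key : ∀ g : X, (∀ u ∈ U, g * u * g⁻¹ ∈ (P : Subgroup X)) → ρ g c ∈ zpowers w := by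
      intro g hg
      have hwc : (ρ g)⁻¹ w ∈ zpowers c := hfix _ fun u hu => by
        have := congrArg ((ρ g)⁻¹ : MulAut A) (hw _ (hg u hu))
        simpa [MulAut.mul_apply] using this
      have hne : (ρ g)⁻¹ w ≠ 1 := fun e => hw1 ((map_eq_one_iff _ ((ρ g)⁻¹ : MulAut A).injective).1 e)
      obtain ⟨i, hi⟩ := mem_zpowers_iff.1 (TransvectionCentre.mem_zpowers_swap h.order_c hwc hne)
      refine ⟨i, ?_⟩
      show w ^ i = ρ g c
      rw [← hi, map_zpow, MulAut.apply_inv_self]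
    have hne : ∀ g : X, ρ g c ≠ 1 := fun g e => by
      rw [map_eq_one_iff _ (ρ g).injective] at e
      have := h.order_c; rw [e, orderOf_one] at this; exact hp.out.one_lt.ne this
    have hwo : orderOf w = p := orderOf_eq_prime (hexp w) hw1
    have e1 : ρ g c ∈ zpowers (ρ k c) :=
      Subgroup.zpowers_le.2 (TransvectionCentre.mem_zpowers_swap hwo (key k hk) (hne k)) (key g hg)
    have e2 : (ρ k)⁻¹ (ρ g c) ∈ zpowers c := by
      obtain ⟨i, hi⟩ := mem_zpowers_iff.1 e1
      exact ⟨i, by show c ^ i = _; rw [← hi, map_zpow, MulAut.inv_apply_self]⟩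
    have e3 : ρ k c ∈ zpowers (ρ g c) :=
      Subgroup.zpowers_le.2 (TransvectionCentre.mem_zpowers_swap hwo (key g hg) (hne g)) (key k hk)
    intro u hu
    obtain ⟨hu1, hu2⟩ := mem_centreGroup.1 hu
    refine mem_centreGroup.2 ⟨?_, fun b => ?_⟩
    · obtain ⟨i, hi⟩ := mem_zpowers_iff.1 e2
      simp only [map_mul, map_inv, mul_inv_rev, inv_inv, MulAut.mul_apply]
      rw [← hi, map_zpow, hu1, hi, MulAut.apply_inv_self, MulAut.inv_apply_self]
    · obtain ⟨i, hi⟩ := mem_zpowers_iff.1 (hu2 ((ρ k)⁻¹ (ρ g b)))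
      obtain ⟨j, hj⟩ := mem_zpowers_iff.1 e3
      refine ⟨j * i, ?_⟩
      show c ^ (j * i) = _
      have e4 : c ^ j = (ρ g)⁻¹ (ρ k c) := by rw [← hj, map_zpow, MulAut.inv_apply_self]
      rw [zpow_mul, e4, ← map_zpow, ← map_zpow, hi]
      simp [MulAut.mul_apply, map_mul, map_inv]
  · -- elements of the two groups fixing the centre of the other
    have hkill : ∀ b : A, ∃ u ∈ U, u ≠ 1 ∧ ρ u b = b := by
      intro b
      by_cases hb : ρ t b = b
      · exact ⟨t, ht, h.ne_one, hb⟩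
      obtain ⟨n, hn⟩ := mem_zpowers_iff.1 (TransvectionCentre.mem_zpowers_swap h.order_c (h.disp b)
        fun e => hb (inv_mul_eq_one.1 e).symm)
      obtain ⟨m, hm⟩ := mem_zpowers_iff.1 (hcc ▸ h'.disp b)
      refine ⟨t' * t ^ (-(n * m)), U.mul_mem ht' (zpow_mem ht _), fun e => hD ?_, ?_⟩
      · -- otherwise the axes agree
        have e' : t' = t ^ (n * m) := by rw [← mul_inv_eq_one, ← zpow_neg]; exact e
        refine Subgroup.eq_of_le_of_card_ge (fun d hd => h'.fixed_mem hρ hA ?_) (by rw [h.card_D, h'.card_D])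
        have hS : t ∈ (MulAction.stabilizer (MulAut A) d).comap ρ := h.fix d hd
        have := zpow_mem hS (n * m)
        rw [← e'] at this
        exact this
      · have hpw : ∀ i : ℤ, ρ (t ^ i) b = b * (b⁻¹ * ρ t b) ^ i := by
          let f : U →* A := MonoidHom.mk' (fun u => b⁻¹ * ρ (u : X) b) fun u w => by
            obtain ⟨hu1, -⟩ := mem_centreGroup.1 u.2
            obtain ⟨j, hj⟩ := mem_zpowers_iff.1 ((mem_centreGroup.1 w.2).2 b)
            show b⁻¹ * ρ ((u * w : U) : X) b = b⁻¹ * ρ (u : X) b * (b⁻¹ * ρ (w : X) b)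
            rw [Subgroup.coe_mul, map_mul, MulAut.mul_apply, ← hj,
              eq_inv_mul_iff_mul_eq.1 hj |>.symm, map_mul, map_zpow, hu1, mul_assoc]
          intro i
          have e : b⁻¹ * ρ (t ^ i) b = (b⁻¹ * ρ t b) ^ i := map_zpow f ⟨t, ht⟩ i
          rw [← e, mul_inv_cancel_left]
        rw [map_mul, MulAut.mul_apply, hpw, map_mul, map_zpow,
          show ρ t' (b⁻¹ * ρ t b) = b⁻¹ * ρ t b by
            obtain ⟨j, hj⟩ := mem_zpowers_iff.1 (h.disp b)
            rw [← hj, map_zpow, h'.fix c hcD'],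
          ← mul_inv_cancel_left b (ρ t' b), ← hm, zpow_neg, zpow_mul, hn, mul_assoc, mul_inv_cancel,
          mul_one]
    obtain ⟨u, hu, hu1, hub⟩ := hkill (ρ g c)
    obtain ⟨s, hs, hs1, hsb⟩ := hkill ((ρ g)⁻¹ c)
    refine ⟨u, hu, hu1, s, hs, hs1, hρ ?_⟩
    have h1 : ρ u ∈ TransvectionCentre.shear ⊤ c := hu
    have h2 := TransvectionCentre.conj_shear (show ρ s ∈ TransvectionCentre.shear ⊤ c from hs)
      (Subgroup.mem_top (ρ g))
    have h3 : (ρ g * ρ s * (ρ g)⁻¹) c = c := by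
      rw [MulAut.mul_apply, MulAut.mul_apply, hsb, MulAut.apply_inv_self]
    simp only [map_mul, map_inv]
    exact (TransvectionCentre.shear_commute h1 h2 hub h3).eq

include hρ hA hexp in
/-- An irreducible group with a transvection has no strongly embedded subgroup. -/
theorem transvection_false {Y : Subgroup X} (P : Sylow p X)
    (hP : kGeneratedCore p 1 (P : Subgroup X) ≤ Y) (hY : Y ≠ ⊤)
    (hirr : ∀ L : Subgroup A, (∀ x : X, ∀ a ∈ L, ρ x a ∈ L) → L = ⊥ ∨ L = ⊤) {t : X} {c : A}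
    {D : Subgroup A} (h : IsTv ρ p t c D) : False := by
  classical
  have hc1 : ∀ {s : X} {e : A} {K : Subgroup A}, IsTv ρ p s e K → e ≠ 1 := fun hs e => by
    have := hs.order_c; rw [e, orderOf_one] at this; exact hp.out.one_lt.ne this
  -- commuting transvections have the same centre and axis
  have heqv : ∀ {s s' : X} {e e' : A} {K K' : Subgroup A}, IsTv ρ p s e K → IsTv ρ p s' e' K' →
      e' ∈ K → e ∈ K' → zpowers e = zpowers e' ∧ K = K' := by
    intro s s' e e' K K' hs hs' h1 h2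
    by_cases hc : e' ∈ zpowers e
    · refine ⟨le_antisymm (Subgroup.zpowers_le.2 (TransvectionCentre.mem_zpowers_swap hs.order_c hc
        (hc1 hs'))) (Subgroup.zpowers_le.2 hc), ?_⟩
      by_contra hK
      exact centre_false hρ hA hexp P hP hY hs hs' hc hK
    · exfalso
      -- both axes are spanned by the two centres
      have hlt : zpowers e < K ⊓ K' := SetLike.lt_iff_le_and_exists.2
        ⟨le_inf (Subgroup.zpowers_le.2 hs.mem) (Subgroup.zpowers_le.2 h2), e', Subgroup.mem_inf.2 ⟨h1, hs'.mem⟩, hc⟩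
      have hlt' := CfsgLib.Solvable.card_lt_of_lt hlt
      rw [Nat.card_zpowers, hs.order_c] at hlt'
      obtain ⟨k, -, hk⟩ := (Nat.dvd_prime_pow hp.out).1 (hA ▸ Subgroup.card_subgroup_dvd_card (K ⊓ K'))
      have h2' : p ^ 2 ≤ Nat.card (K ⊓ K' : Subgroup A) := by
        rw [hk]
        refine Nat.pow_le_pow_right hp.out.pos ?_
        by_contra hk2
        have := Nat.pow_le_pow_right hp.out.pos (show k ≤ 1 by omega)
        rw [pow_one] at this
        rw [hk] at hlt'
        omega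
      have hK : K = K' := by
        rw [← Subgroup.eq_of_le_of_card_ge (inf_le_left : K ⊓ K' ≤ K) (by rw [hs.card_D]; exact h2')]
        exact Subgroup.eq_of_le_of_card_ge inf_le_right (by rw [hs'.card_D]; exact h2')
      subst hK
      exact axis_false hρ hA hexp P hP hY hs hs' hc
  -- any two transvections are equal or generic
  have hgen : ∀ {s s' : X} {e e' : A} {K K' : Subgroup A}, IsTv ρ p s e K → IsTv ρ p s' e' K' →
      e' ∈ K → zpowers e = zpowers e' := by
    intro s s' e e' K K' hs hs' h1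
    refine (heqv hs hs' h1 ?_).1
    by_contra h2
    have hconj := hs'.conj s
    rw [hs.fix e' h1] at hconj
    obtain ⟨-, hKe⟩ := heqv hs' hconj hs'.mem hconj.mem
    obtain ⟨b, hbK', hbK⟩ : ∃ b ∈ K', b ∉ K := by
      by_contra hcon
      push Not at hcon
      exact h2 (Subgroup.eq_of_le_of_card_ge hcon (by rw [hs.card_D, hs'.card_D]) ▸ hs.mem)
    have hsb : ρ s b ∈ K' := hKe ▸ ⟨b, hbK', rfl⟩
    exact h2 (Subgroup.zpowers_le.2 (mul_mem (inv_mem hbK') hsb)
      (TransvectionCentre.mem_zpowers_swap hs.order_c (hs.disp b)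
        fun e1 => hbK (hs.fixed_mem hρ hA (inv_mul_eq_one.1 e1).symm)))
  obtain ⟨g₁, hg₁⟩ : ∃ g : X, ρ g c ∉ zpowers c := by
    by_contra hcon
    push Not at hcon
    rcases hirr (zpowers c) (fun x a ha => by
      obtain ⟨i, rfl⟩ := mem_zpowers_iff.1 ha
      rw [map_zpow]; exact zpow_mem (hcon x) i) with h0 | h0
    · exact hc1 h (Subgroup.zpowers_eq_bot.1 h0)
    · have := Nat.card_zpowers c
      rw [h0, Subgroup.card_top, hA, h.order_c] at this
      have := Nat.pow_right_injective hp.out.two_le (this.trans (pow_one p).symm)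
      omega
  set c' := ρ g₁ c
  have h' := h.conj g₁
  set t' := g₁ * t * g₁⁻¹
  set C := zpowers c' ⊔ zpowers c with hC
  have hc'D : c' ∉ D := fun hmem => hg₁ (hgen h h' hmem ▸ mem_zpowers _)
  have hcard : Nat.card C ≤ p ^ 2 := by
    refine (CfsgLib.PGroupBasic.card_sup_zpowers_le (p := p) (zpowers c) c'
      (by rw [hexp]; exact one_mem _)).trans ?_
    rw [Nat.card_zpowers, h.order_c, pow_two]
  obtain ⟨d, hd⟩ : ∃ d, c'⁻¹ * ρ t c' = d := ⟨_, rfl⟩
  have hd0 : c ∈ zpowers d := TransvectionCentre.mem_zpowers_swap h.order_c (hd ▸ h.disp c')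
    fun e => hc'D (h.fixed_mem hρ hA (inv_mul_eq_one.1 (hd.trans e)).symm)
  have hdc : ρ t d = d := by
    obtain ⟨i, hi⟩ := mem_zpowers_iff.1 (hd ▸ h.disp c' : d ∈ zpowers c)
    rw [← hi, map_zpow, h.fix c h.mem]
  have hcentre : ∀ n : ℕ, ρ (t ^ n) c' = c' * d ^ n := by
    intro n
    induction n with
    | zero => simp
    | succ n ih =>
      rw [pow_succ', map_mul, MulAut.mul_apply, ih, map_mul, map_pow, hdc,
        ← mul_inv_cancel_left c' (ρ t c'), hd, mul_assoc, ← pow_succ']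
  -- every line of the plane is a centre
  have hall : ∀ b ∈ C, b ≠ 1 → ∃ (s : X) (e : A) (K : Subgroup A), IsTv ρ p s e K ∧ b ∈ zpowers e := by
    intro b hb hb1
    obtain ⟨x, hx, y, hy, rfl⟩ := mem_sup.1 hb
    obtain ⟨i, rfl⟩ := mem_zpowers_iff.1 hx
    obtain ⟨j, rfl⟩ := mem_zpowers_iff.1 (Subgroup.zpowers_le.2 hd0 hy)
    by_cases hi : (p : ℤ) ∣ i
    · refine ⟨t, c, D, h, ?_⟩
      obtain ⟨m, rfl⟩ := hi
      rw [zpow_mul, zpow_natCast, hexp, one_zpow, one_mul]
      exact zpow_mem (hd ▸ h.disp c') _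
    · obtain ⟨a, e, hae⟩ : ∃ a e : ℤ, a * i + e * p = 1 :=
        ((Nat.prime_iff_prime_int.1 hp.out).coprime_iff_not_dvd.2 hi).symm
      obtain ⟨n, hn⟩ : ∃ n : ℕ, d ^ (a * j) = d ^ n :=
        ⟨((a * j) % p).toNat, by
          rw [← zpow_natCast d, Int.toNat_of_nonneg (Int.emod_nonneg _ (by exact_mod_cast hp.out.ne_zero))]
          conv_lhs => rw [← Int.emod_add_mul_ediv (a * j) p]
          rw [zpow_add, zpow_mul, zpow_natCast, hexp, one_zpow, mul_one]⟩
      refine ⟨_, _, _, h'.conj (t ^ n), i, ?_⟩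
      show ρ (t ^ n) c' ^ i = _
      rw [hcentre, mul_zpow, ← hn, ← zpow_mul, mul_comm (a * j) i, ← mul_assoc, mul_comm i a,
        show a * i * j = j + p * (-(e * j)) by linear_combination j * hae, zpow_add, zpow_mul,
        zpow_natCast, hexp, one_zpow, mul_one]
  have hCinv : ∀ x : X, ∀ a ∈ C, ρ x a ∈ C := by
    intro x a ha
    -- every centre lies in the plane
    by_cases ha1 : a = 1
    · rw [ha1, map_one]; exact one_mem _
    obtain ⟨s, e, K, hs, hae⟩ := hall a ha ha1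
    obtain ⟨j, rfl⟩ := mem_zpowers_iff.1 hae
    rw [map_zpow]
    refine zpow_mem ?_ j
    set e'' := ρ x e
    have h'' := hs.conj x
    set K'' := K.map (ρ x).toMonoidHom
    -- a point of the plane on the axis
    obtain ⟨b, hbK, hbC, hb1⟩ : ∃ b ∈ K'', b ∈ C ∧ b ≠ 1 := by
      by_cases h1 : c ∈ K''
      · exact ⟨c, h1, mem_sup_right (mem_zpowers c), hc1 h⟩
      have hK : K'' ⊔ zpowers c = ⊤ := axis_maximal hA h''.card_D le_sup_left
        (mem_sup_right (mem_zpowers c)) h1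
      obtain ⟨k, hk, y, hy, hky⟩ := mem_sup.1 (hK.ge (mem_top c'))
      refine ⟨k, hk, ?_, fun e1 => ?_⟩
      · rw [← mul_inv_eq_iff_eq_mul.2 hky.symm]
        exact mul_mem (mem_sup_left (mem_zpowers c')) (inv_mem (mem_sup_right hy))
      · rw [e1, one_mul] at hky
        exact hg₁ (hky ▸ hy)
    obtain ⟨s₁, e₁, K₁, hs₁, hbe⟩ := hall b hbC hb1
    have he₁ : e₁ ∈ zpowers b := TransvectionCentre.mem_zpowers_swap hs₁.order_c hbe hb1
    have := hgen h'' hs₁ (Subgroup.zpowers_le.2 hbK he₁)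
    exact Subgroup.zpowers_le.2 (Subgroup.zpowers_le.2 hbC he₁) (this ▸ mem_zpowers e'')
  rcases hirr C hCinv with h0 | h0
  · exact hc1 h (mem_bot.1 (h0 ▸ (mem_sup_right (mem_zpowers c) : c ∈ C)))
  · rw [h0, Subgroup.card_top, hA] at hcard
    have := (Nat.pow_le_pow_iff_right hp.out.one_lt).1 hcard
    omega

end module

end CfsgLib.Fusion.RankThree
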