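import Cfsg.Agent.Fusion.RankThree.Layers
import Cfsg.Agent.Fusion.RankThree.Transvection
import Cfsg.Agent.Fusion.RankThree.Chain

/-!
An essential subgroup of rank three with irreducible automiser is fixed by everything normalising
its normalizer.
-/

set_option autoImplicit false
set_option linter.unusedSectionVars false
set_option linter.style.haveILetI false

open Cfsg Cfsg.FusionSystem Subgroup
open scoped commutatorElement

namespace CfsgLib.Fusion.RankThree

universe u

variable {Ω : Type u} [Group Ω] {S : Subgroup Ω} [Finite S] {p : ℕ} [hp : Fact p.Prime]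
  {F : FusionSystem S}

/-- Nothing invariant lies strictly between the Frattini subgroup and the whole. -/
def IsIrredTop (F : FusionSystem S) (E : Subgroup Ω) : Prop :=
  ∀ L : Subgroup E, frattini E ≤ L → (∀ α ∈ F.autGroup E, ∀ x ∈ L, α x ∈ L) →
    L = frattini E ∨ L = ⊤

/-- An elementary abelian essential subgroup with irreducible automiser has no transvections. -/
theorem no_transvection (hS : IsPGroup p S) {E : Subgroup Ω} (hE : F.IsEssential p E)
    (hab : ∀ a b : E, a * b = b * a) (hexp : ∀ a : E, a ^ p = 1) (hcard : Nat.card E = p ^ 3)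
    (hirr : IsIrredTop F E) (hbot : frattini E = ⊥) {t : MulAut E} (ht : t ∈ F.autGroup E)
    (D : Subgroup E) (hD : D ≠ ⊥) (hDt : D ≠ ⊤) (hfix : ∀ a ∈ D, t a = a)
    (hdisp : ∀ a, a⁻¹ * t a ∈ D) (ht1 : t ≠ 1) : False := by
  classical
  obtain ⟨hc, -, hn, Y, -, hY, P, hP⟩ := hE
  have := finite_of_le hc.1
  have : Finite (MulAut E) := finite_mulAut
  letI : CommGroup E := { (inferInstance : Group E) with mul_comm := hab }
  have hinn : (Inn E).subgroupOf (F.autGroup E) = ⊥ := by
    refine eq_bot_iff.2 ?_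
    rintro α ⟨q, hq⟩
    refine Subgroup.mem_bot.2 (Subtype.ext (MulEquiv.ext fun x => ?_))
    rw [show ((α : F.autGroup E) : MulAut E) = MulAut.conj q from hq.symm, MulAut.conj_apply,
      hab q x, mul_inv_cancel_right]
    rfl
  haveI := hn
  set π := QuotientGroup.mk' ((Inn E).subgroupOf (F.autGroup E))
  let ρ : (F.autGroup E ⧸ (Inn E).subgroupOf (F.autGroup E)) →* MulAut E :=
    QuotientGroup.lift _ (F.autGroup E).subtype (hinn ▸ bot_le)
  have hρ : Function.Injective ρ := by
    refine (injective_iff_map_eq_one ρ).2 fun x hx => ?_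
    induction x using QuotientGroup.induction_on with
    | H a =>
      rw [QuotientGroup.eq_one_iff, hinn, Subgroup.mem_bot]
      exact Subtype.ext hx
  -- the displacement
  let f : E →* E := MonoidHom.mk' (fun a => a⁻¹ * t a) fun a b => by
    rw [mul_inv, map_mul, mul_mul_mul_comm]
  have hfr : f.range ≤ D := by rintro _ ⟨a, rfl⟩; exact hdisp a
  have hDk : D ≤ f.ker := fun a ha => by
    show a⁻¹ * t a = 1
    rw [hfix a ha, inv_mul_cancel]
  have hfne : f.range ≠ ⊥ := fun h => ht1 (MulEquiv.ext fun a => by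
    have h2 : f a ∈ f.range := ⟨a, rfl⟩
    rw [h, mem_bot] at h2
    exact (inv_mul_eq_one.1 h2).symm)
  have hprod : Nat.card f.range * Nat.card f.ker = p ^ 3 := by
    rw [← hcard, ← Subgroup.index_ker, Subgroup.index_mul_card]
  obtain ⟨a, -, ha⟩ := (Nat.dvd_prime_pow hp.out).1 (hcard ▸ Subgroup.card_subgroup_dvd_card f.range)
  obtain ⟨b, -, hb⟩ := (Nat.dvd_prime_pow hp.out).1 (hcard ▸ Subgroup.card_subgroup_dvd_card f.ker)
  obtain ⟨d, hd3, hd⟩ := (Nat.dvd_prime_pow hp.out).1 (hcard ▸ Subgroup.card_subgroup_dvd_card D)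
  rw [ha, hb, ← pow_add] at hprod
  have hab3 := Nat.pow_right_injective hp.out.two_le hprod
  have had : a ≤ d := by
    have := Subgroup.card_le_of_le hfr
    rwa [ha, hd, Nat.pow_le_pow_iff_right hp.out.one_lt] at this
  have hdb : d ≤ b := by
    have := Subgroup.card_le_of_le hDk
    rwa [hb, hd, Nat.pow_le_pow_iff_right hp.out.one_lt] at this
  have ha0 : a ≠ 0 := fun h => hfne (Subgroup.card_eq_one.1 (by rw [ha, h, pow_zero]))
  obtain ⟨rfl, rfl⟩ : a = 1 ∧ b = 2 := ⟨by omega, by omega⟩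
  rw [pow_one] at ha
  obtain ⟨c, hc', hc1⟩ := (Subgroup.bot_or_exists_ne_one f.range).resolve_left hfne
  have hco : orderOf c = p := orderOf_eq_prime (hexp c) hc1
  have hzc : zpowers c = f.range := Subgroup.eq_of_le_of_card_ge (Subgroup.zpowers_le.2 hc')
    (by rw [Nat.card_zpowers, hco, ha])
  have htv : IsTv ρ p (π ⟨t, ht⟩) c f.ker :=
    { ne_one := fun h => ht1 (congrArg ρ h)
      order_c := hco
      card_D := hb
      mem := hDk (hfr hc')
      fix := fun x hx => (inv_mul_eq_one.1 (hx : x⁻¹ * t x = 1)).symm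
      disp := fun x => hzc ▸ ⟨x, rfl⟩ }
  refine transvection_false hρ hcard hexp P hP hY (fun L hL => ?_) htv
  rw [← hbot]
  refine hirr L (hbot ▸ bot_le) fun α hα x hx => ?_
  exact hL (π ⟨α, hα⟩) x hx

/-- In the irreducible case the essential subgroup does not move inside the normalizer of its
normalizer. -/
theorem irreducible_false (hS : IsPGroup p S) (hp3 : 3 ≤ p) {E : Subgroup Ω}
    (hE : F.IsEssential p E) (hidx : (frattini E).index = p ^ 3)
    (hsr : Cfsg.SectionalPRankLE p 3 S) (hirr : IsIrredTop F E) {g : Ω}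
    (hgN : ∀ x ∈ normalizerIn S E, g * x * g⁻¹ ∈ normalizerIn S E)
    {x : Ω} (hx : x ∈ E) (hgx : g * x * g⁻¹ ∉ E) : False := by
  classical
  have hp2 : p ≠ 2 := by omega
  have hES := hE.1.1
  have := finite_of_le hES
  have hEp := isPGroup_of_le hS hES
  have hEN : E ≤ normalizerIn S E := le_normalizerIn hES
  have hsrE : Cfsg.SectionalPRankLE p 3 E :=
    sectional_of_injective (Subgroup.inclusion hES) (Subgroup.inclusion_injective hES) hsr
  set x' := g * x * g⁻¹ with hx'
  have hx'N : x' ∈ normalizerIn S E := hgN x (hEN hx)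
  by_cases hF : frattini E = ⊥
  · -- the elementary case
    obtain ⟨hcm, hpw⟩ := CfsgLib.PGroupBasic.commutator_pow_le_frattini hEp
    have hab : ∀ a b : E, a * b = b * a := fun a b => commutatorElement_eq_one_iff_mul_comm.1 (by
      have := hcm (commutator_mem_commutator (mem_top a) (mem_top b))
      rwa [hF, mem_bot] at this)
    have hexp : ∀ a : E, a ^ p = 1 := fun a => by
      have := hpw a
      rwa [hF, mem_bot] at this
    have hcard : Nat.card E = p ^ 3 := by rw [← hidx, hF, Subgroup.index_bot]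
    set E' := E.map (MulAut.conj g).toMonoidHom with hE'
    have hmem' : ∀ {b : Ω}, b ∈ E' ↔ ∃ a ∈ E, g * a * g⁻¹ = b := Iff.rfl
    -- conjugates normalize each other
    have hgNmap : (normalizerIn S E).map (MulAut.conj g).toMonoidHom = normalizerIn S E := by
      have := finite_of_le (normalizerIn_le_S (S := S) E)
      refine Subgroup.eq_of_le_of_card_ge (by rintro _ ⟨b, hb, rfl⟩; exact hgN b hb) ?_
      rw [Subgroup.card_map_of_injective (MulAut.conj g).injective]
    have hnorm : ∀ b ∈ normalizerIn S E, ∀ a ∈ E', b * a * b⁻¹ ∈ E' := by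
      intro b hb a ha
      obtain ⟨a, ha', rfl⟩ := hmem'.1 ha
      obtain ⟨b', hb', rfl⟩ := hgNmap.ge hb
      refine hmem'.2 ⟨b' * a * b'⁻¹, (Subgroup.mem_normalizer_iff.1 hb'.2 a).1 ha', ?_⟩
      simp [mul_assoc]
    let D : Subgroup E := E'.subgroupOf E
    have hfix : ∀ a ∈ D, conjAut S E ⟨x', hx'N⟩ a = a := by
      intro a ha
      obtain ⟨a', ha', e⟩ := hmem'.1 (Subgroup.mem_subgroupOf.1 ha)
      refine Subtype.ext ?_
      show x' * (a : Ω) * x'⁻¹ = a
      rw [← e, hx']
      have : x * a' = a' * x := congrArg Subtype.val (hab ⟨x, hx⟩ ⟨a', ha'⟩)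
      calc g * x * g⁻¹ * (g * a' * g⁻¹) * (g * x * g⁻¹)⁻¹ = g * (x * a') * x⁻¹ * g⁻¹ := by group
        _ = g * (a' * x) * x⁻¹ * g⁻¹ := by rw [this]
        _ = g * a' * g⁻¹ := by group
    have hdisp : ∀ a : E, a⁻¹ * conjAut S E ⟨x', hx'N⟩ a ∈ D := by
      intro a
      refine Subgroup.mem_subgroupOf.2 ?_
      show (a : Ω)⁻¹ * (x' * a * x'⁻¹) ∈ E'
      rw [← mul_assoc, ← mul_assoc]
      refine mul_mem ?_ (inv_mem (hmem'.2 ⟨x, hx, rfl⟩))
      have := hnorm (a : Ω)⁻¹ (hEN (inv_mem a.2)) x' (hmem'.2 ⟨x, hx, rfl⟩)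
      rwa [inv_inv] at this
    have ht1 : conjAut S E ⟨x', hx'N⟩ ≠ 1 := fun h => hgx
      ((inn_mem_iff hE.1 hx'N.1 (α := conjAut S E ⟨x', hx'N⟩) fun _ => rfl).1 (by rw [h]; exact one_mem _))
    refine no_transvection hS hE hab hexp hcard hirr hF
      (autInducedBy_le_autGroup hES (mem_autInducedBy.2 ⟨x', hx'N.1, fun _ => rfl⟩)) D ?_ ?_ hfix hdisp ht1
    · exact fun h => ht1 (MulEquiv.ext fun a => by
        have := hdisp a
        rw [h, mem_bot, inv_mul_eq_one] at this
        exact this.symm)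
    · exact fun h => ht1 (MulEquiv.ext fun a => hfix a (h.ge (mem_top a)))
  · -- the uniform case
    obtain ⟨hT, hdet⟩ := irreducible_structure hEp hp2 hidx (F.autGroup E) hirr hsrE hF
    let T : Set E := {a | a ^ p = 1}
    have hmap : ∀ a : T, ∃ a' : T, (((a' : E)) : Ω) = g * ((a : E) : Ω) * g⁻¹ := by
      rintro ⟨a, ha⟩
      obtain ⟨-, -, b, rfl⟩ := hT a ha
      have h1 : (g * (b : Ω) * g⁻¹) ^ p ∈ E :=
        pow_mem_of_flag hS hp3 hE hidx (hgN _ (hEN b.2))
      rw [conj_pow] at h1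
      refine ⟨⟨⟨_, h1⟩, ?_⟩, rfl⟩
      refine Subtype.ext ?_
      show (g * (b : Ω) ^ p * g⁻¹) ^ p = 1
      rw [conj_pow]
      have : (((b ^ p) ^ p : E) : Ω) = 1 := congrArg Subtype.val (show (b ^ p) ^ p = 1 from ha)
      rw [SubgroupClass.coe_pow, SubgroupClass.coe_pow] at this
      rw [this, mul_one, mul_inv_cancel]
    choose σ hσ using hmap
    have hσi : Function.Injective σ := fun a b h => by
      have := (hσ a).symm.trans ((congrArg (fun z : T => (((z : E)) : Ω)) h).trans (hσ b))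
      exact Subtype.ext (Subtype.ext (mul_left_cancel (mul_right_cancel this)))
    refine hgx (mem_of_trivial_mod hS hE hx'N (hdet _ fun a ha => ?_))
    obtain ⟨⟨a', ha'⟩, hσa⟩ := (Finite.injective_iff_surjective.1 hσi) ⟨a, ha⟩
    refine Subtype.ext ?_
    show x' * (a : Ω) * x'⁻¹ = a
    have e : (a : Ω) = g * (a' : Ω) * g⁻¹ := by
      rw [← hσ ⟨a', ha'⟩, hσa]
    have hc : x * a' = (a' : Ω) * x :=
      congrArg Subtype.val (mem_center_iff.1 (hT a' ha').2.1 ⟨x, hx⟩)
    rw [e, hx']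
    calc g * x * g⁻¹ * (g * a' * g⁻¹) * (g * x * g⁻¹)⁻¹ = g * (x * a') * x⁻¹ * g⁻¹ := by group
      _ = g * (a' * x) * x⁻¹ * g⁻¹ := by rw [hc]
      _ = g * a' * g⁻¹ := by group

end CfsgLib.Fusion.RankThree
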