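import Cfsg.Agent.Fusion.RankThree.ClassTwo

/-!
A `p`-group of sectional rank at most three with an irreducible group of automorphisms on its
Frattini quotient of order `p ^ 3` is powerful: all layers are images of the top one under the
power maps.
-/

set_option autoImplicit false

open Subgroup
open scoped commutatorElement

namespace CfsgLib.Fusion.RankThree

variable {G : Type*} [Group G] {p : ℕ} [hp : Fact p.Prime]

/-- The lower exponent-`p` central series, starting at the whole group. -/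
def ser (p : ℕ) (G : Type*) [Group G] : ℕ → Subgroup G
  | 0 => ⊤
  | i + 1 => closure ((fun x : G => x ^ p) '' (ser p G i : Set G)) ⊔ ⁅ser p G i, (⊤ : Subgroup G)⁆

omit hp in
theorem ser_invariant : ∀ (i : ℕ) (α : MulAut G), ∀ x ∈ ser p G i, α x ∈ ser p G i
  | 0, _, _, _ => mem_top _
  | i + 1, α, x, hx => by
    have hle : ser p G (i + 1) ≤ (ser p G (i + 1)).comap α.toMonoidHom := by
      refine sup_le ((closure_le _).2 ?_) (commutator_le.2 fun a ha b _ => ?_)
      · rintro _ ⟨a, ha, rfl⟩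
        exact mem_sup_left (subset_closure ⟨α a, ser_invariant i α a ha, (map_pow α a p).symm⟩)
      · show α ⁅a, b⁆ ∈ ser p G (i + 1)
        rw [map_commutatorElement]
        exact mem_sup_right (commutator_mem_commutator (ser_invariant i α a ha) (mem_top _))
    exact hle hx

instance ser_normal (i : ℕ) : (ser p G i).Normal :=
  ⟨fun x hx g => ser_invariant i (MulAut.conj g) x hx⟩

omit hp in
theorem pow_mem_succ {i : ℕ} {a : G} (ha : a ∈ ser p G i) : a ^ p ∈ ser p G (i + 1) :=
  mem_sup_left (subset_closure ⟨a, ha, rfl⟩)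

omit hp in
theorem comm_mem_succ {i : ℕ} {a : G} (ha : a ∈ ser p G i) (b : G) : ⁅a, b⁆ ∈ ser p G (i + 1) :=
  mem_sup_right (commutator_mem_commutator ha (mem_top b))

omit hp in
theorem comm_mem_succ' {i : ℕ} {a : G} (ha : a ∈ ser p G i) (b : G) : ⁅b, a⁆ ∈ ser p G (i + 1) := by
  rw [← commutatorElement_inv a b]
  exact inv_mem (comm_mem_succ ha b)

omit hp in
theorem ser_succ_le (i : ℕ) : ser p G (i + 1) ≤ ser p G i :=
  sup_le ((closure_le _).2 (by rintro _ ⟨a, ha, rfl⟩; exact pow_mem ha p))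
    (commutator_le_left _ _)

theorem ser_one [Finite G] (hG : IsPGroup p G) : ser p G 1 = frattini G := by
  obtain ⟨hc, hpw⟩ := CfsgLib.PGroupBasic.commutator_pow_le_frattini hG
  refine le_antisymm (sup_le ((closure_le _).2 (by rintro _ ⟨a, -, rfl⟩; exact hpw a)) hc) ?_
  refine CfsgLib.PGroupBasic.frattini_le_of_elementary (p := p) _ ?_ fun x => pow_mem_succ (mem_top x)
  exact le_sup_right

theorem mk_comm {i : ℕ} {a : G} (ha : a ∈ ser p G i) (b : G) :
    Commute (QuotientGroup.mk' (ser p G (i + 1)) a) (QuotientGroup.mk' (ser p G (i + 1)) b) := by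
  rw [← commutatorElement_eq_one_iff_commute, ← map_commutatorElement]
  exact (QuotientGroup.eq_one_iff _).2 (comm_mem_succ ha b)

/-- Powers of products modulo the next term. -/
theorem pow_mul_ser (hp2 : p ≠ 2) {j : ℕ} {x y : G} (h : ⁅y, x⁆ ∈ ser p G j) :
    QuotientGroup.mk' (ser p G (j + 1)) ((x * y) ^ p) =
      QuotientGroup.mk' (ser p G (j + 1)) (x ^ p * y ^ p) :=
  mul_pow_mod hp2 _ (comm_mem_succ h x) (comm_mem_succ h y) (pow_mem_succ h)

/-- The power map on a layer. -/
def powHom (hp2 : p ≠ 2) (i : ℕ) : ser p G i →* G ⧸ ser p G (i + 2) :=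
  MonoidHom.mk' (fun a => QuotientGroup.mk' (ser p G (i + 2)) ((a : G) ^ p)) fun a b => by
    rw [← map_mul]
    exact pow_mul_ser hp2 (comm_mem_succ b.2 a.1)

theorem powHom_apply (hp2 : p ≠ 2) {i : ℕ} (a : ser p G i) :
    powHom hp2 i a = QuotientGroup.mk' (ser p G (i + 2)) ((a : G) ^ p) := rfl

theorem pow_congr (hp2 : p ≠ 2) {i : ℕ} {a b : G} (ha : a ∈ ser p G i) (hb : b ∈ ser p G i)
    (h : a⁻¹ * b ∈ ser p G (i + 1)) :
    QuotientGroup.mk' (ser p G (i + 2)) (a ^ p) = QuotientGroup.mk' (ser p G (i + 2)) (b ^ p) := by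
  have h1 : powHom hp2 i ⟨a⁻¹ * b, ser_succ_le i h⟩ = 1 :=
    (QuotientGroup.eq_one_iff _).2 (pow_mem_succ h)
  have h2 : powHom hp2 i ⟨b, hb⟩ = powHom hp2 i ⟨a, ha⟩ * powHom hp2 i ⟨a⁻¹ * b, ser_succ_le i h⟩ := by
    rw [← map_mul]
    exact congrArg _ (Subtype.ext (mul_inv_cancel_left a b).symm)
  rw [h1, mul_one] at h2
  exact h2.symm

/-- The layers are successive images of the power maps once the first one is. -/
theorem powHom_surj (hp2 : p ≠ 2)
    (h0 : ∀ x ∈ ser p G 1, ∃ a : G, QuotientGroup.mk' (ser p G 2) x = QuotientGroup.mk' (ser p G 2) (a ^ p)) :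
    ∀ i, ∀ x ∈ ser p G (i + 1), ∃ a ∈ ser p G i,
      QuotientGroup.mk' (ser p G (i + 2)) x = QuotientGroup.mk' (ser p G (i + 2)) (a ^ p) := by
  intro i
  induction i with
  | zero => exact fun x hx => (h0 x hx).imp fun a ha => ⟨mem_top a, ha⟩
  | succ i ih =>
    set π := QuotientGroup.mk' (ser p G (i + 3)) with hπ
    have hle : ser p G (i + 2) ≤ (powHom (G := G) hp2 (i + 1)).range.comap π := by
      refine sup_le ((closure_le _).2 ?_) (commutator_le.2 fun a ha e _ => ?_)
      · rintro _ ⟨a, ha, rfl⟩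
        exact ⟨⟨a, ha⟩, rfl⟩
      · obtain ⟨b, hb, hab⟩ := ih a ha
        have hr : (b ^ p)⁻¹ * a ∈ ser p G (i + 2) := QuotientGroup.eq.1 hab.symm
        have hbc : b⁻¹ * (e * b * e⁻¹) ∈ ser p G (i + 1) := by
          have e1 : b⁻¹ * (e * b * e⁻¹) = ⁅b⁻¹, e⁆ := by rw [commutatorElement_def]; group
          rw [e1]; exact comm_mem_succ (inv_mem hb) e
        set c := b⁻¹ * (e * b * e⁻¹) with hc
        refine ⟨(⟨c, hbc⟩ : ser p G (i + 1))⁻¹, ?_⟩
        rw [map_inv, powHom_apply]
        show (π (c ^ p))⁻¹ = π ⁅a, e⁆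
        have e2 : π ⁅a, e⁆ = ⁅π (b ^ p), π e⁆ := by
          rw [← mul_inv_cancel_left (b ^ p) a, map_commutatorElement, map_mul, commutatorElement_def,
            commutatorElement_def]
          have hcm : Commute (π ((b ^ p)⁻¹ * a)) (π e) := mk_comm hr e
          generalize π ((b ^ p)⁻¹ * a) = r at hcm ⊢
          generalize π (b ^ p) = s
          generalize π e = t at hcm ⊢
          calc s * r * t * (s * r)⁻¹ * t⁻¹ = s * (r * t) * r⁻¹ * s⁻¹ * t⁻¹ := by group
            _ = s * (t * r) * r⁻¹ * s⁻¹ * t⁻¹ := by rw [hcm.eq]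
            _ = s * t * s⁻¹ * t⁻¹ := by group
        have e3 : π ((e * b * e⁻¹) ^ p) = π (b ^ p) * π (c ^ p) := by
          rw [← map_mul]
          have : e * b * e⁻¹ = b * c := by rw [hc, mul_inv_cancel_left]
          rw [this]
          exact pow_mul_ser hp2 (comm_mem_succ hbc b)
        have hcm : Commute (π (c ^ p)) (π (b ^ p)) := mk_comm (pow_mem_succ hbc) _
        have e4 : π e * π (b ^ p) * (π e)⁻¹ = π (b ^ p) * π (c ^ p) := by
          rw [← e3, conj_pow, map_mul, map_mul, map_inv]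
        rw [e2, commutatorElement_def, show π (b ^ p) * π e * (π (b ^ p))⁻¹ * (π e)⁻¹ =
          π (b ^ p) * (π e * π (b ^ p) * (π e)⁻¹)⁻¹ by group, e4, mul_inv_rev, ← mul_assoc,
          hcm.inv_left.symm.eq, mul_inv_cancel_right]
    intro x hx
    obtain ⟨a, ha⟩ := hle hx
    exact ⟨a, a.2, ha.symm⟩

theorem ser_succ_lt [Finite G] (hG : IsPGroup p G) {i : ℕ} (h : ser p G i ≠ ⊥) :
    ser p G (i + 1) < ser p G i := by
  classical
  obtain ⟨N, hN⟩ := (Set.toFinite {N : Subgroup G | N.Normal ∧ N < ser p G i}).exists_maximal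
    ⟨⊥, inferInstance, bot_lt_iff_ne_bot.2 h⟩
  obtain ⟨hNn, hNlt⟩ := hN.prop
  haveI := hNn
  obtain ⟨y, hy, hyN, hyp, hyc⟩ := exists_step hG N (ser p G i) hNlt
  set π := QuotientGroup.mk' N
  have hker : ∀ {a : G}, a ∈ N ↔ π a = 1 := fun {a} => (QuotientGroup.eq_one_iff a).symm
  -- the preimage of the central subgroup generated by `y`
  have hn : ((zpowers (π y)).comap π).Normal :=
    Normal.comap ⟨fun z hz g => by
      obtain ⟨k, rfl⟩ := mem_zpowers_iff.1 hz
      obtain ⟨g, rfl⟩ := QuotientGroup.mk'_surjective N g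
      have hc : Commute (π y) (π g) := by
        rw [← commutatorElement_eq_one_iff_commute, ← map_commutatorElement]; exact hker.1 (hyc g)
      rw [((hc.zpow_left k).symm).eq, mul_inv_cancel_right]
      exact zpow_mem_zpowers _ k⟩ π
  have hle : (zpowers (π y)).comap π ≤ ser p G i := fun a ha => by
    obtain ⟨k, hk⟩ := mem_zpowers_iff.1 ha
    rw [← map_zpow] at hk
    have h1 := hNlt.le (QuotientGroup.eq.1 hk : (y ^ k)⁻¹ * a ∈ N)
    simpa using mul_mem (zpow_mem hy k) h1
  have hNle : N ≤ (zpowers (π y)).comap π := fun a ha => by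
    show π a ∈ zpowers (π y)
    rw [hker.1 ha]; exact one_mem _
  have heq : (zpowers (π y)).comap π = ser p G i := by
    by_contra hne
    exact hyN (hN.2 ⟨hn, lt_of_le_of_ne hle hne⟩ hNle (mem_zpowers (π y)))
  refine lt_of_le_of_lt ?_ hNlt
  refine sup_le ((closure_le _).2 ?_) (commutator_le.2 fun a ha b _ => ?_)
  · rintro _ ⟨a, ha, rfl⟩
    rw [← heq] at ha
    obtain ⟨k, hk⟩ := mem_zpowers_iff.1 ha
    refine hker.2 ?_
    rw [map_pow, ← hk, ← zpow_natCast, ← zpow_mul, mul_comm, zpow_mul, zpow_natCast, ← map_pow,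
      hker.1 hyp, one_zpow]
  · rw [← heq] at ha
    obtain ⟨k, hk⟩ := mem_zpowers_iff.1 ha
    refine hker.2 ?_
    rw [map_commutatorElement, commutatorElement_eq_one_iff_commute, ← hk]
    refine Commute.zpow_left ?_ k
    rw [← commutatorElement_eq_one_iff_commute, ← map_commutatorElement]
    exact hker.1 (hyc b)

theorem exists_ser_bot [Finite G] (hG : IsPGroup p G) : ∃ n, ser p G n = ⊥ := by
  by_contra h
  push Not at h
  have key : ∀ i, Nat.card (ser p G i) + i ≤ Nat.card G := by
    intro i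
    induction i with
    | zero => rw [add_zero, show ser p G 0 = ⊤ from rfl, Subgroup.card_top]
    | succ i ih =>
      have := CfsgLib.Solvable.card_lt_of_lt (ser_succ_lt hG (h i))
      omega
  have := key (Nat.card G + 1)
  omega

/-- The structure of the irreducible case. -/
theorem irreducible_structure [Finite G] (hG : IsPGroup p G) (hp2 : p ≠ 2)
    (hidx : (frattini G).index = p ^ 3) (A : Subgroup (MulAut G))
    (hirr : ∀ L : Subgroup G, frattini G ≤ L → (∀ α ∈ A, ∀ x ∈ L, α x ∈ L) → L = frattini G ∨ L = ⊤)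
    (hr : Cfsg.SectionalPRankLE p 3 G) (hF : frattini G ≠ ⊥) :
    (∀ a : G, a ^ p = 1 → a ∈ frattini G ∧ a ∈ center G ∧ ∃ b : G, b ^ p = a) ∧
      ∀ α : MulAut G, (∀ a : G, a ^ p = 1 → α a = a) → ∀ x : G, x⁻¹ * α x ∈ frattini G := by
  classical
  have h1 : ser p G 1 = frattini G := ser_one hG
  set π := QuotientGroup.mk' (ser p G 2) with hπdef
  have hker : ∀ {a : G}, a ∈ ser p G 2 ↔ π a = 1 := fun {a} => (QuotientGroup.eq_one_iff a).symm
  have hmulpow : ∀ a b : G, π ((a * b) ^ p) = π (a ^ p) * π (b ^ p) := fun a b => by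
    rw [← map_mul]
    exact pow_mul_ser hp2 (comm_mem_succ (mem_top b : b ∈ ser p G 0) a)
  let φ : G →* G ⧸ ser p G 2 := MonoidHom.mk' (fun a => π (a ^ p)) hmulpow
  have hφinv : ∀ α ∈ A, ∀ x ∈ φ.ker, α x ∈ φ.ker := fun α _ x hx => by
    show π (α x ^ p) = 1
    rw [← map_pow]
    exact hker.1 (ser_invariant 2 α _ (hker.2 hx))
  have hFker : frattini G ≤ φ.ker := by
    rw [← h1]
    exact fun x hx => hker.1 (pow_mem_succ hx)
  have hne21 : ser p G 2 ≠ ser p G 1 :=
    (ser_succ_lt hG (by rw [h1]; exact hF)).ne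
  -- the power map is injective on the Frattini quotient
  have hkerF : φ.ker = frattini G := by
    refine (hirr _ hFker hφinv).resolve_right fun hT => ?_
    have hexp : ∀ w : G ⧸ ser p G 2, w ^ p = 1 := fun w => by
      obtain ⟨a, rfl⟩ := QuotientGroup.mk'_surjective _ w
      exact hT.ge (mem_top a)
    let C : Subgroup G := (center (G ⧸ ser p G 2)).comap π
    have hCinv : ∀ α ∈ A, ∀ x ∈ C, α x ∈ C := fun α _ x hx => by
      refine mem_center_iff.2 fun w => ?_
      obtain ⟨b, rfl⟩ := QuotientGroup.mk'_surjective _ w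
      obtain ⟨b, rfl⟩ := α.surjective b
      have h2 : ⁅b, x⁆ ∈ ser p G 2 := hker.2 (by
        rw [map_commutatorElement, commutatorElement_eq_one_iff_mul_comm]
        exact mem_center_iff.1 hx (π b))
      have h3 := hker.1 (ser_invariant 2 α _ h2)
      rwa [map_commutatorElement, map_commutatorElement, commutatorElement_eq_one_iff_mul_comm] at h3
    have hFC : frattini G ≤ C := by
      rw [← h1]
      intro x hx
      refine mem_center_iff.2 fun w => ?_
      obtain ⟨b, rfl⟩ := QuotientGroup.mk'_surjective _ w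
      exact (mk_comm hx b).symm.eq
    rcases hirr C hFC hCinv with hC | hC
    · refine class_two_false hexp (fun a b => ?_) ?_ fun a hac hind => ?_
      · obtain ⟨a, rfl⟩ := QuotientGroup.mk'_surjective _ a
        obtain ⟨b, rfl⟩ := QuotientGroup.mk'_surjective _ b
        rw [← map_commutatorElement]
        exact (hC.ge (h1 ▸ comm_mem_succ (mem_top a : a ∈ ser p G 0) b) : ⁅a, b⁆ ∈ C)
      · rw [← index_comap_of_surjective _ (QuotientGroup.mk'_surjective (ser p G 2))]
        exact (congrArg Subgroup.index hC).trans hidx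
      · choose b hb using fun i => QuotientGroup.mk'_surjective (ser p G 2) (a i)
        refine rank_contra hr (ser p G 2) b (fun i j => hker.2 ?_) (fun i => hker.2 ?_) fun e he => hind e ?_
        · rw [map_commutatorElement, commutatorElement_eq_one_iff_commute, hb, hb]
          exact hac i j
        · rw [map_pow, hexp]
        · have := hker.1 he
          simp only [map_mul, map_zpow] at this
          simp only [← hb]
          exact this
    · refine hne21 (le_antisymm (ser_succ_le 1) ?_)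
      rw [h1]
      refine CfsgLib.PGroupBasic.frattini_le_of_elementary (p := p) _ ?_ fun x => hker.2 ?_
      · rw [_root_.commutator_def, commutator_le]
        intro a _ b _
        refine hker.2 ?_
        rw [map_commutatorElement, commutatorElement_eq_one_iff_mul_comm]
        exact mem_center_iff.1 (hC.ge (mem_top b) : b ∈ C) (π a)
      · rw [map_pow, hexp]
  -- and surjective
  have hsurj : ∀ x ∈ ser p G 1, ∃ a : G, π x = π (a ^ p) := by
    intro x hx
    by_contra hno
    have hr0 : ∀ {z}, z ∈ φ.range → ∃ a ∈ ser p G 1, π a = z := by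
      rintro _ ⟨a, rfl⟩
      exact ⟨a ^ p, pow_mem_succ (mem_top a), rfl⟩
    have hxr : π x ∉ φ.range := fun ⟨a, ha⟩ => hno ⟨a, ha.symm⟩
    have hcard : Nat.card φ.range = p ^ 3 := by rw [← Subgroup.index_ker, hkerF, hidx]
    have hpz : ∀ {z}, z ∈ φ.range → z ^ p = 1 := fun hz => by
      obtain ⟨a, ha, rfl⟩ := hr0 hz
      rw [← map_pow]; exact hker.1 (pow_mem_succ ha)
    have hcm : ∀ {z}, z ∈ φ.range → ∀ w, Commute z w := fun hz w => by
      obtain ⟨a, ha, rfl⟩ := hr0 hz
      obtain ⟨b, rfl⟩ := QuotientGroup.mk'_surjective _ w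
      exact mk_comm ha b
    have hout : ∀ H : Subgroup (G ⧸ ser p G 2), Nat.card H < p ^ 3 → ∃ z ∈ φ.range, z ∉ H := fun H hH => by
      by_contra h
      push Not at h
      have := Subgroup.card_le_of_le (show φ.range ≤ H from h)
      omega
    obtain ⟨z1, hz1, n1⟩ := hout ⊥ (by rw [Subgroup.card_bot]; exact Nat.one_lt_pow (by norm_num) hp.out.one_lt)
    haveI : (zpowers z1).Normal := ⟨fun z hz g => by
      rw [((hcm (zpowers_le.2 hz1 hz) g).symm).eq, mul_inv_cancel_right]; exact hz⟩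
    have c1 : Nat.card (zpowers z1) ≤ p := by
      rw [Nat.card_zpowers]
      exact Nat.le_of_dvd hp.out.pos (orderOf_dvd_of_pow_eq_one (hpz hz1))
    obtain ⟨z2, hz2, n2⟩ := hout (zpowers z1)
      (lt_of_le_of_lt c1 (lt_self_pow₀ hp.out.one_lt (by norm_num)))
    obtain ⟨z3, hz3, n3⟩ := hout (zpowers z2 ⊔ zpowers z1) (lt_of_le_of_lt
      (CfsgLib.PGroupBasic.card_sup_zpowers_le (p := p) _ _ (by rw [hpz hz2]; exact one_mem _)) (by
        refine lt_of_le_of_lt (Nat.mul_le_mul_left p c1) ?_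
        rw [← pow_two]
        exact Nat.pow_lt_pow_right hp.out.one_lt (by norm_num)))
    obtain ⟨a1, ha1, e1⟩ := hr0 hz1
    obtain ⟨a2, ha2, e2⟩ := hr0 hz2
    obtain ⟨a3, ha3, e3⟩ := hr0 hz3
    have hb : ∀ i, ![a1, a2, a3, x] i ∈ ser p G 1 := by
      intro i; fin_cases i <;> assumption
    have hind := indep_chain (p := p) ![π a1, π a2, π a3, π x] (fun i => by
      fin_cases i <;> simp only [← map_pow] <;> exact hker.1 (pow_mem_succ (by assumption)))
      (show π a1 ≠ 1 by rw [e1]; exact fun h => n1 (mem_bot.2 h))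
      (show π a2 ∉ zpowers (π a1) by rw [e1, e2]; exact n2)
      (show π a3 ∉ zpowers (π a2) ⊔ zpowers (π a1) by rw [e1, e2, e3]; exact n3)
      (show π x ∉ zpowers (π a3) ⊔ (zpowers (π a2) ⊔ zpowers (π a1)) by
        rw [e1, e2, e3]
        exact fun h => hxr (sup_le (zpowers_le.2 hz3) (sup_le (zpowers_le.2 hz2) (zpowers_le.2 hz1)) h))
    refine rank_contra hr (ser p G 2) ![a1, a2, a3, x] (fun i j => comm_mem_succ (hb i) _)
      (fun i => pow_mem_succ (hb i)) fun e he => hind e ?_
    have := hker.1 he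
    simp only [map_mul, map_zpow] at this
    exact this
  have hstep := powHom_surj hp2 hsurj
  -- the composite power maps
  have hI : ∀ i, (∀ a : G, a ^ p ^ i ∈ ser p G i) ∧
      (∀ a b : G, QuotientGroup.mk' (ser p G (i + 1)) ((a * b) ^ p ^ i) =
        QuotientGroup.mk' (ser p G (i + 1)) (a ^ p ^ i * b ^ p ^ i)) ∧
      ∀ x ∈ ser p G i, ∃ a : G,
        QuotientGroup.mk' (ser p G (i + 1)) x = QuotientGroup.mk' (ser p G (i + 1)) (a ^ p ^ i) := by
    intro i
    induction i with
    | zero => exact ⟨fun a => mem_top _, fun a b => by simp, fun x _ => ⟨x, by simp⟩⟩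
    | succ i ih =>
      obtain ⟨hm, hh, hs⟩ := ih
      have e : ∀ a : G, a ^ p ^ (i + 1) = (a ^ p ^ i) ^ p := fun a => by rw [pow_succ, pow_mul]
      refine ⟨fun a => by rw [e]; exact pow_mem_succ (hm a), fun a b => ?_, fun x hx => ?_⟩
      · rw [e, e, e, pow_congr hp2 (hm (a * b)) (mul_mem (hm a) (hm b)) (QuotientGroup.eq.1 (hh a b))]
        exact pow_mul_ser hp2 (comm_mem_succ (hm b) _)
      · obtain ⟨b, hb, hxb⟩ := hstep i x hx
        obtain ⟨a, ha⟩ := hs b hb
        exact ⟨a, by rw [hxb, e, pow_congr hp2 hb (hm a) (QuotientGroup.eq.1 ha)]⟩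
  obtain ⟨n, hn, hnmin⟩ : ∃ n, ser p G (n + 1) = ⊥ ∧ ser p G n ≠ ⊥ := by
    have hex := exists_ser_bot hG
    have h0 : Nat.find hex ≠ 0 := fun h => by
      have h' := Nat.find_spec hex
      rw [h] at h'
      exact hF (le_bot_iff.1 (h' ▸ (le_top : frattini G ≤ ⊤)))
    obtain ⟨n, hn⟩ := Nat.exists_eq_succ_of_ne_zero h0
    exact ⟨n, by have := Nat.find_spec hex; rwa [hn] at this, Nat.find_min hex (by omega)⟩
  have hmono : ∀ {i j : ℕ}, i ≤ j → ser p G j ≤ ser p G i := fun {i j} h => by
    induction h with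
    | refl => exact le_rfl
    | step _ ih => exact (ser_succ_le _).trans ih
  have hne : ∀ i ≤ n, ser p G i ≠ ⊥ := fun i hi hb => hnmin (le_bot_iff.1 (hb ▸ hmono hi))
  -- all composite kernels are the Frattini subgroup
  let Φ : ∀ i, G →* G ⧸ ser p G (i + 1) := fun i =>
    MonoidHom.mk' (fun a => QuotientGroup.mk' (ser p G (i + 1)) (a ^ p ^ i)) fun a b => by
      rw [← map_mul]; exact (hI i).2.1 a b
  have hK : ∀ i ≤ n, ∀ a : G, a ^ p ^ i ∈ ser p G (i + 1) ↔ a ∈ frattini G := by
    intro i hi a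
    have hcm : ∀ u v, Commute (Φ i u) (Φ i v) := fun u v => mk_comm ((hI i).1 u) _
    have hle : frattini G ≤ (Φ i).ker := by
      refine CfsgLib.PGroupBasic.frattini_le_of_elementary (p := p) _ ?_ fun u => ?_
      · rw [_root_.commutator_def, commutator_le]
        intro u _ v _
        show Φ i ⁅u, v⁆ = 1
        rw [map_commutatorElement, commutatorElement_eq_one_iff_commute]
        exact hcm u v
      · show Φ i (u ^ p) = 1
        rw [map_pow]
        show (QuotientGroup.mk' (ser p G (i + 1)) (u ^ p ^ i)) ^ p = 1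
        rw [← map_pow]
        exact (QuotientGroup.eq_one_iff _).2 (pow_mem_succ ((hI i).1 u))
    have hinv : ∀ α ∈ A, ∀ x ∈ (Φ i).ker, α x ∈ (Φ i).ker := fun α _ x hx =>
      (QuotientGroup.eq_one_iff _).2 (by
        rw [← map_pow]; exact ser_invariant (i + 1) α _ ((QuotientGroup.eq_one_iff _).1 hx))
    rcases hirr _ hle hinv with h | h
    · rw [← h]
      exact (QuotientGroup.eq_one_iff _).symm
    · exfalso
      refine (ser_succ_lt hG (hne i hi)).not_ge fun x hx => ?_
      obtain ⟨b, hb⟩ := (hI i).2.2 x hx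
      exact (QuotientGroup.eq_one_iff x).1 (hb.trans (h.ge (mem_top b) : b ∈ (Φ i).ker))
  have hn1 : n ≠ 0 := fun h => by
    subst h
    exact hF (h1 ▸ hn)
  have hlast : ∀ a : G, a ^ p ^ n ^ 1 ∈ ser p G n := fun a => by rw [pow_one]; exact (hI n).1 a
  refine ⟨fun a ha => ?_, fun α hfix x => ?_⟩
  · by_cases ha1 : a = 1
    · subst ha1; exact ⟨one_mem _, one_mem _, 1, one_pow p⟩
    obtain ⟨i, hai, hai'⟩ : ∃ i, a ∈ ser p G i ∧ a ∉ ser p G (i + 1) := by
      by_contra h
      push Not at h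
      have hall : ∀ i, a ∈ ser p G i := fun i => by
        induction i with
        | zero => exact mem_top a
        | succ i ih => exact h i ih
      exact ha1 (mem_bot.1 (hn ▸ hall (n + 1)))
    have hin : i ≤ n := by
      by_contra h
      exact ha1 (mem_bot.1 (hn ▸ hmono (show n + 1 ≤ i by omega) hai))
    obtain ⟨b, hb⟩ := (hI i).2.2 a hai
    have hbF : b ∉ frattini G := fun h => hai' ((QuotientGroup.eq_one_iff a).1
      (hb.trans ((QuotientGroup.eq_one_iff _).2 ((hK i hin b).2 h))))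
    have hi_eq : i = n := by
      by_contra hne'
      refine hbF ((hK (i + 1) (by omega) b).1 ?_)
      rw [pow_succ, pow_mul, ← QuotientGroup.eq_one_iff, ← QuotientGroup.mk'_apply,
        ← pow_congr hp2 hai ((hI i).1 b) (QuotientGroup.eq.1 hb), ha, map_one]
    subst hi_eq
    have hab : a = b ^ p ^ i := by
      have := QuotientGroup.eq.1 hb
      rw [hn, mem_bot] at this
      exact inv_mul_eq_one.1 this
    refine ⟨h1 ▸ hmono (Nat.one_le_iff_ne_zero.2 hn1) hai, mem_center_iff.2 fun g => ?_, ?_⟩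
    · have := comm_mem_succ hai g
      rw [hn, mem_bot, commutatorElement_eq_one_iff_mul_comm] at this
      exact this.symm
    · obtain ⟨m, rfl⟩ := Nat.exists_eq_succ_of_ne_zero hn1
      exact ⟨b ^ p ^ m, by rw [← pow_mul, ← pow_succ, ← hab]⟩
  · refine (hK n le_rfl _).1 ?_
    refine (QuotientGroup.eq_one_iff _).1 ?_
    show Φ n (x⁻¹ * α x) = 1
    rw [map_mul, map_inv, inv_mul_eq_one]
    show QuotientGroup.mk' (ser p G (n + 1)) (x ^ p ^ n) = QuotientGroup.mk' (ser p G (n + 1)) (α x ^ p ^ n)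
    rw [← map_pow α, hfix _ (by
      have := pow_mem_succ (hlast x)
      rw [pow_one, hn, mem_bot] at this
      exact this)]

end CfsgLib.Fusion.RankThree
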