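import Cfsg.Agent.Fusion.RankThree.Split
import Cfsg.Agent.Fusion.RankThree.Layers

/-!
The reducible case inside the essential subgroup, two steps down the series.
-/

set_option autoImplicit false
set_option linter.unusedSectionVars false

open Cfsg Cfsg.FusionSystem Subgroup
open scoped commutatorElement

namespace CfsgLib.Fusion.RankThree

universe u

/-- Commutators of monomials in a group of class two. -/
theorem comm_monomial {W : Type*} [Group W] (hc : ∀ a b : W, ⁅a, b⁆ ∈ center W) (x y w : W)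
    (i j k a b c : ℤ) : ⁅x ^ i * y ^ j * w ^ k, x ^ a * y ^ b * w ^ c⁆ =
      ⁅x, y⁆ ^ (i * b - j * a) * ⁅x, w⁆ ^ (i * c - k * a) * ⁅y, w⁆ ^ (j * c - k * b) := by
  let g : W → W → center W := fun a b => ⟨⁅a, b⁆, hc a b⟩
  have cen : ∀ (a b v : W), v * ⁅a, b⁆ = ⁅a, b⁆ * v := fun a b v => mem_center_iff.1 (hc a b) v
  let _ : CommGroup (center W) :=
    { (inferInstance : Group (center W)) with
      mul_comm := fun u v => Subtype.ext (mem_center_iff.1 v.2 u) }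
  have hl : ∀ a b v, g (a * b) v = g a v * g b v := fun a b v => Subtype.ext <| by
    show ⁅a * b, v⁆ = ⁅a, v⁆ * ⁅b, v⁆
    calc ⁅a * b, v⁆ = a * ⁅b, v⁆ * a⁻¹ * ⁅a, v⁆ := by simp only [commutatorElement_def]; group
      _ = ⁅a, v⁆ * ⁅b, v⁆ := by rw [cen b v a, mul_inv_cancel_right, cen a v]
  have hsw : ∀ a b, g b a = (g a b)⁻¹ := fun a b => Subtype.ext (commutatorElement_inv a b).symm
  have hr : ∀ a b v, g v (a * b) = g v a * g v b := fun a b v => by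
    rw [hsw (a * b) v, hl, mul_inv_rev, ← hsw, ← hsw, mul_comm]
  have hlz : ∀ a v (n : ℤ), g (a ^ n) v = g a v ^ n := fun a v n =>
    map_zpow (MonoidHom.mk' (fun a => g a v) fun a b => hl a b v) a n
  have hrz : ∀ a v (n : ℤ), g v (a ^ n) = g v a ^ n := fun a v n =>
    map_zpow (MonoidHom.mk' (g v) fun a b => hr a b v) a n
  have hs : ∀ a, g a a = 1 := fun a => Subtype.ext (commutatorElement_self a)
  have key : g (x ^ i * y ^ j * w ^ k) (x ^ a * y ^ b * w ^ c) =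
      g x y ^ (i * b - j * a) * g x w ^ (i * c - k * a) * g y w ^ (j * c - k * b) := by
    simp only [hl, hr, hlz, hrz, hs, one_zpow, one_mul, mul_one, hsw x y, hsw x w, hsw y w,
      inv_zpow', mul_zpow, ← zpow_mul, ← zpow_neg, zpow_sub]
    simp only [mul_neg, neg_mul, zpow_neg]
    ac_rfl
  exact congrArg Subtype.val key

variable {Ω : Type u} [Group Ω] {S : Subgroup Ω} [Finite S] {p : ℕ} [hp : Fact p.Prime]
  {F : FusionSystem S}

/-- Two steps down: the powers of the first two generators and the commutators with the third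
vanish, also for the normaliser. -/
theorem middle_full (hS : IsPGroup p S) (hp5 : 5 ≤ p) {E : Subgroup Ω} (hE : F.IsEssential p E)
    (hidx : (frattini E).index = p ^ 3) (hsr : Cfsg.SectionalPRankLE p 3 E) (d : Split F p E) :
    ⁅d.n, d.u⁆ ∈ ser p E 2 ∧ ⁅d.z, d.u⁆ ∈ ser p E 2 ∧ d.n ^ p ∈ ser p E 2 ∧ d.z ^ p ∈ ser p E 2 ∧
      d.u⁻¹ * conjAut S E ⟨d.x, d.hxN⟩ d.u ∈ ser p E 2 := by
  classical
  have hES := hE.1.1
  have := finite_of_le hES
  have hEp := isPGroup_of_le hS hES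
  have hp2 : p ≠ 2 := by omega
  have hpz : Prime (p : ℤ) := Nat.prime_iff_prime_int.1 hp.out
  have h1 : ser p E 1 = frattini E := ser_one hEp
  set K := ser p E 2
  set π : E →* E ⧸ K := QuotientGroup.mk' K
  have hker : ∀ {a : E}, a ∈ K ↔ π a = 1 := fun {a} => (QuotientGroup.eq_one_iff a).symm
  let act : MulAut E → (E ⧸ K →* E ⧸ K) := fun α =>
    QuotientGroup.map K K α.toMonoidHom fun x hx => ser_invariant 2 α x hx
  have hact : ∀ α e, act α (π e) = π (α e) := fun _ _ => rfl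
  have hactmul : ∀ α β w, act (α * β) w = act α (act β w) := fun α β w => by
    induction w using QuotientGroup.induction_on with
    | H e => rfl
  set R := (frattini E).map π with hR
  have hRc : ∀ {r}, r ∈ R → ∀ w, Commute r w := by
    rintro _ ⟨a, ha, rfl⟩ w
    obtain ⟨b, rfl⟩ := QuotientGroup.mk'_surjective K w
    exact mk_comm (h1.ge ha) b
  have hRp : ∀ {r}, r ∈ R → r ^ p = 1 := by
    rintro _ ⟨a, ha, rfl⟩
    rw [← map_pow]
    exact hker.1 (pow_mem_succ (h1.ge ha))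
  have hRmem : ∀ {a}, π a ∈ R → a ∈ frattini E := by
    rintro a ⟨b, hb, e⟩
    have h2 : b⁻¹ * a ∈ frattini E := h1.le (ser_succ_le 1 (QuotientGroup.eq.1 e))
    simpa using mul_mem hb h2
  have hRact : ∀ (α : MulAut E) {r}, r ∈ R → act α r ∈ R := by
    rintro α _ ⟨a, ha, rfl⟩
    exact ⟨α a, frattini_inv α ha, rfl⟩
  have hcm : ∀ a b : E ⧸ K, ⁅a, b⁆ ∈ R := by
    intro a b
    obtain ⟨a, rfl⟩ := QuotientGroup.mk'_surjective K a
    obtain ⟨b, rfl⟩ := QuotientGroup.mk'_surjective K b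
    exact ⟨⁅a, b⁆, (CfsgLib.PGroupBasic.commutator_pow_le_frattini hEp).1
      (commutator_mem_commutator (mem_top a) (mem_top b)), map_commutatorElement π a b⟩
  have hc2 : ∀ a b : E ⧸ K, ⁅a, b⁆ ∈ center (E ⧸ K) := fun a b =>
    mem_center_iff.2 fun w => ((hRc (hcm a b) w).symm).eq
  let P : E ⧸ K →* E ⧸ K := MonoidHom.mk' (fun w => w ^ p) fun a b => by
    obtain ⟨a, rfl⟩ := QuotientGroup.mk'_surjective K a
    obtain ⟨b, rfl⟩ := QuotientGroup.mk'_surjective K b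
    show (π a * π b) ^ p = π a ^ p * π b ^ p
    simp only [← map_mul, ← map_pow]
    rw [map_mul]
    exact pow_mul_ser hp2 (comm_mem_succ (mem_top b : b ∈ ser p E 0) a)
  have hP : ∀ w, P w = w ^ p := fun _ => rfl
  have hPR : ∀ w, w ^ p ∈ R := fun w => by
    obtain ⟨a, rfl⟩ := QuotientGroup.mk'_surjective K w
    exact ⟨a ^ p, (CfsgLib.PGroupBasic.commutator_pow_le_frattini hEp).2 a, map_pow π a p⟩
  -- congruences modulo the Frattini subgroup
  have hcong : ∀ {a b : E}, a⁻¹ * b ∈ frattini E → ∃ r ∈ R, π b = π a * r := fun {a b} h =>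
    ⟨_, ⟨_, h, rfl⟩, by rw [← map_mul, mul_inv_cancel_left]⟩
  have hcr : ∀ {r}, r ∈ R → ∀ a b : E ⧸ K, ⁅a * r, b⁆ = ⁅a, b⁆ ∧ ⁅b, a * r⁆ = ⁅b, a⁆ := by
    intro r hr a b
    have e : ⁅a * r, b⁆ = ⁅a, b⁆ := by
      calc ⁅a * r, b⁆ = a * (r * b) * r⁻¹ * a⁻¹ * b⁻¹ := by simp only [commutatorElement_def]; group
        _ = a * (b * r) * r⁻¹ * a⁻¹ * b⁻¹ := by rw [(hRc hr b).eq]
        _ = ⁅a, b⁆ := by simp only [commutatorElement_def]; group
    exact ⟨e, by rw [← commutatorElement_inv, e, commutatorElement_inv]⟩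
  have hPr : ∀ {r}, r ∈ R → ∀ a, (a * r) ^ p = a ^ p := fun hr a => by
    rw [← hP, map_mul, hP, hP, hRp hr, mul_one]
  obtain ⟨N, hN⟩ : ∃ N, N = π d.n := ⟨_, rfl⟩
  obtain ⟨Z, hZ⟩ : ∃ Z, Z = π d.z := ⟨_, rfl⟩
  obtain ⟨U, hU⟩ : ∃ U, U = π d.u := ⟨_, rfl⟩
  have hmono : ∀ e, ∃ i j k : ℤ, ∃ r ∈ R, π e = N ^ i * Z ^ j * U ^ k * r := fun e => by
    obtain ⟨i, j, k, h⟩ := d.span e
    obtain ⟨r, hr, e'⟩ := hcong h
    exact ⟨i, j, k, r, hr, by simpa only [map_mul, map_zpow, ← hN, ← hZ, ← hU] using e'⟩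
  have hgen : ∀ T : Subgroup (E ⧸ K), ⁅N, Z⁆ ∈ T → ⁅N, U⁆ ∈ T → ⁅Z, U⁆ ∈ T → N ^ p ∈ T → Z ^ p ∈ T →
      U ^ p ∈ T → R ≤ T := by
    intro T t1 t2 t3 t4 t5 t6
    rw [hR, map_le_iff_le_comap, ← h1]
    refine sup_le ((closure_le _).2 ?_) (commutator_le.2 fun a _ b _ => ?_)
    · rintro _ ⟨a, -, rfl⟩
      obtain ⟨i, j, k, r, hr, e⟩ := hmono a
      show π (a ^ p) ∈ T
      rw [map_pow, e, hPr hr, ← hP, map_mul, map_mul, map_zpow, map_zpow, map_zpow]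
      exact mul_mem (mul_mem (zpow_mem t4 i) (zpow_mem t5 j)) (zpow_mem t6 k)
    · obtain ⟨i, j, k, r, hr, e⟩ := hmono a
      obtain ⟨i', j', k', r', hr', e'⟩ := hmono b
      show π ⁅a, b⁆ ∈ T
      rw [map_commutatorElement, e, e', (hcr hr _ _).1, (hcr hr' _ _).2, comm_monomial hc2]
      exact mul_mem (mul_mem (zpow_mem t1 _) (zpow_mem t2 _)) (zpow_mem t3 _)
  -- the torus
  set A := act d.τ
  obtain ⟨ρn, hρn, hAN⟩ : ∃ r ∈ R, A N = N ^ d.ν * r := by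
    obtain ⟨r, hr, e⟩ := hcong d.τ_n
    exact ⟨r, hr, by rw [hN, hact, e, map_zpow]⟩
  obtain ⟨ρz, hρz, hAZ⟩ : ∃ r ∈ R, A Z = Z ^ d.μ * r := by
    obtain ⟨r, hr, e⟩ := hcong d.τ_z
    exact ⟨r, hr, by rw [hZ, hact, e, map_zpow]⟩
  obtain ⟨ρu, hρu, hAU⟩ : ∃ r ∈ R, A U = U * r := by
    obtain ⟨r, hr, e⟩ := hcong d.τ_u
    exact ⟨r, hr, by rw [hU, hact, e]⟩
  have hγp : ⁅N, Z⁆ ^ p = 1 := hRp (hcm _ _)
  have hAγ : A ⁅N, Z⁆ = ⁅N, Z⁆ := by
    rw [map_commutatorElement, hAN, hAZ, (hcr hρn _ _).1, (hcr hρz _ _).2]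
    have h := comm_monomial hc2 N Z U d.ν 0 0 0 d.μ 0
    simp only [zpow_zero, mul_one, one_mul, mul_zero, zero_mul, sub_zero, sub_self, zero_sub] at h
    rw [h, zpow_congr hγp (j := 1) (by rw [mul_comm]; exact d.μν), zpow_one]
  have hAf1 : A ⁅N, U⁆ = ⁅N, U⁆ ^ d.ν := by
    rw [map_commutatorElement, hAN, hAU, (hcr hρn _ _).1, (hcr hρu _ _).2]
    have h := comm_monomial hc2 N Z U d.ν 0 0 0 0 1
    simpa using h
  have hAf0 : A ⁅Z, U⁆ = ⁅Z, U⁆ ^ d.μ := by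
    rw [map_commutatorElement, hAZ, hAU, (hcr hρz _ _).1, (hcr hρu _ _).2]
    have h := comm_monomial hc2 N Z U 0 d.μ 0 0 0 1
    simpa using h
  have hApN : A (N ^ p) = (N ^ p) ^ d.ν := by rw [map_pow, hAN, hPr hρn, ← hP, map_zpow, hP]
  have hApZ : A (Z ^ p) = (Z ^ p) ^ d.μ := by rw [map_pow, hAZ, hPr hρz, ← hP, map_zpow, hP]
  have hApU : A (U ^ p) = U ^ p := by rw [map_pow, hAU, hPr hρu]
  have hμν := d.μν
  have hν1 : ¬ (p : ℤ) ∣ d.ν - 1 := fun h => d.μ1 (by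
    obtain ⟨r, hr⟩ := hμν
    obtain ⟨r', hr'⟩ := h
    exact ⟨r - d.μ * r', by linear_combination hr - d.μ * hr'⟩)
  have hμν' : ¬ (p : ℤ) ∣ d.μ - d.ν := fun h => d.μ2 (by
    obtain ⟨r, hr⟩ := hμν
    obtain ⟨r', hr'⟩ := h
    exact ⟨d.μ * r' + r, by linear_combination d.μ * hr' + hr⟩)
  have hν0 : ∀ {s : E ⧸ K} {i : ℤ}, s ∈ R → A s = s ^ d.ν → ∀ {t}, t ∈ R → A t = t →
      s ^ i * t = 1 → s ^ i = 1 := by
    intro s i hs hAs t ht hAt e
    have e' : s ^ i = t⁻¹ := eq_inv_of_mul_eq_one_left e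
    refine eq_one_of_weights A (i := d.ν) (j := 1) ?_ ?_ (hRp (zpow_mem hs i)) hν1
    · rw [map_zpow, hAs, ← zpow_mul, ← zpow_mul, mul_comm]
    · rw [zpow_one, e', map_inv, hAt]
  -- conjugation by the outer element
  set t := conjAut S E ⟨d.x, d.hxN⟩ with ht
  set C := act t
  have hCN : C N = N * Z := by
    rw [hN, hZ, hact, ← map_mul, d.z_def, mul_inv_cancel_left]
  obtain ⟨r, hr, hCZ⟩ : ∃ r ∈ R, C Z = Z * r := by
    obtain ⟨r, hr, e⟩ := hcong d.x_z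
    exact ⟨r, hr, by rw [hZ, hact, e]⟩
  obtain ⟨δ, hδ, hCU⟩ : ∃ r ∈ R, C U = U * r := by
    obtain ⟨r, hr, e⟩ := hcong d.x_u
    exact ⟨r, hr, by rw [hU, hact, e]⟩
  have hbl : ∀ a b v : E ⧸ K, ⁅a * b, v⁆ = ⁅a, v⁆ * ⁅b, v⁆ := fun a b v => by
    have := comm_monomial hc2 a b v 1 1 0 0 0 1
    simpa using this
  have hCγ : C ⁅N, Z⁆ = ⁅N, Z⁆ := by
    rw [map_commutatorElement, hCN, hCZ, (hcr hr _ _).2, hbl, commutatorElement_self, mul_one]
  have hCf1 : C ⁅N, U⁆ = ⁅N, U⁆ * ⁅Z, U⁆ := by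
    rw [map_commutatorElement, hCN, hCU, (hcr hδ _ _).2, hbl]
  have hCf0 : C ⁅Z, U⁆ = ⁅Z, U⁆ := by
    rw [map_commutatorElement, hCZ, hCU, (hcr hr _ _).1, (hcr hδ _ _).2]
  have hCpN : C (N ^ p) = N ^ p * Z ^ p := by rw [map_pow, hCN, ← hP, map_mul, hP, hP]
  have hCpZ : C (Z ^ p) = Z ^ p := by rw [map_pow, hCZ, hPr hr]
  have hCpU : C (U ^ p) = U ^ p := by rw [map_pow, hCU, hPr hδ]
  have hsq : ∀ {w}, w ∈ R → C (C w) * w = C w * C w := by
    let T : Subgroup (E ⧸ K) :=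
      { carrier := {w | w ∈ R ∧ C (C w) * w = C w * C w}
        one_mem' := ⟨one_mem _, by simp⟩
        mul_mem' := by
          rintro a b ⟨ha, ea⟩ ⟨hb, eb⟩
          refine ⟨mul_mem ha hb, ?_⟩
          rw [map_mul, map_mul, (hRc ha (C (C b))).symm.mul_mul_mul_comm, ea, eb,
            (hRc (hRact t ha) (C b)).mul_mul_mul_comm]
        inv_mem' := by
          rintro a ⟨ha, ea⟩
          refine ⟨inv_mem ha, ?_⟩
          rw [map_inv, map_inv, ← mul_inv_rev, ← mul_inv_rev, (hRc ha _).eq, ea] }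
    have fix' : ∀ {w}, w ∈ R → C w = w → w ∈ T := fun hw e => ⟨hw, by rw [e, e]⟩
    have step : ∀ {w v}, w ∈ R → v ∈ R → C w = w * v → C v = v → w ∈ T := fun {w v} hw hv e e' =>
      ⟨hw, by rw [e, map_mul, e, e', mul_assoc (w * v) v w, (hRc hv w).eq]⟩
    have := hgen T (fix' (hcm _ _) hCγ) (step (hcm _ _) (hcm _ _) hCf1 hCf0) (fix' (hcm _ _) hCf0)
      (step (hPR _) (hPR _) hCpN hCpZ) (fix' (hPR _) hCpZ) (fix' (hPR _) hCpU)
    exact fun {_} hw => (this hw).2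
  obtain ⟨s, hs, hCr⟩ : ∃ s ∈ R, C r = r * s :=
    ⟨r⁻¹ * C r, mul_mem (inv_mem hr) (hRact t hr), (mul_inv_cancel_left _ _).symm⟩
  have hCs : C s = s := by
    have := hsq hr
    rw [hCr, map_mul, hCr, mul_assoc (r * s) (C s) r, mul_left_cancel_iff,
      (hRc (hRact t hs) r).eq] at this
    exact mul_left_cancel this
  have htpow : ∀ k : ℕ, act (t ^ k) N = N * Z ^ k * r ^ k.choose 2 * s ^ k.choose 3 := by
    intro k
    induction k with
    | zero => simpa using (by rw [hN, hact]; rfl : act 1 N = N)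
    | succ k ih =>
      rw [pow_succ', hactmul, ih, map_mul, map_mul, map_mul, map_pow, map_pow, map_pow, hCN, hCZ,
        hCr, hCs, (hRc hr Z).symm.mul_pow, (hRc hr s).mul_pow, Nat.choose_succ_succ k 1,
        Nat.choose_one_right, Nat.choose_succ_succ k 2, pow_succ' Z, pow_add, pow_add]
      simp only [mul_assoc]
  have hxp : d.x ^ p ∈ E := pow_mem_of_flag hS (by omega) hE hidx d.hxN
  have hdvd : ∀ k, k ≠ 0 → k < p → p ∣ p.choose k := fun k hk hkp => hp.out.dvd_choose_self hk hkp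
  have hkill : ∀ {w : E ⧸ K} {k : ℕ}, w ∈ R → p ∣ k → w ^ k = 1 := by
    rintro w k hw ⟨m, rfl⟩
    rw [pow_mul, hRp hw, one_pow]
  have hZp : Z ^ p = 1 := by
    have e1 := htpow p
    rw [hkill hr (hdvd 2 two_ne_zero (by omega)), hkill hs (hdvd 3 (by norm_num) (by omega)), mul_one,
      mul_one, hN, hact] at e1
    have e2 : (t ^ p) d.n = (⟨d.x ^ p, hxp⟩ : E) * d.n * (⟨d.x ^ p, hxp⟩ : E)⁻¹ := by
      rw [ht, ← map_pow]; exact Subtype.ext rfl
    rw [e2, map_mul, map_mul, map_inv] at e1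
    obtain ⟨a, b, c, w, hw, e⟩ := hmono ⟨d.x ^ p, hxp⟩
    rw [← hN] at e1
    have e3 : Z ^ p = ⁅N, Z⁆ ^ (-b) * ⁅N, U⁆ ^ (-c) := by
      have h := comm_monomial hc2 N Z U a b c 1 0 0
      simp only [zpow_one, zpow_zero, mul_one, mul_zero, sub_self, zero_sub] at h
      rw [← h, ← (hcr hw _ _).1, ← e, commutatorElement_def, e1,
        (hRc (hPR Z) N).symm.eq, mul_inv_cancel_right]
    refine weight_split A (hRc (zpow_mem (hcm _ _) _) _) e3 hApZ (j := 1) (k := d.ν) ?_ ?_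
      (hRp (zpow_mem (hcm _ _) _)) (hRp (zpow_mem (hcm _ _) _)) d.μ1 hμν'
    · rw [map_zpow, hAγ, zpow_one]
    · rw [map_zpow, hAf1, ← zpow_mul, ← zpow_mul, mul_comm]
  obtain ⟨α, -, i, j, m, a, b, l, hαz, hαu, hi, hdet⟩ := d.mixing
  obtain ⟨σz, hσz, eZ⟩ : ∃ w ∈ R, act α Z = N ^ i * Z ^ j * U ^ m * w := by
    obtain ⟨w, hw, e⟩ := hcong hαz
    exact ⟨w, hw, by rw [hZ, hact, e, hN, hU]; simp only [map_mul, map_zpow, hZ]⟩
  obtain ⟨σu, hσu, eU⟩ : ∃ w ∈ R, act α U = N ^ a * Z ^ b * U ^ l * w := by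
    obtain ⟨w, hw, e⟩ := hcong hαu
    exact ⟨w, hw, by rw [hU, hact, e, hN, hZ]; simp only [map_mul, map_zpow, hU]⟩
  have hNp : N ^ p = 1 := by
    have e : (N ^ p) ^ i * (U ^ p) ^ m = 1 := by
      have h := congrArg P eZ
      rw [hP, ← map_pow, hZp, map_one, hP, hPr hσz, ← hP, map_mul, map_mul, map_zpow, map_zpow,
        map_zpow, hP, hP, hP, hZp, one_zpow, mul_one] at h
      exact h.symm
    refine eq_one_of_zpow (hRp (hPR N)) hi (hν0 (hPR N) hApN (zpow_mem (hPR U) m) ?_ e)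
    rw [map_zpow, hApU]
  have hf0 : ⁅Z, U⁆ = 1 := by
    by_contra hf0
    have hf1 : ⁅N, U⁆ ≠ 1 := fun h => hf0 (by
      have := hCf1
      rwa [h, map_one, one_mul, eq_comm] at this)
    haveI : (zpowers ⁅N, Z⁆).Normal := ⟨fun v hv g => by
      rw [((hRc (zpowers_le.2 (hcm N Z) hv) g).symm).eq, mul_inv_cancel_right]; exact hv⟩
    refine rank_contra hsr ((zpowers ⁅N, Z⁆).comap π) ![d.n, d.z, ⁅d.n, d.u⁆, ⁅d.z, d.u⁆]
      (fun u v => ?_) (fun u => ?_) fun e he => ?_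
    · have c0 : ∀ {w v : E ⧸ K}, w ∈ R → ⁅w, v⁆ = 1 ∧ ⁅v, w⁆ = 1 := fun hw =>
        ⟨commutatorElement_eq_one_iff_commute.2 (hRc hw _),
          commutatorElement_eq_one_iff_commute.2 (hRc hw _).symm⟩
      show π ⁅_, _⁆ ∈ zpowers ⁅N, Z⁆
      rw [map_commutatorElement]
      fin_cases u <;> fin_cases v <;>
        simp [map_commutatorElement, ← hN, ← hZ, ← hU, (c0 (hcm _ _)).1, (c0 (hcm _ _)).2] <;>
        (rw [← commutatorElement_inv N Z]; exact inv_mem (mem_zpowers _))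
    · show π (_ ^ p) ∈ zpowers ⁅N, Z⁆
      rw [map_pow]
      fin_cases u <;>
        simp [map_commutatorElement, ← hN, ← hZ, ← hU, hNp, hZp, hRp (hcm _ _)]
    · obtain ⟨q, hq⟩ := mem_zpowers_iff.1 (show π _ ∈ zpowers ⁅N, Z⁆ from he)
      simp only [map_mul, map_zpow, Matrix.cons_val_zero, Matrix.cons_val_one, Matrix.cons_val,
        map_commutatorElement, ← hN, ← hZ, ← hU] at hq
      have hNZ : N ^ e 0 * Z ^ e 1 ∈ R := by
        have h2 : N ^ e 0 * Z ^ e 1 * ⁅N, U⁆ ^ e 2 * ⁅Z, U⁆ ^ e 3 ∈ R := hq ▸ zpow_mem (hcm _ _) q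
        exact (Subgroup.mul_mem_cancel_right _ (zpow_mem (hcm _ _) _)).1
          ((Subgroup.mul_mem_cancel_right _ (zpow_mem (hcm _ _) _)).1 h2)
      have h01 := d.indep (e 0) (e 1) 0 (hRmem (by
        simpa only [map_mul, map_zpow, ← hN, ← hZ, zpow_zero, mul_one] using hNZ))
      have hwp : ∀ {x : E ⧸ K}, x ^ p = 1 → ∀ {n : ℤ}, (p : ℤ) ∣ n → x ^ n = 1 := fun {x} hx {n} h => by
        rw [zpow_congr hx (j := 0) (by rwa [sub_zero]), zpow_zero]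
      rw [hwp hNp h01.1, hwp hZp h01.2.1, one_mul, one_mul] at hq
      have hws : ∀ n : ℤ, A (⁅N, U⁆ ^ n) = (⁅N, U⁆ ^ n) ^ d.ν := fun n => by
        rw [map_zpow, hAf1, ← zpow_mul, ← zpow_mul, mul_comm]
      have hwt : ∀ n : ℤ, A (⁅Z, U⁆ ^ n) = (⁅Z, U⁆ ^ n) ^ d.μ := fun n => by
        rw [map_zpow, hAf0, ← zpow_mul, ← zpow_mul, mul_comm]
      have hq1 : ⁅N, Z⁆ ^ q = 1 := weight_split A (hRc (zpow_mem (hcm _ _) _) _) hq
        (by rw [map_zpow, hAγ, zpow_one] : A (⁅N, Z⁆ ^ q) = (⁅N, Z⁆ ^ q) ^ (1 : ℤ)) (hws _) (hwt _)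
        (hRp (zpow_mem (hcm _ _) _)) (hRp (zpow_mem (hcm _ _) _))
        (by rw [← neg_sub, dvd_neg]; exact hν1) (by rw [← neg_sub, dvd_neg]; exact d.μ1)
      rw [hq1] at hq
      have h3 : ⁅Z, U⁆ ^ e 3 = 1 := by
        have e' : ⁅Z, U⁆ ^ e 3 = ⁅N, U⁆ ^ (-e 2) := by
          rw [zpow_neg, eq_inv_iff_mul_eq_one, (hRc (zpow_mem (hcm _ _) _) _).eq, hq]
        refine eq_one_of_weights A (hwt _) ?_ (hRp (zpow_mem (hcm _ _) _)) hμν'
        rw [e']; exact hws _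
      rw [h3, mul_one] at hq
      have dv : ∀ {x : E ⧸ K}, x ^ p = 1 → x ≠ 1 → ∀ {n : ℤ}, x ^ n = 1 → (p : ℤ) ∣ n :=
        fun {x} hx hne {n} h => by_contra fun hn => hne (eq_one_of_zpow hx hn h)
      intro i'
      fin_cases i'
      exacts [h01.1, h01.2.1, dv (hRp (hcm _ _)) hf1 hq.symm, dv (hRp (hcm _ _)) hf0 h3]
  have hf1 : ⁅N, U⁆ = 1 := by
    have h : ⁅act α Z, act α U⁆ = 1 := by rw [← map_commutatorElement, hf0, map_one]
    rw [eZ, eU, (hcr hσz _ _).1, (hcr hσu _ _).2, comm_monomial hc2, hf0, one_zpow, mul_one,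
      (hRc (zpow_mem (hcm N Z) _) _).eq] at h
    refine eq_one_of_zpow (hRp (hcm N U)) hdet (hν0 (hcm N U) hAf1 (zpow_mem (hcm N Z) _) ?_ h)
    rw [map_zpow, hAγ]
  have hfixC : ∀ {w}, w ∈ R → C w = w := fun hw => by
    refine hgen (C.eqLocus (MonoidHom.id _)) hCγ ?_ hCf0 ?_ hCpZ hCpU hw
    · show C _ = _
      rw [hf1, map_one]; rfl
    · show C _ = _
      rw [hNp, map_one]; rfl
  have hfixA : ∀ {w}, w ∈ R → A w = w := fun hw => by
    refine hgen (A.eqLocus (MonoidHom.id _)) hAγ ?_ ?_ ?_ ?_ hApU hw <;> show A _ = _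
    · rw [hf1, map_one]; rfl
    · rw [hf0, map_one]; rfl
    · rw [hNp, map_one]; rfl
    · rw [hZp, map_one]; rfl
  have hUc : ∀ w, Commute w U := fun w => by
    obtain ⟨e, rfl⟩ := QuotientGroup.mk'_surjective K w
    obtain ⟨a, b, c, v, hv, e'⟩ := hmono e
    rw [← commutatorElement_eq_one_iff_commute, e', (hcr hv _ _).1]
    have h := comm_monomial hc2 N Z U a b c 0 0 1
    simp only [zpow_one, zpow_zero, one_mul, hf1, hf0, one_zpow, mul_one, mul_zero, sub_self] at h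
    exact h
  have hpowU : ∀ k : ℕ, act (t ^ k) U = U * δ ^ k := by
    intro k
    induction k with
    | zero => rw [pow_zero, pow_zero, mul_one, hU]; rfl
    | succ k ih => rw [pow_succ', hactmul, ih, map_mul, map_pow, hfixC hδ, hCU, pow_succ', mul_assoc]
  refine ⟨hker.2 (by rw [map_commutatorElement, ← hN, ← hU]; exact hf1),
    hker.2 (by rw [map_commutatorElement, ← hZ, ← hU]; exact hf0),
    hker.2 (by rw [map_pow, ← hN]; exact hNp), hker.2 (by rw [map_pow, ← hZ]; exact hZp), hker.2 ?_⟩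
  obtain ⟨h, hh, hhE, hhcj⟩ := d.τ_x
  obtain ⟨k, hk⟩ : ∃ k : ℕ, (p : ℤ) ∣ d.μ ^ 2 - k := ⟨((d.μ ^ 2) % p).toNat, by
    rw [Int.toNat_of_nonneg (Int.emod_nonneg _ (by exact_mod_cast hp.out.ne_zero))]
    exact Int.dvd_self_sub_emod⟩
  have he : h * d.x ^ (-(k : ℤ)) ∈ E := by
    obtain ⟨q, hq⟩ := hk
    rw [show -(k : ℤ) = -d.μ ^ 2 + p * q by omega, zpow_add, ← mul_assoc, zpow_mul, zpow_natCast]
    exact mul_mem hhE (zpow_mem hxp q)
  have hsplit : conjAut S E ⟨h, hh⟩ =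
      conjAut S E ⟨_, le_normalizerIn hES he⟩ * t ^ k := by
    rw [ht, ← map_pow, ← map_mul]
    exact congrArg _ (Subtype.ext (by simp [zpow_neg]))
  have e1 := congrArg (fun γ => act γ U) hhcj
  rw [← ht, hactmul, hactmul, hCU, map_mul, hfixA hδ, hAU, hsplit, hactmul, map_mul (act (t ^ k)),
    hpowU] at e1
  have hfixk : ∀ {w}, w ∈ R → ∀ k : ℕ, act (t ^ k) w = w := fun {w} hw k => by
    induction k with
    | zero => obtain ⟨a, -, rfl⟩ := hw; rfl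
    | succ k ih => rw [pow_succ', hactmul, ih, hfixC hw]
  rw [hfixk hρu] at e1
  have hinner : ∀ w, (∀ v, Commute v w) → act (conjAut S E ⟨_, le_normalizerIn hES he⟩) w = w := by
    intro w hw
    obtain ⟨b, rfl⟩ := QuotientGroup.mk'_surjective K w
    rw [hact, show conjAut S E ⟨_, le_normalizerIn hES he⟩ b = ⟨_, he⟩ * b * ⟨_, he⟩⁻¹ from
      Subtype.ext rfl, map_mul, map_mul, map_inv, (hw (π ⟨_, he⟩)).eq, mul_inv_cancel_right]
  rw [map_mul, map_mul, hinner U hUc, hinner ρu (fun v => (hRc hρu v).symm),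
    hinner (δ ^ k) (fun v => (hRc (pow_mem hδ k) v).symm), mul_assoc U ρu δ, (hRc hρu δ).eq,
    mul_assoc U _ ρu, mul_left_cancel_iff, mul_right_cancel_iff] at e1
  have hδ1 : δ = 1 := by
    refine eq_one_of_zpow (hRp hδ) (i := (k : ℤ) - 1) (fun h => d.μ2 ?_) ?_
    · simpa [sub_add_sub_cancel] using dvd_add hk h
    · rw [zpow_sub, zpow_natCast, ← e1, zpow_one, mul_inv_cancel]
  rw [map_mul, map_inv, ← hU, inv_mul_eq_one, ← hact, ← hU]
  rw [show act t = C from rfl, hCU, hδ1, mul_one]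

/-- The third generator is central two steps down, also for the normaliser. -/
theorem middle (hS : IsPGroup p S) (hp5 : 5 ≤ p) {E : Subgroup Ω} (hE : F.IsEssential p E)
    (hidx : (frattini E).index = p ^ 3) (hsr : Cfsg.SectionalPRankLE p 3 E) (d : Split F p E) :
    ⁅d.n, d.u⁆ ∈ ser p E 2 ∧ d.u⁻¹ * conjAut S E ⟨d.x, d.hxN⟩ d.u ∈ ser p E 2 :=
  ⟨(middle_full hS hp5 hE hidx hsr d).1, (middle_full hS hp5 hE hidx hsr d).2.2.2.2⟩

end CfsgLib.Fusion.RankThree
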