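import Cfsg.Agent.Fusion.RankThree.Pure

/-!
The normaliser of the essential subgroup modulo the Frattini subgroup of the essential subgroup.
-/

set_option autoImplicit false
set_option linter.unusedSectionVars false

open Cfsg Cfsg.FusionSystem Subgroup
open scoped commutatorElement

namespace CfsgLib.Fusion.RankThree

universe u

theorem ser_map_le {p : ℕ} {G H : Type*} [Group G] [Group H] (f : G →* H) :
    ∀ i, (ser p G i).map f ≤ ser p H i
  | 0 => le_top
  | i + 1 => by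
    rw [map_le_iff_le_comap]
    refine sup_le ((closure_le _).2 ?_) (commutator_le.2 fun a ha b _ => ?_)
    · rintro _ ⟨a, ha, rfl⟩
      show f (a ^ p) ∈ ser p H (i + 1)
      rw [map_pow]
      exact mem_sup_left (subset_closure ⟨f a, ser_map_le f i ⟨a, ha, rfl⟩, rfl⟩)
    · show f ⁅a, b⁆ ∈ ser p H (i + 1)
      rw [map_commutatorElement]
      exact mem_sup_right (commutator_mem_commutator (ser_map_le f i ⟨a, ha, rfl⟩) (mem_top _))

variable {p : ℕ} [hp : Fact p.Prime]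

/-- Changing the first generator. -/
theorem Frame.shift {Q : Type*} [Group Q] {X A Z U : Q} (fr : Frame p X A Z U) (t : ℤ) :
    Frame p (X * A ^ t) A Z U := by
  refine ⟨fr.cZ, fr.cU, ?_, fr.exp, fun q => ?_, fun i j k l e => ?_⟩
  · have h := fr.comm_eq 1 t 0 1 (one_mem _) (one_mem (center Q))
    simpa using h
  · obtain ⟨i, j, c, hc, e, hq⟩ := fr.exists_form q
    obtain ⟨k, l, h⟩ := fr.center_form (q := ((X * A ^ t) ^ i * A ^ (j - t * i))⁻¹ * q)
      (fr.center_of_chi (by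
        rw [fr.chi_mul, ← zpow_neg_one, fr.chi_zpow, fr.chi_mul, fr.chi_zpow, fr.chi_mul,
          fr.chi_zpow, fr.chi_zpow, fr.chi_X, fr.chi_A, hq]
        refine Prod.ext ?_ ?_ <;> simp <;> ring))
    exact ⟨i, j - t * i, k, l, by rw [← h, mul_inv_cancel_left]⟩
  · have h := congrArg fr.chi e
    rw [fr.chi_mul, fr.chi_mul, fr.chi_zpow, fr.chi_zpow, fr.chi_mul, fr.chi_zpow,
      fr.chi_center (fr.zu_mem k l), fr.chi_X, fr.chi_A, fr.chi_one] at h
    simp [Prod.ext_iff] at h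
    obtain ⟨h1, h2⟩ := h
    rw [h1, zero_mul, zero_add] at h2
    rw [ZMod.intCast_zmod_eq_zero_iff_dvd] at h1 h2
    rw [fr.pow_p_eq (y := X * A ^ t) (i := i) (j := 0) (by rwa [sub_zero]),
      fr.pow_p_eq (y := A) (i := j) (j := 0) (by rwa [sub_zero]), zpow_zero, zpow_zero, one_mul,
      one_mul] at e
    have h3 := fr.indep 0 0 k l (by simpa using e)
    exact ⟨h1, h2, h3.2.2⟩

variable {Ω : Type u} [Group Ω] {S : Subgroup Ω} [Finite S] {F : FusionSystem S}

/-- The frame on the normaliser, with an extension of the torus, and where it comes from. -/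
theorem norm_frame_full (hS : IsPGroup p S) (hF : F.IsSaturated p) (hp5 : 5 ≤ p) {E : Subgroup Ω}
    (hE : F.IsEssential p E) (hidx : (frattini E).index = p ^ 3)
    (hsr : Cfsg.SectionalPRankLE p 3 E) (d : Split F p E) :
    ∃ (Fr : Subgroup (normalizerIn S E)) (_ : Fr.Normal) (X A Z U : normalizerIn S E ⧸ Fr)
      (bar : MulAut (normalizerIn S E) →* MulAut (normalizerIn S E ⧸ Fr))
      (τ : MulAut (normalizerIn S E)) (fr : Frame p X A Z U),
      (Fr = (frattini E).map (Subgroup.inclusion (le_normalizerIn hE.1.1)) ∧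
        Z = QuotientGroup.mk' Fr (Subgroup.inclusion (le_normalizerIn hE.1.1) d.z) ∧
        U = QuotientGroup.mk' Fr (Subgroup.inclusion (le_normalizerIn hE.1.1) d.u) ∧
        ∀ a, τ (Subgroup.inclusion (le_normalizerIn hE.1.1) a) =
          Subgroup.inclusion (le_normalizerIn hE.1.1) (d.τ a)) ∧
      Fr ≤ frattini (normalizerIn S E) ∧
      (∀ (α : MulAut (normalizerIn S E)) (g : normalizerIn S E),
        bar α (QuotientGroup.mk' Fr g) = QuotientGroup.mk' Fr (α g)) ∧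
      (∀ g : normalizerIn S E, (g : Ω) ∈ E ↔ (fr.chi (QuotientGroup.mk' Fr g)).1 = 0) ∧
      τ ∈ F.autGroup (normalizerIn S E) ∧
      fr.chi (bar τ X) = (((d.μ ^ 2 : ℤ) : ZMod p), 0) ∧
      fr.chi (bar τ A) = (0, ((d.ν : ℤ) : ZMod p)) ∧ bar τ Z = Z ^ d.μ ∧ bar τ U = U := by
  classical
  obtain ⟨hnu, hux⟩ := middle hS hp5 hE hidx hsr d
  have hES := hE.1.1
  set N := normalizerIn S E with hN
  have hEN : E ≤ N := le_normalizerIn hES
  have hNS : N ≤ S := normalizerIn_le_S E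
  have := finite_of_le hES
  have := finite_of_le hNS
  have hEp := isPGroup_of_le hS hES
  have hNp := isPGroup_of_le hS hNS
  have hp2 : p ≠ 2 := by omega
  have hpz : Prime (p : ℤ) := Nat.prime_iff_prime_int.1 hp.out
  obtain ⟨hcm, hpw⟩ := CfsgLib.PGroupBasic.commutator_pow_le_frattini hEp
  let ι : E →* N := Subgroup.inclusion hEN
  have hι : Function.Injective ι := Subgroup.inclusion_injective hEN
  have hιE : ∀ {g : N}, (g : Ω) ∈ E → ∃ a, ι a = g := fun {g} hg => ⟨⟨g, hg⟩, rfl⟩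
  have hact : ∀ (g : N) (a : E), g * ι a * g⁻¹ = ι (conjAut S E g a) := fun g a => Subtype.ext rfl
  obtain ⟨Fr, hFr⟩ : ∃ Fr, Fr = (frattini E).map ι := ⟨_, rfl⟩
  have hFrn : Fr.Normal := ⟨fun y hy g => by
    rw [hFr] at hy ⊢
    obtain ⟨a, ha, rfl⟩ := hy
    exact ⟨_, frattini_inv (conjAut S E g) ha, (hact g a).symm⟩⟩
  set π := QuotientGroup.mk' Fr
  have hker : ∀ {g : N}, g ∈ Fr ↔ π g = 1 := fun {g} => (QuotientGroup.eq_one_iff g).symm
  have hπι : ∀ {a b : E}, π (ι a) = π (ι b) ↔ a⁻¹ * b ∈ frattini E := fun {a b} => by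
    rw [QuotientGroup.mk'_apply, QuotientGroup.mk'_apply, QuotientGroup.eq, ← map_inv, ← map_mul,
      hFr, Subgroup.mem_map_iff_mem hι]
  have hπ1 : ∀ {a : E}, π (ι a) = 1 ↔ a ∈ frattini E := fun {a} => by
    rw [← map_one π, ← map_one ι, eq_comm, hπι, inv_one, one_mul]
  have hEc : ∀ a b : E, Commute (π (ι a)) (π (ι b)) := fun a b => by
    rw [← commutatorElement_eq_one_iff_commute, ← map_commutatorElement, ← map_commutatorElement,
      hπ1]
    exact hcm (commutator_mem_commutator (mem_top a) (mem_top b))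
  have hEe : ∀ a : E, π (ι a) ^ p = 1 := fun a => by
    rw [← map_pow, ← map_pow, hπ1]; exact hpw a
  obtain ⟨x₀, hx₀⟩ : ∃ x₀ : N, x₀ = ⟨d.x, d.hxN⟩ := ⟨_, rfl⟩
  have hactx : ∀ a : E, ι (conjAut S E ⟨d.x, d.hxN⟩ a) = x₀ * ι a * x₀⁻¹ := fun a => by
    rw [hx₀]; exact Subtype.ext rfl
  obtain ⟨X₀, hX₀⟩ : ∃ X₀, X₀ = π x₀ := ⟨_, rfl⟩
  obtain ⟨A, hA⟩ : ∃ A, A = π (ι d.n) := ⟨_, rfl⟩
  obtain ⟨Z, hZ⟩ : ∃ Z, Z = π (ι d.z) := ⟨_, rfl⟩
  obtain ⟨U, hU⟩ : ∃ U, U = π (ι d.u) := ⟨_, rfl⟩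
  have hconj : ∀ a, X₀ * π (ι a) * X₀⁻¹ = π (ι (conjAut S E ⟨d.x, d.hxN⟩ a)) := fun a => by
    rw [hX₀, ← map_mul, ← map_inv, ← map_mul, hactx]
  have hXA : X₀ * A * X₀⁻¹ = A * Z := by
    rw [hA, hZ, hconj, ← map_mul π, ← map_mul ι, d.z_def, mul_inv_cancel_left]
  have hXZ : Commute X₀ Z := mul_inv_eq_iff_eq_mul.1 (by
    rw [hZ, hconj, eq_comm, hπι]; exact d.x_z)
  have hXU : Commute X₀ U := mul_inv_eq_iff_eq_mul.1 (by
    rw [hU, hconj, eq_comm, hπι]; exact d.x_u)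
  have hEform : ∀ a : E, ∃ i j k : ℤ, π (ι a) = A ^ i * (Z ^ j * U ^ k) := fun a => by
    obtain ⟨i, j, k, h⟩ := d.span a
    refine ⟨i, j, k, ?_⟩
    rw [← mul_assoc, hA, hZ, hU, ← (hπι.2 h)]
    simp only [map_mul, map_zpow]
  have hform : ∀ q, ∃ (i : ℤ) (a : E), q = X₀ ^ i * π (ι a) := fun q => by
    obtain ⟨g, rfl⟩ := QuotientGroup.mk'_surjective Fr q
    obtain ⟨i, hi⟩ := d.cover _ (inv_mem g.2)
    obtain ⟨a, ha⟩ := hιE (g := g⁻¹ * x₀ ^ (-i)) (by rw [hx₀]; exact hi)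
    refine ⟨-i, a⁻¹, ?_⟩
    rw [hX₀, ← map_zpow, map_inv ι, ha, ← map_mul π]
    congr 1
    group
  have hcZU : Z ∈ Subgroup.center (N ⧸ Fr) ∧ U ∈ Subgroup.center (N ⧸ Fr) := by
    constructor <;> refine mem_center_iff.2 fun q => ?_ <;> obtain ⟨i, a, rfl⟩ := hform q
    · exact ((hXZ.zpow_left i).mul_left (by rw [hZ]; exact hEc a d.z)).eq
    · exact ((hXU.zpow_left i).mul_left (by rw [hU]; exact hEc a d.u)).eq
  obtain ⟨hcZ, hcU⟩ := hcZU
  have hcomm : ⁅X₀, A⁆ = Z := by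
    rw [commutatorElement_def, hXA, ((mem_center_iff.1 hcZ A)), mul_inv_cancel_right]
  -- commutators are central
  have hcl : ∀ (i : ℤ) (a : E), ⁅π (ι a), X₀ ^ i⁆ ∈ Subgroup.center (N ⧸ Fr) := by
    intro i a
    set μ₂ := QuotientGroup.mk' (Subgroup.center (N ⧸ Fr))
    obtain ⟨s, j, k, e⟩ := hEform a
    rw [← QuotientGroup.eq_one_iff, ← QuotientGroup.mk'_apply, map_commutatorElement,
      commutatorElement_eq_one_iff_commute, e, map_mul,
      show μ₂ (Z ^ j * U ^ k) = 1 from (QuotientGroup.eq_one_iff _).2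
        (mul_mem (zpow_mem hcZ j) (zpow_mem hcU k)), mul_one, map_zpow, map_zpow]
    refine Commute.zpow_zpow ?_ _ _
    refine Commute.symm ?_
    rw [← commutatorElement_eq_one_iff_commute, ← map_commutatorElement, hcomm]
    exact (QuotientGroup.eq_one_iff _).2 hcZ
  have hpowmul : ∀ (i : ℤ) (a : E), (X₀ ^ i * π (ι a)) ^ p = (X₀ ^ p) ^ i := by
    intro i a
    have hz := hcl i a
    have hze : ⁅π (ι a), X₀ ^ i⁆ ^ p = 1 := by
      have e : ⁅π (ι a), X₀ ^ i⁆ = π (ι (a * conjAut S E (x₀ ^ i) a⁻¹)) := by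
        rw [map_mul ι, ← hact, map_mul π, map_mul π, map_mul π, map_inv π, map_inv ι, map_inv π,
          map_zpow π, ← hX₀, commutatorElement_def]
        simp only [mul_assoc]
      rw [e]; exact hEe _
    rw [CfsgLib.ZJ.mul_pow_of_central (z := ⁅π (ι a), X₀ ^ i⁆)
      (by rw [commutatorElement_def]; group) ((mem_center_iff.1 hz _).symm)
      ((mem_center_iff.1 hz _).symm) p]
    obtain ⟨m, hm⟩ := hp.out.dvd_choose_self two_ne_zero (show 2 < p by omega)
    rw [hm, pow_mul, hze, one_pow, one_mul, hEe, mul_one, ← zpow_natCast, ← zpow_mul, mul_comm,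
      zpow_mul, zpow_natCast]
  -- the extension of the torus
  obtain ⟨τ, hτ, hτι⟩ : ∃ τ : MulAut N, τ ∈ F.autGroup N ∧ ∀ a, τ (ι a) = ι (d.τ a) := by
    have hθ := (autGroup_carrier hES).1 d.hτ
    have hθr : (E.subtype.comp d.τ.toMonoidHom).range = E := range_subtype_comp _
    have hext : N ≤ extender S E (E.subtype.comp d.τ.toMonoidHom) := by
      intro g hg
      obtain ⟨k, hk, hk'⟩ := mem_autInducedBy.1 (d.τ_norm (conjAut S E ⟨g, hg⟩)
        (mem_autInducedBy.2 ⟨g, hg.1, fun _ => rfl⟩))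
      refine mem_extender_of hg hk fun x hx => ?_
      refine Eq.trans ?_ (hk' (d.τ x))
      show ((d.τ ⟨g * x * g⁻¹, hx⟩ : E) : Ω) = _
      rw [MulAut.mul_apply, MulAut.mul_apply, MulAut.inv_apply_self]
      rfl
    obtain ⟨ψ, hψ, hψe⟩ := receptive_extend (good_of_fullyNormalized p hS hF hE.2.1).2 hθ hθr hext
    have hψE : (E.subgroupOf N).map ψ = E := (map_eq_range_of_eq hEN hψe).trans hθr
    have hψr : ψ.range = N := by
      refine eq_of_le_of_card_le hNS ?_ (card_range hψ).ge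
      rintro _ ⟨y, rfl⟩
      have := map_mem_normalizerIn hψ hEN y.2 y.2
      rwa [hψE] at this
    exact ⟨autOfRange ψ (F.injective_of_mem hψ) hψr, autOfRange_mem hψ hψr, fun a =>
      Subtype.ext (hψe a a.2 (hEN a.2))⟩
  have hτFr : ∀ y ∈ Fr, τ y ∈ Fr := by
    rw [hFr]
    rintro _ ⟨a, ha, rfl⟩
    exact ⟨_, frattini_inv d.τ ha, (hτι a).symm⟩
  set T := QuotientGroup.map Fr Fr τ.toMonoidHom hτFr
  have hT : ∀ g, T (π g) = π (τ g) := fun _ => rfl
  obtain ⟨hμν, hμ1⟩ := And.intro d.μν d.μ1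
  have hTA : T A = A ^ d.ν := by
    rw [hA, hT, hτι, ← map_zpow π, ← map_zpow ι, eq_comm, hπι]; exact d.τ_n
  have hTZ : T Z = Z ^ d.μ := by
    rw [hZ, hT, hτι, ← map_zpow π, ← map_zpow ι, eq_comm, hπι]; exact d.τ_z
  have hTU : T U = U := by
    rw [hU, hT, hτι, eq_comm, hπι]; exact d.τ_u
  obtain ⟨w, hTX⟩ : ∃ w : E, T X₀ = X₀ ^ (d.μ ^ 2) * π (ι w) := by
    obtain ⟨h, hh, hhE, hhcj⟩ := d.τ_x
    obtain ⟨e₁, he₁⟩ := hιE (g := ⟨h, hh⟩ * x₀ ^ (-d.μ ^ 2)) (by rw [hx₀]; exact hhE)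
    have hcen : ((⟨h, hh⟩ : N)⁻¹ * τ x₀ : Ω) ∈ E := by
      refine centralizer_mem_of_centric hE.1 (hNS ((⟨h, hh⟩ : N)⁻¹ * τ x₀).2) fun y hy => ?_
      obtain ⟨a, ha⟩ := d.τ.surjective ⟨y, hy⟩
      have h1 : τ x₀ * ι (d.τ a) * (τ x₀)⁻¹ = ι (d.τ (conjAut S E ⟨d.x, d.hxN⟩ a)) := by
        rw [← hτι, ← hτι, ← map_mul, ← map_inv, ← map_mul, hactx]
      have h2 : ι (d.τ (conjAut S E ⟨d.x, d.hxN⟩ a)) = (⟨h, hh⟩ : N) * ι (d.τ a) * (⟨h, hh⟩ : N)⁻¹ := by
        rw [← MulAut.mul_apply, hhcj, MulAut.mul_apply]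
        exact (hact ⟨h, hh⟩ (d.τ a)).symm
      rw [h2, ha] at h1
      have h3 : ((τ x₀ : N) : Ω) * y * ((τ x₀ : N) : Ω)⁻¹ = h * y * h⁻¹ :=
        congrArg (fun g : N => (g : Ω)) h1
      show y * (h⁻¹ * ((τ x₀ : N) : Ω)) = h⁻¹ * ((τ x₀ : N) : Ω) * y
      generalize ((τ x₀ : N) : Ω) = c at h3 ⊢
      calc y * (h⁻¹ * c) = h⁻¹ * (h * y * h⁻¹) * c := by group
        _ = h⁻¹ * (c * y * c⁻¹) * c := by rw [h3]
        _ = h⁻¹ * c * y := by group
    obtain ⟨e₂, he₂⟩ := hιE (g := (⟨h, hh⟩ : N)⁻¹ * τ x₀) hcen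
    refine ⟨conjAut S E (x₀ ^ (-d.μ ^ 2)) e₁ * e₂, ?_⟩
    rw [map_mul ι, ← hact, he₂, he₁, hX₀, hT, ← map_zpow, ← map_mul π]
    congr 1
    group
  have hXp : X₀ ^ p = 1 := by
    obtain ⟨e, he⟩ := hιE (g := x₀ ^ p) (by
      rw [hx₀]; exact pow_mem_of_flag hS (by omega) hE hidx d.hxN)
    obtain ⟨a, b, c, hform'⟩ := hEform e
    have hXpe : X₀ ^ p = A ^ a * (Z ^ b * U ^ c) := by rw [hX₀, ← map_pow, ← he, hform']
    have hind : ∀ i j k : ℤ, A ^ i * (Z ^ j * U ^ k) = 1 →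
        (p : ℤ) ∣ i ∧ (p : ℤ) ∣ j ∧ (p : ℤ) ∣ k := fun i j k e => d.indep i j k (hπ1.1 (by
      simp only [map_mul, map_zpow, ← hA, ← hZ, ← hU, mul_assoc]; exact e))
    have hwp : ∀ {y}, y ^ p = 1 → ∀ {n : ℤ}, (p : ℤ) ∣ n → y ^ n = (1 : N ⧸ Fr) := fun {y} hy {n} h => by
      rw [zpow_congr hy (j := 0) (by rwa [sub_zero]), zpow_zero]
    have hAp : A ^ p = 1 := hA ▸ hEe _
    have hZp : Z ^ p = 1 := hZ ▸ hEe _
    have hUp : U ^ p = 1 := hU ▸ hEe _
    have ha : (p : ℤ) ∣ a := by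
      have h1 : X₀ * (X₀ ^ p) * X₀⁻¹ = X₀ ^ p := by group
      rw [hXpe] at h1
      have hzu := mem_center_iff.1 (mul_mem (zpow_mem hcZ b) (zpow_mem hcU c))
      have h2 : X₀ * (A ^ a * (Z ^ b * U ^ c)) * X₀⁻¹ =
          (X₀ * A * X₀⁻¹) ^ a * (Z ^ b * U ^ c) := by
        rw [conj_zpow]
        generalize Z ^ b * U ^ c = W at hzu ⊢
        rw [mul_assoc (X₀ * A ^ a), hzu X₀⁻¹]
        group
      have hcAZ : Commute A Z := mem_center_iff.1 hcZ A
      rw [h2, hXA, hcAZ.mul_zpow, mul_left_inj] at h1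
      exact (hind 0 a 0 (by
        rw [zpow_zero, zpow_zero, one_mul, mul_one]
        exact left_eq_mul.1 h1.symm)).2.1
    rw [hwp hAp ha, one_mul] at hXpe
    have h3 : T (X₀ ^ p) = (X₀ ^ p) ^ (d.μ ^ 2) := by rw [map_pow, hTX, hpowmul]
    have hzc : Commute Z U := (mem_center_iff.1 hcU Z)
    rw [hXpe, map_mul, map_zpow, map_zpow, hTZ, hTU, (hzc.zpow_zpow b c).mul_zpow, ← zpow_mul,
      ← zpow_mul, ← zpow_mul] at h3
    obtain ⟨-, hb, hc⟩ := hind 0 (d.μ * b - b * d.μ ^ 2) (c - c * d.μ ^ 2) (by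
      rw [zpow_zero, one_mul, zpow_sub, zpow_sub, mul_assoc,
        ← (mem_center_iff.1 (inv_mem (zpow_mem hcZ (b * d.μ ^ 2))) (U ^ c * (U ^ (c * d.μ ^ 2))⁻¹)),
        ← mul_assoc, ← mul_assoc, h3, mul_inv_cancel_right, mul_inv_cancel])
    have hμ0 : ¬ (p : ℤ) ∣ d.μ := fun h => hpz.not_dvd_one (by
      obtain ⟨r, hr⟩ := hμν
      have h' := dvd_mul_of_dvd_left h d.ν
      rw [show d.μ * d.ν = 1 + p * r by linarith] at h'
      exact (dvd_add_left (dvd_mul_right _ r)).1 h')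
    have hb' : (p : ℤ) ∣ b := by
      refine ((hpz.dvd_mul (a := b) (b := d.μ * (d.μ - 1))).1 ?_).resolve_right fun h =>
        (hpz.dvd_or_dvd h).elim hμ0 hμ1
      rw [show b * (d.μ * (d.μ - 1)) = -(d.μ * b - b * d.μ ^ 2) by ring, dvd_neg]; exact hb
    have hc' : (p : ℤ) ∣ c := by
      refine ((hpz.dvd_mul (a := c) (b := d.μ ^ 2 - 1)).1 ?_).resolve_right d.μ2
      rw [show c * (d.μ ^ 2 - 1) = -(c - c * d.μ ^ 2) by ring, dvd_neg]; exact hc
    rw [hXpe, hwp hZp hb', hwp hUp hc', one_mul]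
  have fr₀ : Frame p X₀ A Z U := by
    refine ⟨hcZ, hcU, hcomm, fun q => ?_, fun q => ?_, fun i j k l e => ?_⟩
    · obtain ⟨i, a, rfl⟩ := hform q
      rw [hpowmul, hXp, one_zpow]
    · obtain ⟨i, a, rfl⟩ := hform q
      obtain ⟨j, k, l, e⟩ := hEform a
      exact ⟨i, j, k, l, by rw [e, mul_assoc]⟩
    · have hi : (p : ℤ) ∣ i := by
        refine dvd_of_zpow_mem (H := E) (x := d.x) ?_ d.hxE ?_
        · exact pow_mem_of_flag hS (by omega) hE hidx d.hxN
        · rw [hX₀, hA, hZ, hU] at e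
          simp only [← map_zpow, ← map_mul] at e
          rw [← hker, hFr] at e
          obtain ⟨v, -, hv⟩ := e
          have hmem : ((x₀ ^ i : N) : Ω) * ((ι (d.n ^ j) * ι (d.z ^ k * d.u ^ l) : N) : Ω) ∈ E := by
            rw [← Subgroup.coe_mul, ← mul_assoc, ← hv]; exact v.2
          have h4 := (Subgroup.mul_mem_cancel_right E (show ((ι (d.n ^ j) * ι (d.z ^ k * d.u ^ l) : N) : Ω) ∈ E by
            rw [← map_mul]; exact (d.n ^ j * (d.z ^ k * d.u ^ l)).2)).1 hmem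
          rwa [hx₀, SubgroupClass.coe_zpow] at h4
      rw [zpow_congr hXp (j := 0) (by rwa [sub_zero]), zpow_zero, one_mul] at e
      refine ⟨hi, d.indep j k l (hπ1.1 ?_)⟩
      simp only [map_mul, map_zpow, ← hA, ← hZ, ← hU, mul_assoc]
      exact e
  -- the Frattini subgroup of the essential subgroup is characteristic
  have hFrS1 : Fr ≤ ser p N 1 := by
    rw [hFr, ← ser_one hEp]; exact ser_map_le ι 1
  have hK2 : ser p N 2 ≤ Fr := by
    have h1 : ser p N 1 ≤ (zpowers Z).comap π := by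
      refine sup_le ((closure_le _).2 ?_) (commutator_le.2 fun a _ b _ => ?_)
      · rintro _ ⟨a, -, rfl⟩
        show π (a ^ p) ∈ zpowers Z
        rw [map_pow, fr₀.exp]; exact one_mem _
      · show π ⁅a, b⁆ ∈ zpowers Z
        obtain ⟨i, j, c, hc, e, -⟩ := fr₀.exists_form (π a)
        obtain ⟨i', j', c', hc', e', -⟩ := fr₀.exists_form (π b)
        rw [map_commutatorElement, e, e', fr₀.comm_eq i j i' j' hc hc']
        exact zpow_mem_zpowers _ _
    refine sup_le ((closure_le _).2 ?_) (commutator_le.2 fun a ha b _ => ?_)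
    · rintro _ ⟨a, -, rfl⟩
      exact hker.2 (by rw [map_pow, fr₀.exp])
    · refine hker.2 ?_
      rw [map_commutatorElement, commutatorElement_eq_one_iff_commute]
      exact fr₀.commute_center (zpowers_le.2 hcZ (h1 ha)) _
  let C2 : Subgroup N := (Subgroup.center (N ⧸ ser p N 2)).comap (QuotientGroup.mk' (ser p N 2))
  have hC2 : ∀ {g}, g ∈ C2 ↔ ∀ b, ⁅g, b⁆ ∈ ser p N 2 := fun {g} => by
    constructor
    · intro h b
      rw [← QuotientGroup.eq_one_iff, ← QuotientGroup.mk'_apply, map_commutatorElement,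
        commutatorElement_eq_one_iff_commute]
      exact (mem_center_iff.1 (show QuotientGroup.mk' (ser p N 2) g ∈ Subgroup.center _ from h) _).symm
    · intro h
      refine mem_center_iff.2 fun q => ?_
      obtain ⟨b, rfl⟩ := QuotientGroup.mk'_surjective _ q
      have := h b
      rw [← QuotientGroup.eq_one_iff, ← QuotientGroup.mk'_apply, map_commutatorElement,
        commutatorElement_eq_one_iff_commute] at this
      exact this.symm
  have hC2c : ∀ {g}, g ∈ C2 ↔ π g ∈ Subgroup.center (N ⧸ Fr) := by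
    intro g
    constructor
    · intro hg
      refine mem_center_iff.2 fun q => ?_
      obtain ⟨b, rfl⟩ := QuotientGroup.mk'_surjective Fr q
      have h := hker.1 (hK2 (hC2.1 hg b))
      rw [map_commutatorElement, commutatorElement_eq_one_iff_commute] at h
      exact h.symm
    · intro hg
      have hFrC : Fr ≤ C2 := fun y hy => hC2.2 fun b => comm_mem_succ (hFrS1 hy) b
      have hzS : ι d.z ∈ ser p N 1 := by
        have e : ι d.z = ⁅(ι d.n)⁻¹, x₀⁆ := by
          rw [d.z_def, map_mul, hactx, map_inv, commutatorElement_def, inv_inv]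
          group
        rw [e]; exact comm_mem_succ (mem_top _) _
      have hu : ι d.u ∈ C2 := by
        refine hC2.2 fun b => ?_
        let π2 := QuotientGroup.mk' (ser p N 2)
        let H : Subgroup N := (centralizer {π2 (ι d.u)}).comap π2
        suffices hb : b ∈ H by
          rw [← QuotientGroup.eq_one_iff, ← QuotientGroup.mk'_apply, map_commutatorElement,
            commutatorElement_eq_one_iff_commute]
          exact mem_centralizer_iff.1 hb _ (Set.mem_singleton _)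
        have hH : ∀ {y}, ⁅ι d.u, y⁆ ∈ ser p N 2 → y ∈ H := fun {y} h => by
          rw [← QuotientGroup.eq_one_iff, ← QuotientGroup.mk'_apply, map_commutatorElement,
            commutatorElement_eq_one_iff_commute] at h
          refine mem_centralizer_iff.2 fun v hv => ?_
          rw [Set.mem_singleton_iff.1 hv]; exact h
        have hx : x₀ ∈ H := by
          refine hH ?_
          have h := ser_map_le ι 2 (mem_map_of_mem ι hux)
          rw [map_mul, map_inv, hactx] at h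
          have e : ⁅ι d.u, x₀⁆ = ι d.u * ((ι d.u)⁻¹ * (x₀ * ι d.u * x₀⁻¹))⁻¹ * (ι d.u)⁻¹ := by
            rw [commutatorElement_def]; group
          rw [e]
          exact (inferInstance : (ser p N 2).Normal).conj_mem _ (inv_mem h) _
        have hn : ι d.n ∈ H := hH (by
          rw [← commutatorElement_inv, ← map_commutatorElement]
          exact inv_mem (ser_map_le ι 2 (mem_map_of_mem ι hnu)))
        have hz : ι d.z ∈ H := hH (comm_mem_succ' hzS _)
        have hu' : ι d.u ∈ H := hH (by rw [commutatorElement_self]; exact one_mem _)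
        obtain ⟨i, j, k, l, e⟩ := fr₀.span (π b)
        rw [hX₀, hA, hZ, hU] at e
        simp only [← map_zpow, ← map_mul] at e
        have h4 : (x₀ ^ i * ι (d.n ^ j * (d.z ^ k * d.u ^ l)))⁻¹ * b ∈ H := by
          refine hH (comm_mem_succ' (hFrS1 (hker.2 ?_)) _)
          rw [map_mul π _ b, map_inv, e, map_mul ι, ← mul_assoc, inv_mul_cancel]
        rw [← mul_inv_cancel_left (x₀ ^ i * ι (d.n ^ j * (d.z ^ k * d.u ^ l))) b]
        refine mul_mem (mul_mem (zpow_mem hx i) ?_) h4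
        simp only [map_mul, map_zpow]
        exact mul_mem (zpow_mem hn j) (mul_mem (zpow_mem hz k) (zpow_mem hu' l))
      obtain ⟨k, l, e⟩ := fr₀.center_form hg
      rw [hZ, hU] at e
      have h1 : (ι d.z ^ k * ι d.u ^ l)⁻¹ * g ∈ C2 := hFrC (hker.2 (by
        rw [map_mul π _ g, map_inv, map_mul π, map_zpow π, map_zpow π, e, inv_mul_cancel]))
      rw [← mul_inv_cancel_left (ι d.z ^ k * ι d.u ^ l) g]
      exact mul_mem (mul_mem (zpow_mem (hC2.2 fun b => comm_mem_succ hzS b) k) (zpow_mem hu l)) h1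
  have hFrinv : ∀ (α : MulAut N), ∀ y ∈ Fr, α y ∈ Fr := by
    intro α
    let f : E →* N ⧸ Fr := π.comp (α.toMonoidHom.comp ι)
    have hcen : ∀ a : E, π (ι a) ∈ Subgroup.center (N ⧸ Fr) → f a ∈ Subgroup.center (N ⧸ Fr) := fun a ha => by
      refine hC2c.1 (hC2.2 fun b => ?_)
      obtain ⟨b, rfl⟩ := α.surjective b
      show ⁅α (ι a), α b⁆ ∈ ser p N 2
      rw [← map_commutatorElement]
      exact ser_invariant 2 α _ (hC2.1 (hC2c.2 ha) b)
    have hfc : ∀ a b : E, Commute (f a) (f b) := by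
      have hf : ∀ a : E, ∃ i : ℤ, ∃ c ∈ Subgroup.center (N ⧸ Fr), f a = f d.n ^ i * c := fun a => by
        obtain ⟨i, j, k, e⟩ := hEform a
        refine ⟨i, f ((d.n ^ i)⁻¹ * a), hcen _ ?_, ?_⟩
        · rw [map_mul, map_mul, map_inv, map_inv, map_zpow, map_zpow, ← hA, e, inv_mul_cancel_left]
          exact fr₀.zu_mem j k
        · rw [← map_zpow, ← map_mul, mul_inv_cancel_left]
      intro a b
      obtain ⟨i, c, hc, e⟩ := hf a
      obtain ⟨i', c', hc', e'⟩ := hf b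
      rw [e, e']
      exact ((Commute.zpow_zpow_self _ i i').mul_right (fr₀.commute_center hc' _).symm).mul_left
        (fr₀.commute_center hc _)
    have hle : frattini E ≤ f.ker := by
      refine CfsgLib.PGroupBasic.frattini_le_of_elementary (p := p) _ ?_ fun a => ?_
      · rw [_root_.commutator_def, commutator_le]
        intro a _ b _
        show f ⁅a, b⁆ = 1
        rw [map_commutatorElement, commutatorElement_eq_one_iff_commute]
        exact hfc a b
      · show f (a ^ p) = 1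
        rw [map_pow]; exact fr₀.exp _
    intro y hy
    rw [hFr] at hy
    obtain ⟨a, ha, rfl⟩ := hy
    exact hker.2 (hle ha)
  have hmap : ∀ α : MulAut N, Fr.map α.toMonoidHom = Fr := fun α => by
    refine le_antisymm (by rintro _ ⟨y, hy, rfl⟩; exact hFrinv α y hy) fun y hy => ?_
    exact ⟨α⁻¹ y, hFrinv _ y hy, MulAut.apply_inv_self N α y⟩
  let bar : MulAut N →* MulAut (N ⧸ Fr) := MonoidHom.mk'
    (fun α => QuotientGroup.congr Fr Fr α (hmap α))
    fun α β => MulEquiv.ext fun v => by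
      induction v using QuotientGroup.induction_on with
      | H e => rfl
  have hbar : ∀ y, bar τ y = T y := fun y => by
    induction y using QuotientGroup.induction_on with
    | H e => rfl
  -- an eigenvector
  obtain ⟨r, t, hr, ht⟩ : ∃ r t : ℤ, fr₀.chi (π (ι w)) = (0, (r : ZMod p)) ∧
      (p : ℤ) ∣ (d.μ ^ 2 - d.ν) * t - r := by
    obtain ⟨i, j, k, e⟩ := hEform w
    obtain ⟨t, ht⟩ := solve_mod (p := p) (a := d.μ ^ 2 - d.ν) (fun h => d.μ3 (by
      obtain ⟨q, hq⟩ := h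
      obtain ⟨q', hq'⟩ := hμν
      exact ⟨d.μ * q + q', by linear_combination d.μ * hq + hq'⟩)) i
    exact ⟨i, t, by simpa using fr₀.chi_eq (i := 0) (j := i) (fr₀.zu_mem j k) (show π (ι w) = _ by
      rw [e]; simp), ht⟩
  let fr := fr₀.shift t
  refine ⟨Fr, hFrn, _, A, Z, U, bar, τ, fr, ⟨hFr, hZ, hU, hτι⟩, hFrS1.trans (ser_one hNp).le, fun _ _ => rfl,
    fun g => ?_, hτ, ?_, ?_, by rw [hbar, hTZ], by rw [hbar, hTU]⟩
  · constructor
    · intro hg
      obtain ⟨a, rfl⟩ := hιE hg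
      obtain ⟨i, j, k, e⟩ := hEform a
      rw [fr.chi_eq (i := 0) (j := i) (fr.zu_mem j k) (show π (ι a) = _ by rw [e]; simp)]
      simp
    · intro hg
      obtain ⟨i, j, c, hc, e, h⟩ := fr.exists_form (π g)
      rw [h] at hg
      rw [fr.pow_p_eq (y := X₀ * A ^ t) (i := i) (j := 0)
        (by rw [sub_zero, ← ZMod.intCast_zmod_eq_zero_iff_dvd]; exact hg), zpow_zero, one_mul] at e
      obtain ⟨k, l, hc'⟩ := fr.center_form hc
      rw [hc', hA, hZ, hU] at e
      simp only [← map_zpow, ← map_mul] at e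
      have h1 := QuotientGroup.eq.1 e.symm
      rw [hFr] at h1
      obtain ⟨v, -, hv⟩ := h1
      have : g = ι (d.n ^ j * (d.z ^ k * d.u ^ l)) * ι v := by rw [hv, mul_inv_cancel_left]
      rw [this, ← map_mul]
      exact (d.n ^ j * (d.z ^ k * d.u ^ l) * v).2
  · have hm : fr₀.chi (bar τ (X₀ * A ^ t)) = (d.μ ^ 2 : ℤ) • fr₀.chi (X₀ * A ^ t) := by
      rw [hbar, map_mul, map_zpow, hTX, hTA, fr₀.chi_mul, fr₀.chi_mul, fr₀.chi_zpow, fr₀.chi_zpow,
        fr₀.chi_zpow, fr₀.chi_mul, fr₀.chi_zpow, fr₀.chi_X, fr₀.chi_A, hr]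
      rw [← ZMod.intCast_zmod_eq_zero_iff_dvd] at ht
      push_cast at ht
      refine Prod.ext ?_ ?_ <;> simp
      linear_combination -ht
    have hc : ((X₀ * A ^ t) ^ (d.μ ^ 2))⁻¹ * bar τ (X₀ * A ^ t) ∈ Subgroup.center (N ⧸ Fr) := by
      refine fr₀.center_of_chi ?_
      rw [fr₀.chi_mul, ← zpow_neg_one, fr₀.chi_zpow, fr₀.chi_zpow, hm, neg_one_zsmul, neg_add_cancel]
    refine (fr.chi_eq (i := d.μ ^ 2) (j := 0) hc ?_).trans (by simp)
    rw [zpow_zero, mul_one, mul_inv_cancel_left]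
  · refine (fr.chi_eq (i := 0) (j := d.ν) (one_mem _) ?_).trans (by simp)
    rw [hbar, hTA]; simp

/-- The frame on the normaliser, with an extension of the torus. -/
theorem norm_frame (hS : IsPGroup p S) (hF : F.IsSaturated p) (hp5 : 5 ≤ p) {E : Subgroup Ω}
    (hE : F.IsEssential p E) (hidx : (frattini E).index = p ^ 3)
    (hsr : Cfsg.SectionalPRankLE p 3 E) (d : Split F p E) :
    ∃ (Fr : Subgroup (normalizerIn S E)) (_ : Fr.Normal) (X A Z U : normalizerIn S E ⧸ Fr)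
      (bar : MulAut (normalizerIn S E) →* MulAut (normalizerIn S E ⧸ Fr))
      (τ : MulAut (normalizerIn S E)) (fr : Frame p X A Z U),
      Fr ≤ frattini (normalizerIn S E) ∧
      (∀ (α : MulAut (normalizerIn S E)) (g : normalizerIn S E),
        bar α (QuotientGroup.mk' Fr g) = QuotientGroup.mk' Fr (α g)) ∧
      (∀ g : normalizerIn S E, (g : Ω) ∈ E ↔ (fr.chi (QuotientGroup.mk' Fr g)).1 = 0) ∧
      τ ∈ F.autGroup (normalizerIn S E) ∧
      fr.chi (bar τ X) = (((d.μ ^ 2 : ℤ) : ZMod p), 0) ∧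
      fr.chi (bar τ A) = (0, ((d.ν : ℤ) : ZMod p)) ∧ bar τ Z = Z ^ d.μ ∧ bar τ U = U := by
  obtain ⟨Fr, hn, X, A, Z, U, bar, τ, fr, -, h⟩ := norm_frame_full hS hF hp5 hE hidx hsr d
  exact ⟨Fr, hn, X, A, Z, U, bar, τ, fr, h⟩

end CfsgLib.Fusion.RankThree
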