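import Cfsg.Agent.Fusion.RankThree.PlaneTop
import Cfsg.Agent.Fusion.RankThree.TwoLayers
import Cfsg.Agent.Fusion.RankThree.Irreducible
import Cfsg.Agent.Fusion.CubeEssential

/-!
Essential subgroups with two generators that are not pearls, for sectional rank at most three.
-/

set_option autoImplicit false
set_option linter.unusedSectionVars false
set_option linter.style.haveILetI false

open Cfsg Cfsg.FusionSystem Subgroup
open scoped commutatorElement

namespace CfsgLib.Fusion.RankThree

universe u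

variable {Ω : Type u} [Group Ω] {S : Subgroup Ω} [Finite S] {p : ℕ} [hp : Fact p.Prime]
  {F : FusionSystem S}

/-- Elementary abelian of order `p ^ 2`, or extraspecial of order `p ^ 3` and exponent `p`. -/
def IsPearl (p : ℕ) (E : Subgroup Ω) : Prop :=
  (Cfsg.IsElementaryAbelian p E ∧ Nat.card E = p ^ 2) ∨
    (Cfsg.IsExtraspecial p ↥E ∧ Nat.card E = p ^ 3 ∧ ∀ x ∈ E, x ^ p = 1)

/-- A subgroup with cyclic quotient of order `p` in `T`, seen through a generator. -/
structure Cover (T : Subgroup Ω) (p : ℕ) (E : Subgroup Ω) (x : Ω) : Prop where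
  le : E ≤ T
  mem : x ∈ T
  pow : x ^ p ∈ E
  norm : ∀ g ∈ T, ∀ e ∈ E, g * e * g⁻¹ ∈ E
  cover : ∀ h ∈ T, ∃ i : ℤ, h * x ^ (-i) ∈ E

namespace Cover

variable {T E : Subgroup Ω} {x : Ω} (d : Cover T p E x)
include d hp

theorem comm_mem {g h : Ω} (hg : g ∈ T) (hh : h ∈ T) : ⁅g, h⁆ ∈ E := by
  haveI : (E.subgroupOf T).Normal := ⟨fun e he g => d.norm g g.2 e he⟩
  set π := QuotientGroup.mk' (E.subgroupOf T)
  have key : ∀ g (hg : g ∈ T), ∃ i : ℤ, π ⟨g, hg⟩ = π ⟨x, d.mem⟩ ^ i := fun g hg => by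
    obtain ⟨i, hi⟩ := d.cover g hg
    refine ⟨i, ?_⟩
    rw [← map_zpow, ← inv_inv (⟨g, hg⟩ : T), map_inv, inv_eq_iff_mul_eq_one, ← map_mul]
    have : ((⟨g, hg⟩ : T)⁻¹ * ⟨x, d.mem⟩ ^ i) = (⟨g, hg⟩ : T)⁻¹ * (⟨g, hg⟩ *
        ⟨x, d.mem⟩ ^ (-i))⁻¹ * ⟨g, hg⟩ := by group
    rw [this]
    refine (QuotientGroup.eq_one_iff _).2 ?_
    have := d.norm (g⁻¹) (inv_mem hg) _ (inv_mem hi)
    rw [inv_inv] at this
    exact this
  obtain ⟨i, hi⟩ := key g hg
  obtain ⟨j, hj⟩ := key h hh
  have : π ⁅(⟨g, hg⟩ : T), ⟨h, hh⟩⁆ = 1 := by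
    rw [map_commutatorElement, commutatorElement_eq_one_iff_commute, hi, hj]
    exact Commute.zpow_zpow_self _ i j
  exact (QuotientGroup.eq_one_iff (N := E.subgroupOf T) _).1 this

theorem pow_mem {g : Ω} (hg : g ∈ T) : g ^ p ∈ E := by
  haveI : (E.subgroupOf T).Normal := ⟨fun e he g => d.norm g g.2 e he⟩
  set π := QuotientGroup.mk' (E.subgroupOf T)
  obtain ⟨i, hi⟩ := d.cover g hg
  have h1 : π ⟨g, hg⟩ = π ⟨x, d.mem⟩ ^ i := by
    rw [← mul_inv_eq_one, ← zpow_neg, ← map_zpow, ← map_mul]
    exact (QuotientGroup.eq_one_iff _).2 hi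
  have : π (⟨g, hg⟩ ^ p) = 1 := by
    rw [map_pow, h1, ← zpow_natCast, ← zpow_mul, mul_comm, zpow_mul, zpow_natCast, ← map_pow,
      show π (⟨x, d.mem⟩ ^ p) = 1 from (QuotientGroup.eq_one_iff _).2 d.pow, one_zpow]
  exact (QuotientGroup.eq_one_iff (N := E.subgroupOf T) _).1 this

/-- Anything in `T` containing `E` properly is all of `T`. -/
theorem eq_top {M : Subgroup Ω} (hEM : E ≤ M) {m : Ω} (hm : m ∈ M) (hmT : m ∈ T) (hmE : m ∉ E) :
    T ≤ M := by
  obtain ⟨i, hi⟩ := d.cover m hmT
  have hx : x ∈ M := by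
    by_contra hxM
    have hxi : x ^ i ∈ M := by
      have := (Subgroup.mul_mem_cancel_left _ hm).1 (hEM hi)
      rw [zpow_neg] at this
      exact inv_mem_iff.1 this
    obtain ⟨q, rfl⟩ := dvd_of_zpow_mem (hEM d.pow) hxM hxi
    refine hmE ((Subgroup.mul_mem_cancel_right _ ?_).1 hi)
    rw [← mul_neg, zpow_mul, zpow_natCast]
    exact zpow_mem d.pow _
  intro h hh
  obtain ⟨j, hj⟩ := d.cover h hh
  exact (Subgroup.mul_mem_cancel_right _ (zpow_mem hx (-j))).1 (hEM hj)

end Cover

/-- An essential subgroup with two generators that is not a pearl. -/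
structure Stem (F : FusionSystem S) (p : ℕ) (E : Subgroup Ω) extends Plane F p E where
  c : E
  e : E
  w : E
  e_cen : e ∈ center E
  e_pow : e ^ p = 1
  y_e : conjAut S E ⟨x, hxN⟩ e = e * w
  w_ne : w ≠ 1
  e_comm : e ∈ commutator E
  c_comm : c ∈ commutator E
  cz : ∀ a : E, Commute a z → Commute a c → a ∈ center E
  cen_le : center E ≤ frattini E

theorem exists_stem (hS : IsPGroup p S) (hp5 : 5 ≤ p) (hF : F.IsSaturated p) {E : Subgroup Ω}
    (hE : F.IsEssential p E) (hidx : (frattini E).index = p ^ 2)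
    (hsr : Cfsg.SectionalPRankLE p 3 S) (hno : ¬ IsPearl p E) : Nonempty (Stem F p E) := by
  classical
  have hES := hE.1.1
  have := finite_of_le hES
  have hEp := isPGroup_of_le hS hES
  obtain ⟨hcm, hpw⟩ := CfsgLib.PGroupBasic.commutator_pow_le_frattini hEp
  obtain ⟨P⟩ := exists_plane hS hF hE hidx
  haveI : (zpowers P.z ⊔ frattini E).Normal := normal_of_frattini_le hEp le_sup_right
  have hpz : Prime (p : ℤ) := Nat.prime_iff_prime_int.1 hp.out
  -- an automorphism moving the line
  obtain ⟨α, i, j, hα, hi⟩ : ∃ (α : MulAut E) (i j : ℤ),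
      (P.n ^ i * P.z ^ j)⁻¹ * α P.z ∈ frattini E ∧ ¬ (p : ℤ) ∣ i := by
    by_contra hcon
    push Not at hcon
    set L := zpowers P.z ⊔ frattini E
    have hmemL : ∀ i j : ℤ, ∀ a : E, (P.n ^ i * P.z ^ j)⁻¹ * a ∈ frattini E → (p : ℤ) ∣ i →
        a ∈ L := by
      rintro i j a ha ⟨q, rfl⟩
      rw [← mul_inv_cancel_left (P.n ^ ((p : ℤ) * q) * P.z ^ j) a]
      refine mul_mem (mul_mem (mem_sup_right ?_) (mem_sup_left (zpow_mem (mem_zpowers _) _)))
        (mem_sup_right ha)
      rw [zpow_mul, zpow_natCast]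
      exact zpow_mem (hpw _) q
    rcases P.noline L le_sup_right (fun α _ a ha => by
      have hle : L ≤ L.comap α.toMonoidHom := sup_le (zpowers_le.2 (by
        obtain ⟨i, j, h⟩ := P.span (α P.z)
        exact hmemL i j _ h (hcon α i j h))) fun b hb => mem_sup_right (frattini_inv α hb)
      exact hle ha) with h | h
    · refine hpz.not_dvd_one (P.indep 0 1 ?_).2
      rw [zpow_zero, one_mul, zpow_one, ← h]
      exact mem_sup_left (mem_zpowers _)
    · obtain ⟨a, ha, b, hb, e⟩ := mem_sup_of_normal_right.1 (h.ge (mem_top P.n))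
      obtain ⟨q, rfl⟩ := mem_zpowers_iff.1 ha
      refine hpz.not_dvd_one (dvd_neg.1 (P.indep (-1) q ?_).1)
      rw [← e, zpow_neg_one, mul_inv_rev, mul_assoc, inv_mul_cancel, mul_one]
      exact inv_mem hb
  have hyp : ∃ g : E, ∀ a, ((conjAut S E ⟨P.x, P.hxN⟩) ^ p) a = g * a * g⁻¹ :=
    ⟨⟨_, P.hxp⟩, fun a => by rw [← map_pow]; exact Subtype.ext rfl⟩
  rcases two_layers hEp hp5
      (sectional_of_injective (Subgroup.inclusion hES) (Subgroup.inclusion_injective hES) hsr) hidx
      P.n P.z (conjAut S E ⟨P.x, P.hxN⟩) α P.span P.indep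
      (by rw [P.z_def, mul_inv_cancel_left]) P.x_z hyp hα hi with h | h
  swap
  · obtain ⟨c, e, w, h1, -, h3, h4, h5, h6, h7, h8, h9⟩ := h
    exact ⟨{ P with
      c := c, e := e, w := w, e_cen := h1, e_pow := h3, y_e := h4, w_ne := h5, e_comm := h6
      c_comm := h7, cz := h8, cen_le := h9 }⟩
  exfalso
  obtain ⟨k, hk⟩ := IsPGroup.iff_card.1 (hEp.to_subgroup (frattini E))
  have hk1 : k ≤ 1 := by
    rw [hk] at h
    exact (Nat.pow_le_pow_iff_right hp.out.one_lt).1 (h.trans_eq (pow_one p).symm)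
  have hcard : Nat.card E = p ^ (2 + k) := by
    rw [pow_add, ← hidx, ← hk, Subgroup.index_mul_card]
  rcases (show k = 0 ∨ k = 1 by omega) with rfl | rfl
  · have hbot : frattini E = ⊥ := Subgroup.card_eq_one.1 (by rw [hk, pow_zero])
    have hab : IsMulCommutative E := ⟨⟨fun a b => commutatorElement_eq_one_iff_mul_comm.1 (by
      have := hcm (commutator_mem_commutator (mem_top a) (mem_top b))
      rwa [hbot, mem_bot] at this)⟩⟩
    rcases essential_rank_two p hS hF hE hab hidx.le with h' | ⟨h', -⟩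
    · exact hno (Or.inl h')
    · omega
  · rcases essential_of_card_cube p hS hF hE hcard with h' | ⟨-, h', h''⟩ | ⟨h', -⟩
    · have hab : IsMulCommutative E := h'.1
      rcases essential_rank_two p hS hF hE hab hidx.le with ⟨-, h''⟩ | ⟨h'', -⟩
      · rw [hcard] at h''
        exact absurd (Nat.pow_right_injective hp.out.two_le h'') (by omega)
      · omega
    · exact hno (Or.inr ⟨h', hcard, h''⟩)
    · omega

namespace Stem

variable {E : Subgroup Ω} (d : Stem F p E)
include d

theorem isCover (hE : F.IsEssential p E) : Cover (normalizerIn S E) p E d.x :=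
  ⟨le_normalizerIn hE.1.1, d.hxN, d.hxp, fun g hg e he => (Subgroup.mem_normalizer_iff.1 hg.2 e).1 he,
    d.cover⟩

/-- Elements of the essential subgroup commuting with an outer element and all commutators are
central and fixed. -/
theorem key (hE : F.IsEssential p E) {a : E} {m : Ω} (hm : m ∈ normalizerIn S E) (hmE : m ∉ E)
    (hma : Commute m a) (hc : ∀ g ∈ normalizerIn S E, ∀ h ∈ normalizerIn S E, Commute ⁅g, h⁆ a) :
    a ∈ center E ∧ conjAut S E ⟨d.x, d.hxN⟩ a = a := by
  have hEN : E ≤ normalizerIn S E := le_normalizerIn hE.1.1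
  have haz : Commute a d.z := by
    have e : (d.z : Ω) = ⁅(d.n : Ω)⁻¹, d.x⁆ := by
      rw [d.z_def, commutatorElement_def]
      show (d.n : Ω)⁻¹ * (d.x * d.n * d.x⁻¹) = _
      group
    refine Subtype.ext ?_
    have := hc _ (inv_mem (hEN d.n.2)) _ d.hxN
    rw [← e] at this
    exact this.symm.eq
  have hac : Commute a d.c := by
    have hle : commutator E ≤ (centralizer ({(a : Ω)} : Set Ω)).comap E.subtype := by
      rw [_root_.commutator_def, commutator_le]
      intro g _ h _
      refine mem_centralizer_singleton_iff.2 ?_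
      rw [map_commutatorElement]
      exact (hc _ (hEN g.2) _ (hEN h.2)).eq
    exact Subtype.ext (mem_centralizer_singleton_iff.1 (hle d.c_comm)).symm
  have haZ := d.cz a haz hac
  refine ⟨haZ, Subtype.ext ?_⟩
  show d.x * (a : Ω) * d.x⁻¹ = a
  set C := centralizer ({(a : Ω)} : Set Ω)
  have hEC : ∀ {v : Ω}, v ∈ E → v ∈ C := fun {v} hv =>
    mem_centralizer_singleton_iff.2 (congrArg Subtype.val (mem_center_iff.1 haZ ⟨v, hv⟩))
  have hxC : d.x ∈ C :=
    (d.isCover hE).eq_top (M := C) (fun v => hEC) (mem_centralizer_singleton_iff.2 hma.eq) hm hmE d.hxN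
  rw [mem_centralizer_singleton_iff.1 hxC, mul_inv_cancel_right]

theorem e_not_fixed : conjAut S E ⟨d.x, d.hxN⟩ d.e ≠ d.e := by
  rw [d.y_e]
  simpa using d.w_ne

/-- The essential subgroup is invariant under the automorphisms of its normalizer. -/
theorem map_eq (hS : IsPGroup p S) (hE : F.IsEssential p E) (ψ : MulAut (normalizerIn S E)) :
    ∀ a : normalizerIn S E, (a : Ω) ∈ E → ((ψ a : normalizerIn S E) : Ω) ∈ E := by
  classical
  intro a haE
  by_contra hm
  have hES := hE.1.1
  have := finite_of_le hES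
  have hEN : E ≤ normalizerIn S E := le_normalizerIn hES
  have hcov := d.isCover hE
  let ι : E →* normalizerIn S E := Subgroup.inclusion hEN
  haveI : (E.subgroupOf (normalizerIn S E)).Normal := ⟨fun v hv g => hcov.norm g g.2 v hv⟩
  have hfr : frattini E ≤ ((E.subgroupOf (normalizerIn S E)).comap ψ.toMonoidHom).comap ι := by
    refine CfsgLib.PGroupBasic.frattini_le_of_elementary (p := p) _ ?_ fun g => ?_
    · rw [_root_.commutator_def, commutator_le]
      intro g _ h _
      show ((ψ (ι ⁅g, h⁆) : normalizerIn S E) : Ω) ∈ E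
      simp only [map_commutatorElement]
      exact hcov.comm_mem (ψ (ι g)).2 (ψ (ι h)).2
    · show ((ψ (ι (g ^ p)) : normalizerIn S E) : Ω) ∈ E
      rw [map_pow, map_pow, SubgroupClass.coe_pow]
      exact hcov.pow_mem (ψ (ι g)).2
  have hkey : ∀ b : center E, ∃ b' : center E, ((b' : E) : Ω) = (ψ (ι b) : normalizerIn S E) ∧
      conjAut S E ⟨d.x, d.hxN⟩ b' = b' := by
    intro b
    have hbE : ((ψ (ι b) : normalizerIn S E) : Ω) ∈ E := hfr (d.cen_le b.2)
    have hcomm : ∀ v : normalizerIn S E, (v : Ω) ∈ E →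
        Commute ((ψ v : normalizerIn S E) : Ω) (ψ (ι b) : normalizerIn S E) := fun v hv => by
      have h1 : v * ι b = ι b * v :=
        Subtype.ext (congrArg (fun u : E => (u : Ω)) (mem_center_iff.1 b.2 ⟨v, hv⟩))
      have h2 := congrArg (fun u => ((ψ u : normalizerIn S E) : Ω)) h1
      simp only [map_mul, Subgroup.coe_mul] at h2
      exact h2
    obtain ⟨h1, h2⟩ := d.key hE (a := (⟨_, hbE⟩ : E)) (ψ a).2 hm (hcomm a haE) fun g hg h hh => by
      have := hcomm (ψ.symm ⁅(⟨g, hg⟩ : normalizerIn S E), (⟨h, hh⟩ : normalizerIn S E)⁆) (by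
        rw [map_commutatorElement]; exact hcov.comm_mem (ψ.symm _).2 (ψ.symm _).2)
      rw [MulEquiv.apply_symm_apply] at this
      exact this
    exact ⟨⟨_, h1⟩, rfl, h2⟩
  choose σ hσ hσ' using hkey
  have hσi : Function.Injective σ := fun b b' h => by
    have h1 : ((ψ (ι b) : normalizerIn S E) : Ω) = ψ (ι b') := by rw [← hσ, ← hσ, h]
    exact Subtype.ext (Subgroup.inclusion_injective hEN (ψ.injective (Subtype.ext h1)))
  obtain ⟨b, hb⟩ := Finite.surjective_of_injective hσi ⟨d.e, d.e_cen⟩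
  have := hσ' b
  rw [hb] at this
  exact d.e_not_fixed this

theorem normalizer_eq (hS : IsPGroup p S) (hE : F.IsEssential p E) : normalizerIn S E = S := by
  classical
  refine le_antisymm (normalizerIn_le_S E) ?_
  by_contra hcon
  have hN : normalizerIn S E < S :=
    lt_of_le_of_ne (normalizerIn_le_S E) fun h => hcon h.ge
  obtain ⟨g, hg, hgN⟩ := SetLike.exists_of_lt (lt_normalizerIn p hS le_rfl hN)
  refine hgN ⟨hg.1, mem_normalizer_of_conj_mem hE.1.1 fun e he => ?_⟩
  exact d.map_eq hS hE (conjAut S (normalizerIn S E) ⟨g, hg⟩) ⟨e, le_normalizerIn hE.1.1 he⟩ he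

/-- A stem is the only essential subgroup, and it is normal, unless the core is trivial. -/
theorem false_of_others (hS : IsPGroup p S) (hF : F.IsSaturated p) (hE : F.IsEssential p E)
    (hcore : F.core = ⊥) (hsr : Cfsg.SectionalPRankLE p 3 S) (hp2 : p ≠ 2)
    (hother : ∀ M, F.IsEssential p M → M ≠ E → Nonempty (Stem F p M) ∨
      ((frattini M).index = p ^ 3 ∧ IsIrredTop F M ∧ ∃ x, Cover S p M x) ∨
      ∃ u : S, u ∈ center S ∧ u ∉ frattini S) : False := by
  classical
  have hES := hE.1.1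
  have := finite_of_le hES
  have hN := d.normalizer_eq hS hE
  have hcov : Cover S p E d.x := by
    have := d.isCover hE
    rwa [hN] at this
  have honly : ∀ M, F.IsEssential p M → M = E := by
    intro M hM
    by_contra hne
    have := finite_of_le hM.1.1
    have hcomS : ∀ {g h : Ω}, g ∈ S → h ∈ S → ⁅g, h⁆ ∈ E := fun hg hh => hcov.comm_mem hg hh
    have heC : ∀ (M' : Subgroup Ω), (∀ g ∈ S, ∀ h ∈ S, ⁅g, h⁆ ∈ M') → ((d.e : E) : Ω) ∈ M' := by
      intro M' hM'
      have hle : commutator E ≤ M'.comap E.subtype := by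
        rw [_root_.commutator_def, commutator_le]
        intro g _ h _
        show E.subtype ⁅g, h⁆ ∈ M'
        rw [map_commutatorElement]
        exact hM' _ (hES g.2) _ (hES h.2)
      exact hle d.e_comm
    -- `e` cannot be central in another member
    have hfin : ∀ x', Cover S p M x' → ∀ he : ((d.e : E) : Ω) ∈ M,
        (⟨_, he⟩ : M) ∈ center M → False := by
      intro x' hM' he hec
      obtain ⟨m, hm, hmE⟩ : ∃ m ∈ M, m ∉ E := by
        by_contra h
        push Not at h
        obtain ⟨v, hv, hvM⟩ := SetLike.exists_of_lt (lt_of_le_of_ne (h : M ≤ E) hne)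
        exact (essential_lt p hS hF hE).not_ge (hM'.eq_top (M := E) h hv (hES hv) hvM)
      have hcm : ∀ {v : Ω}, v ∈ M → Commute v (d.e : Ω) := fun {v} hv =>
        congrArg Subtype.val (mem_center_iff.1 hec ⟨v, hv⟩)
      refine d.e_not_fixed (d.key hE (hN.ge (hM.1.1 hm)) hmE (hcm hm) fun g hg h hh => ?_).2
      exact hcm (hM'.comm_mem (hN.le hg) (hN.le hh))
    rcases hother M hM hne with hM' | ⟨hidx, hirr, x', hx'⟩ | ⟨u, huc, hu⟩
    · obtain ⟨dM⟩ := hM'
      have hNM := dM.normalizer_eq hS hM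
      have hcovM : Cover S p M dM.x := by
        have := dM.isCover hM
        rwa [hNM] at this
      have he : ((d.e : E) : Ω) ∈ M := heC M fun g hg h hh => hcovM.comm_mem hg hh
      obtain ⟨m, hm, hmM⟩ : ∃ m ∈ E, m ∉ M := by
        by_contra h
        push Not at h
        obtain ⟨v, hv, hvE⟩ := SetLike.exists_of_lt (lt_of_le_of_ne (h : E ≤ M) (Ne.symm hne))
        exact (essential_lt p hS hF hM).not_ge (hcov.eq_top (M := M) h hv (hM.1.1 hv) hvE)
      have hce : ∀ {v : Ω}, v ∈ E → Commute v (d.e : Ω) := fun {v} hv =>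
        congrArg Subtype.val (mem_center_iff.1 d.e_cen ⟨v, hv⟩)
      exact hfin _ hcovM he (dM.key hM (a := ⟨_, he⟩) (hNM.ge (hES hm)) hmM (hce hm)
        fun g hg h hh => hce (hcomS (hNM.le hg) (hNM.le hh))).1
    · have he : ((d.e : E) : Ω) ∈ M := heC M fun g hg h hh => hx'.comm_mem hg hh
      refine hfin x' hx' he ?_
      have hep : (⟨_, he⟩ : M) ^ p = 1 := Subtype.ext (congrArg Subtype.val d.e_pow :)
      have hMp := isPGroup_of_le hS hM.1.1
      by_cases hbot : frattini M = ⊥
      · refine mem_center_iff.2 fun v => commutatorElement_eq_one_iff_mul_comm.1 ?_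
        have := (CfsgLib.PGroupBasic.commutator_pow_le_frattini hMp).1
          (commutator_mem_commutator (mem_top v) (mem_top (⟨_, he⟩ : M)))
        rwa [hbot, mem_bot] at this
      · exact ((irreducible_structure hMp hp2 hidx (F.autGroup M) hirr
          (sectional_of_injective (Subgroup.inclusion hM.1.1)
            (Subgroup.inclusion_injective hM.1.1) hsr) hbot).1 _ hep).2.1
    · refine hu ?_
      have huE : (u : Ω) ∈ E := hE.1.2 E (isConj_refl hES) ⟨u.2, fun v hv =>
        congrArg Subtype.val (mem_center_iff.1 huc ⟨v, hES hv⟩)⟩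
      have hle : frattini E ≤ (frattini S).comap (Subgroup.inclusion hES) := by
        obtain ⟨hcS, hpS⟩ := CfsgLib.PGroupBasic.commutator_pow_le_frattini hS
        refine CfsgLib.PGroupBasic.frattini_le_of_elementary (p := p) _ ?_ fun g => ?_
        · rw [_root_.commutator_def, commutator_le]
          intro g _ h _
          show Subgroup.inclusion hES ⁅g, h⁆ ∈ frattini S
          rw [map_commutatorElement]
          exact hcS (commutator_mem_commutator (mem_top _) (mem_top _))
        · show Subgroup.inclusion hES (g ^ p) ∈ frattini S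
          rw [map_pow]; exact hpS _
      have huc' : (⟨u, huE⟩ : E) ∈ center E := mem_center_iff.2 fun v =>
        Subtype.ext (congrArg Subtype.val (mem_center_iff.1 huc ⟨v, hES v.2⟩) :)
      exact hle (d.cen_le huc')
  have hnorm : F.IsNormal E := by
    refine isNormal_of_essential p hS hF (fun P hP => ?_) fun P hP α hα v hv => ?_
    · rcases hP with rfl | hP
      exacts [hES, (honly P hP).ge]
    · rcases hP with rfl | hP
      · let e : normalizerIn P E ≃* P := MulEquiv.subgroupCongr hN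
        exact d.map_eq hS hE (MulAut.congr e.symm α) (e.symm v) hv
      · obtain rfl := honly P hP
        exact (α v).2
  refine d.w_ne (Subtype.ext ?_)
  have h := le_core hnorm d.w.2
  rw [hcore, mem_bot] at h
  exact h

end Stem

end CfsgLib.Fusion.RankThree
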