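import Cfsg.Agent.Fusion.RankThree.Chain
import Cfsg.Agent.Fusion.RankThree.ClassTwo
import Cfsg.Agent.Fusion.SmallEssential

/-!
The top layer of an essential subgroup with two generators: the action of the normalizer on the
Frattini quotient is one transvection, and no line is invariant under the automiser.
-/

set_option autoImplicit false
set_option linter.unusedSectionVars false
set_option linter.style.haveILetI false

open Cfsg Cfsg.FusionSystem Subgroup
open scoped commutatorElement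

namespace CfsgLib.Fusion.RankThree

universe u

variable {Ω : Type u} [Group Ω] {S : Subgroup Ω} [Finite S] {p : ℕ} [hp : Fact p.Prime]
  {F : FusionSystem S}

/-- A basis of the Frattini quotient of an essential subgroup with two generators, adapted to an
element of the normalizer. -/
structure Plane (F : FusionSystem S) (p : ℕ) (E : Subgroup Ω) where
  n : E
  z : E
  x : Ω
  hxN : x ∈ normalizerIn S E
  hxE : x ∉ E
  hxp : x ^ p ∈ E
  cover : ∀ h ∈ normalizerIn S E, ∃ i : ℤ, h * x ^ (-i) ∈ E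
  z_def : z = n⁻¹ * conjAut S E ⟨x, hxN⟩ n
  x_z : z⁻¹ * conjAut S E ⟨x, hxN⟩ z ∈ frattini E
  span : ∀ e : E, ∃ i j : ℤ, (n ^ i * z ^ j)⁻¹ * e ∈ frattini E
  indep : ∀ i j : ℤ, n ^ i * z ^ j ∈ frattini E → (p : ℤ) ∣ i ∧ (p : ℤ) ∣ j
  noline : ∀ L : Subgroup E, frattini E ≤ L → (∀ α ∈ F.autGroup E, ∀ a ∈ L, α a ∈ L) →
    L = frattini E ∨ L = ⊤

set_option maxHeartbeats 400000 in
/-- An essential subgroup with two generators has such a basis. -/
theorem exists_plane (hS : IsPGroup p S) (hF : F.IsSaturated p) {E : Subgroup Ω}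
    (hE : F.IsEssential p E) (hidx : (frattini E).index = p ^ 2) : Nonempty (Plane F p E) := by
  classical
  have hES := hE.1.1
  have := finite_of_le hES
  have hEp := isPGroup_of_le hS hES
  obtain ⟨hcm, hpw⟩ := CfsgLib.PGroupBasic.commutator_pow_le_frattini hEp
  have hΦ : ∀ α ∈ autInducedBy S E, ∀ a ∈ frattini E, α a ∈ frattini E := fun α _ a ha =>
    frattini_inv α ha
  have hp1 := hp.out.one_lt
  have hcard : Nat.card E = p ^ 2 * Nat.card (frattini E) := by
    rw [← hidx, mul_comm, Subgroup.card_mul_index]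
  have hpos : 0 < Nat.card (frattini E) := Nat.card_pos
  obtain ⟨z₀, hz₀, hz₀'⟩ := exists_layer hS hES (frattini E) le_rfl (fun h => by
    rw [h, Subgroup.index_top] at hidx
    exact (Nat.one_lt_pow two_ne_zero hp1).ne hidx) hΦ
  obtain ⟨K, hK⟩ : ∃ K, K = zpowers z₀ ⊔ frattini E := ⟨_, rfl⟩
  have hΦK : frattini E ≤ K := hK ▸ le_sup_right
  have hKi : ∀ α ∈ autInducedBy S E, ∀ a ∈ K, α a ∈ K := hK ▸ sup_layer hES hz₀' hΦ
  haveI hKn : K.Normal := normal_of_frattini_le hEp hΦK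
  have hKcard : Nat.card K ≤ p * Nat.card (frattini E) :=
    hK ▸ CfsgLib.PGroupBasic.card_sup_zpowers_le _ z₀ (hpw z₀)
  have hKtop : K ≠ ⊤ := fun h => by
    rw [h, Subgroup.card_top, hcard, pow_two, mul_assoc] at hKcard
    exact absurd (Nat.le_of_mul_le_mul_left hKcard hp.out.pos)
      (not_le.2 (lt_mul_left hpos hp1))
  have hKmax : ∀ a : E, a ∉ K → zpowers a ⊔ K = ⊤ := fun a ha => by
    refine Subgroup.eq_top_of_le_card _ ?_
    have h1 : frattini E < K := lt_of_le_of_ne hΦK fun e => hz₀ (by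
      rw [e, hK]; exact mem_sup_left (mem_zpowers z₀))
    have h2 : K < zpowers a ⊔ K := lt_of_le_of_ne le_sup_right fun e => ha (by
      rw [e]; exact mem_sup_left (mem_zpowers a))
    obtain ⟨i, hi⟩ := IsPGroup.iff_card.1 (hEp.to_subgroup (frattini E))
    obtain ⟨j, hj⟩ := IsPGroup.iff_card.1 (hEp.to_subgroup K)
    obtain ⟨l, hl⟩ := IsPGroup.iff_card.1 (hEp.to_subgroup (zpowers a ⊔ K : Subgroup E))
    have d1 := CfsgLib.Solvable.card_lt_of_lt h1
    have d2 := CfsgLib.Solvable.card_lt_of_lt h2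
    rw [hi, hj, Nat.pow_lt_pow_iff_right hp1] at d1
    rw [hj, hl, Nat.pow_lt_pow_iff_right hp1] at d2
    rw [hcard, hi, hl, ← pow_add]
    exact Nat.pow_le_pow_right hp.out.pos (by omega)
  -- automorphisms induced by `S` fix the line and the quotient
  set π := QuotientGroup.mk' (frattini E)
  have hker : ∀ {a : E}, a ∈ frattini E ↔ π a = 1 := fun {a} => (QuotientGroup.eq_one_iff a).symm
  have hcl : ∀ {a b : E}, π a = π b ↔ a⁻¹ * b ∈ frattini E := fun {a b} => QuotientGroup.eq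
  have hfix : ∀ α ∈ autInducedBy S E, ∀ a ∈ K, π (α a) = π a := by
    intro α hα a ha
    have hle : K ≤ (π.comp α.toMonoidHom).eqLocus π := hK ▸ sup_le
      (zpowers_le.2 (hcl.2 (hz₀' α hα)).symm) fun b hb =>
        (hker.1 (hΦ α hα b hb)).trans (hker.1 hb).symm
    exact hle ha
  obtain ⟨y₀, hy₀, hy₀'⟩ := exists_layer hS hES K hΦK hKtop hKi
  have hdisp : ∀ α ∈ autInducedBy S E, ∀ a : E, a⁻¹ * α a ∈ K := by
    intro α hα a
    have hle : zpowers y₀ ⊔ K ≤
        ((QuotientGroup.mk' K).comp α.toMonoidHom).eqLocus (QuotientGroup.mk' K) :=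
      sup_le (zpowers_le.2 (QuotientGroup.eq.2 (hy₀' α hα)).symm) fun b hb =>
        ((QuotientGroup.eq_one_iff _).2 (hKi α hα b hb)).trans ((QuotientGroup.eq_one_iff _).2 hb).symm
    have h := hle ((hKmax y₀ hy₀).ge (mem_top a))
    exact QuotientGroup.eq.1 (Eq.symm h)
  have hA : ∀ h (hh : h ∈ normalizerIn S E), conjAut S E ⟨h, hh⟩ ∈ autInducedBy S E := fun h hh =>
    mem_autInducedBy.2 ⟨h, hh.1, fun _ => rfl⟩
  obtain ⟨x, hxN, hxE⟩ :=
    SetLike.exists_of_lt (lt_normalizerIn p hS le_rfl (essential_lt p hS hF hE))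
  set y := conjAut S E ⟨x, hxN⟩ with hy
  obtain ⟨n, hn⟩ : ∃ n : E, n⁻¹ * y n ∉ frattini E := by
    by_contra hcon
    push Not at hcon
    exact hxE (mem_of_trivial_mod hS hE hxN hcon)
  obtain ⟨z, hz⟩ : ∃ z, z = n⁻¹ * y n := ⟨_, rfl⟩
  have hnK : n ∉ K := fun h => hn (hcl.1 (hfix y (hA x hxN) n h).symm)
  have hzK : z ∈ K := hz ▸ hdisp y (hA x hxN) n
  have hKz : zpowers z ⊔ frattini E = K := by
    refine Subgroup.eq_of_le_of_card_ge (sup_le (zpowers_le.2 hzK) hΦK) ?_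
    have h1 : frattini E < zpowers z ⊔ frattini E := lt_of_le_of_ne le_sup_right fun e => hn (by
      rw [← hz, e]; exact mem_sup_left (mem_zpowers z))
    have d1 := CfsgLib.Solvable.card_lt_of_lt h1
    obtain ⟨i, hi⟩ := IsPGroup.iff_card.1 (hEp.to_subgroup (frattini E))
    obtain ⟨j, hj⟩ := IsPGroup.iff_card.1 (hEp.to_subgroup (zpowers z ⊔ frattini E : Subgroup E))
    rw [hi, hj, Nat.pow_lt_pow_iff_right hp1] at d1
    rw [hi, ← pow_succ'] at hKcard
    rw [hj]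
    exact hKcard.trans (Nat.pow_le_pow_right hp.out.pos d1)
  have hspan : ∀ e : E, ∃ i j : ℤ, (n ^ i * z ^ j)⁻¹ * e ∈ frattini E := by
    intro e
    obtain ⟨u, hu, v, hv, rfl⟩ := mem_sup_of_normal_right.1 ((hKmax n hnK).ge (mem_top e))
    obtain ⟨i, rfl⟩ := mem_zpowers_iff.1 hu
    rw [← hKz] at hv
    obtain ⟨w, hw, r, hr, rfl⟩ := mem_sup_of_normal_right.1 hv
    obtain ⟨j, rfl⟩ := mem_zpowers_iff.1 hw
    exact ⟨i, j, by rwa [mul_inv_rev, mul_assoc, inv_mul_cancel_left, inv_mul_cancel_left]⟩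
  have hind : ∀ i j : ℤ, n ^ i * z ^ j ∈ frattini E → (p : ℤ) ∣ i ∧ (p : ℤ) ∣ j := by
    intro i j h
    have hi : (p : ℤ) ∣ i := dvd_of_zpow_mem (H := K) (hΦK (hpw n)) hnK
      ((Subgroup.mul_mem_cancel_right _ (zpow_mem hzK j)).1 (hΦK h))
    refine ⟨hi, dvd_of_zpow_mem (hpw z) (hz ▸ hn) ((Subgroup.mul_mem_cancel_left _ ?_).1 h)⟩
    obtain ⟨m, rfl⟩ := hi
    rw [zpow_mul, zpow_natCast]
    exact zpow_mem (hpw n) m
  -- the displacement of `n`
  let δ : autInducedBy S E →* E ⧸ frattini E := MonoidHom.mk' (fun α => π (n⁻¹ * (α : MulAut E) n))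
    fun α β => by
      show π (n⁻¹ * (α : MulAut E) ((β : MulAut E) n)) = _ * _
      rw [← mul_inv_cancel_left n ((β : MulAut E) n), map_mul (α : MulAut E), map_mul π, map_mul π,
        hfix _ α.2 _ (hdisp _ β.2 n), ← map_mul π, ← map_mul π, ← map_mul π]
      simp only [← mul_assoc, inv_mul_cancel, one_mul]
  have hyδ : δ ⟨y, hA x hxN⟩ = π z := by rw [hz]; rfl
  have htriv : ∀ {g : Ω} (hg : g ∈ normalizerIn S E),
      δ ⟨conjAut S E ⟨g, hg⟩, hA g hg⟩ = 1 → g ∈ E := fun {g} hg h => by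
    refine mem_of_trivial_mod hS hE hg fun a => ?_
    set ψ := conjAut S E ⟨g, hg⟩
    have hle : zpowers n ⊔ K ≤ (π.comp ψ.toMonoidHom).eqLocus π :=
      sup_le (zpowers_le.2 (hcl.2 (hker.2 h)).symm) fun b hb => hfix ψ (hA g hg) b hb
    exact hcl.1 (Eq.symm (hle ((hKmax n hnK).ge (mem_top a))))
  refine ⟨⟨n, z, x, hxN, hxE, ?_, fun h hh => ?_, hz, ?_, hspan, hind, fun L hL hLinv => ?_⟩⟩
  · refine htriv (pow_mem hxN p) ?_
    have e : (⟨conjAut S E ⟨x ^ p, pow_mem hxN p⟩, hA _ (pow_mem hxN p)⟩ : autInducedBy S E) =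
        ⟨y, hA x hxN⟩ ^ p := Subtype.ext (map_pow (conjAut S E) ⟨x, hxN⟩ p)
    rw [e, map_pow, hyδ, ← map_pow]
    exact hker.1 (hpw z)
  · obtain ⟨i, hi⟩ : ∃ i : ℤ, δ ⟨conjAut S E ⟨h, hh⟩, hA h hh⟩ = π z ^ i := by
      have h1 : n⁻¹ * conjAut S E ⟨h, hh⟩ n ∈ K := hdisp _ (hA h hh) n
      rw [← hKz] at h1
      obtain ⟨w, hw, r, hr, e⟩ := mem_sup_of_normal_right.1 h1
      obtain ⟨i, rfl⟩ := mem_zpowers_iff.1 hw
      refine ⟨i, ?_⟩
      show π (n⁻¹ * conjAut S E ⟨h, hh⟩ n) = _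
      rw [← e, map_mul, hker.1 hr, mul_one, map_zpow]
    refine ⟨i, htriv (mul_mem hh (zpow_mem hxN _)) ?_⟩
    have e : (⟨conjAut S E ⟨h * x ^ (-i), mul_mem hh (zpow_mem hxN _)⟩, hA _ _⟩ : autInducedBy S E) =
        ⟨conjAut S E ⟨h, hh⟩, hA h hh⟩ * ⟨y, hA x hxN⟩ ^ (-i) := Subtype.ext (by
      show conjAut S E (⟨h, hh⟩ * ⟨x, hxN⟩ ^ (-i)) =
        conjAut S E ⟨h, hh⟩ * conjAut S E ⟨x, hxN⟩ ^ (-i)
      rw [map_mul, map_zpow])
    rw [e, map_mul, map_zpow, hi, hyδ, ← zpow_add, add_neg_cancel, zpow_zero]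
  · exact hcl.1 (hfix y (hA x hxN) z hzK).symm
  -- an invariant line would be the line fixed by `S`
  by_contra hcon
  rw [not_or] at hcon
  have hinv : ∀ α ∈ F.autGroup E, ∀ i : Fin 3, ∀ a ∈ (![frattini E, L, ⊤] : Fin 3 → Subgroup E) i,
      α a ∈ (![frattini E, L, ⊤] : Fin 3 → Subgroup E) i := fun α hα i a ha => by
    fin_cases i
    · exact frattini_inv α ha
    · exact hLinv α hα a ha
    · trivial
  have hAF : autInducedBy S E ≤ F.autGroup E := autInducedBy_le_autGroup hES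
  have hLK : L ≤ K := by
    intro a ha
    by_contra haK
    refine hxE (mem_of_trivial_mod hS hE hxN fun e => ?_)
    have hLK' : L ⊓ K = frattini E := by
      refine le_antisymm ?_ (le_inf hL hΦK)
      by_contra hcon'
      obtain ⟨b, hb, hb'⟩ := SetLike.not_le_iff_exists.1 hcon'
      refine hcon.2 (top_le_iff.1 ((hKmax a haK).ge.trans (sup_le (zpowers_le.2 ha) ?_)))
      have hKb : zpowers b ⊔ frattini E = K := by
        refine Subgroup.eq_of_le_of_card_ge (sup_le (zpowers_le.2 hb.2) hΦK) ?_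
        have d1 := CfsgLib.Solvable.card_lt_of_lt (show frattini E < zpowers b ⊔ frattini E from
          lt_of_le_of_ne le_sup_right fun e => hb' (by rw [e]; exact mem_sup_left (mem_zpowers b)))
        obtain ⟨i, hi⟩ := IsPGroup.iff_card.1 (hEp.to_subgroup (frattini E))
        obtain ⟨j, hj⟩ := IsPGroup.iff_card.1 (hEp.to_subgroup (zpowers b ⊔ frattini E : Subgroup E))
        rw [hi, hj, Nat.pow_lt_pow_iff_right hp1] at d1
        rw [hi, ← pow_succ'] at hKcard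
        rw [hj]
        exact hKcard.trans (Nat.pow_le_pow_right hp.out.pos d1)
      exact hKb ▸ sup_le (zpowers_le.2 hb.1) hL
    have h1 : a⁻¹ * y a ∈ frattini E := hLK' ▸
      ⟨mul_mem (Subgroup.inv_mem _ ha) (hLinv y (hAF (hA x hxN)) a ha), hdisp y (hA x hxN) a⟩
    have hle : zpowers a ⊔ K ≤ (π.comp y.toMonoidHom).eqLocus π :=
      sup_le (zpowers_le.2 (hcl.2 h1).symm) fun b hb => hfix y (hA x hxN) b hb
    exact hcl.1 (Eq.symm (hle ((hKmax a haK).ge (mem_top e))))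
  have hLeq : L = K := by
    refine Subgroup.eq_of_le_of_card_ge hLK ?_
    have d1 := CfsgLib.Solvable.card_lt_of_lt (lt_of_le_of_ne hL (Ne.symm hcon.1))
    obtain ⟨i, hi⟩ := IsPGroup.iff_card.1 (hEp.to_subgroup (frattini E))
    obtain ⟨j, hj⟩ := IsPGroup.iff_card.1 (hEp.to_subgroup L)
    rw [hi, hj, Nat.pow_lt_pow_iff_right hp1] at d1
    rw [hi, ← pow_succ'] at hKcard
    rw [hj]
    exact hKcard.trans (Nat.pow_le_pow_right hp.out.pos d1)
  refine hxE (mem_of_frattini_chain hS hE (m := 2) ![frattini E, L, ⊤] rfl rfl hinv hxN fun i a ha => ?_)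
  fin_cases i
  · exact hcl.1 (hfix y (hA x hxN) a (hLK ha)).symm
  · exact hLeq ▸ hdisp y (hA x hxN) a

end CfsgLib.Fusion.RankThree
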