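import Cfsg.Agent.Fusion.RankThree.Frame
import Cfsg.Agent.Fusion.RankThree.ClassTwo

/-!
An element moving the frame gives an elementary abelian section of order `p ^ 4`.
-/

set_option autoImplicit false
set_option linter.unusedSectionVars false

open Subgroup
open scoped commutatorElement

namespace CfsgLib.Fusion.RankThree

variable {p : ℕ} [hp : Fact p.Prime] {Q T : Type*} [Group Q] [Group T] {X A Z U : Q}

/-- The four elements. -/
theorem pure_section (fr : Frame p X A Z U) (κ : Q →* T) (hκ : Function.Injective κ)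
    {μ : ℤ} (hμ1 : ¬ (p : ℤ) ∣ μ - 1) (hμ2 : ¬ (p : ℤ) ∣ μ ^ 2 - 1) (hμ3 : ¬ (p : ℤ) ∣ μ ^ 3 - 1)
    (hμ5 : ¬ (p : ℤ) ∣ μ ^ 5 - 1) (hμ0 : ¬ (p : ℤ) ∣ μ) {k : ℕ} (hk : (p : ℤ) ∣ (k : ℤ) - μ ^ 3)
    (τ f : MulAut Q) (hτX : fr.chi (τ X) = (((μ ^ 2 : ℤ) : ZMod p), 0)) (hτZ : τ Z = Z ^ μ)
    (hτU : τ U = U) (hfX : fr.chi (f X) = (1, 0)) (hfA : fr.chi (f A) = (1, 1)) (hfZ : f Z = Z)
    (hfU : ∃ e : ℤ, f U = U * Z ^ e) (B : T →* T) (hB : ∀ q, B (κ q) = κ (τ q)) (H : T)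
    (hH : ∀ q, H * κ q * H⁻¹ = κ (f q)) (hHp : H ^ p ∈ κ.range) (hHn : H ∉ κ.range)
    (hBH : ∃ q, B H = κ q * H ^ k) :
    ∃ a : Fin 4 → T, (∀ i j, Commute (a i) (a j)) ∧ (∀ i, a i ^ p = 1) ∧ Indep4 p a := by
  obtain ⟨e, hfU⟩ := hfU
  obtain ⟨a, b, hfX'⟩ : ∃ a b : ℤ, f X = X * (Z ^ a * U ^ b) := by
    obtain ⟨a, b, h⟩ := fr.center_form (fr.center_of_chi (q := X⁻¹ * f X) (by
      rw [fr.chi_mul, ← zpow_neg_one, fr.chi_zpow, fr.chi_X, hfX]; simp))
    exact ⟨a, b, by rw [← h, mul_inv_cancel_left]⟩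
  -- kill the derived coordinate
  obtain ⟨H', f', hH', hf'X, hf'A, hf'Z, hf'U, hHp', hHn', hBH'⟩ : ∃ (H' : T) (f' : MulAut Q),
      (∀ q, H' * κ q * H'⁻¹ = κ (f' q)) ∧ f' X = X * U ^ b ∧ fr.chi (f' A) = (1, 1) ∧ f' Z = Z ∧
      f' U = U * Z ^ e ∧ H' ^ p ∈ κ.range ∧ H' ∉ κ.range ∧ ∃ q, B H' = κ q * H' ^ k := by
    set R := κ.range
    have hR : ∀ n : ℕ, ∀ r ∈ R, H ^ n * r * (H ^ n)⁻¹ ∈ R := by
      intro n
      induction n with
      | zero => intro r hr; simpa using hr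
      | succ n ih =>
        intro r hr
        obtain ⟨q, hq⟩ := ih r hr
        refine ⟨f q, ?_⟩
        rw [← hH, hq, pow_succ']
        group
    obtain ⟨w, hw⟩ : ∃ w : T, w = κ (A ^ a) := ⟨_, rfl⟩
    have hwR : w ∈ R := hw ▸ ⟨_, rfl⟩
    have hpow : ∀ n : ℕ, ∃ r ∈ R, (H * w) ^ n = r * H ^ n := by
      intro n
      induction n with
      | zero => exact ⟨1, one_mem _, by simp⟩
      | succ n ih =>
        obtain ⟨r, hr, ih⟩ := ih
        refine ⟨r * (H ^ (n + 1) * w * (H ^ (n + 1))⁻¹), mul_mem hr (hR _ _ hwR), ?_⟩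
        rw [pow_succ (H * w), ih, pow_succ H]
        group
    refine ⟨H * w, f * MulAut.conj (A ^ a), fun q => ?_, ?_, ?_, ?_, ?_, ?_, ?_, ?_⟩
    · rw [hw, MulAut.mul_apply, ← hH, MulAut.conj_apply, map_mul, map_mul, map_inv]
      group
    · have h := fr.comm_eq 0 a 1 0 (one_mem _) (one_mem (center Q))
      simp only [zpow_zero, zpow_one, one_mul, mul_one, mul_zero, zero_sub] at h
      rw [MulAut.mul_apply, MulAut.conj_apply,
        show A ^ a * X * (A ^ a)⁻¹ = ⁅A ^ a, X⁆ * X by rw [commutatorElement_def]; group,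
        h, map_mul, map_zpow, hfZ, hfX', ← mul_assoc (Z ^ (-a)),
        (fr.commute_center (zpow_mem fr.cZ (-a)) X).eq, mul_assoc X, ← mul_assoc (Z ^ (-a)),
        ← zpow_add, neg_add_cancel, zpow_zero, one_mul]
    · rw [MulAut.mul_apply, MulAut.conj_apply, ((Commute.refl A).zpow_left a).eq,
        mul_inv_cancel_right, hfA]
    · rw [MulAut.mul_apply, MulAut.conj_apply, ((fr.commute_center fr.cZ _).symm).eq,
        mul_inv_cancel_right, hfZ]
    · rw [MulAut.mul_apply, MulAut.conj_apply, ((fr.commute_center fr.cU _).symm).eq,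
        mul_inv_cancel_right, hfU]
    · obtain ⟨r, hr, e'⟩ := hpow p
      rw [e']; exact mul_mem hr hHp
    · exact fun h => hHn ((Subgroup.mul_mem_cancel_right _ hwR).1 h)
    · obtain ⟨q, hq⟩ := hBH
      obtain ⟨r, hr, e'⟩ := hpow k
      obtain ⟨v, hv⟩ := mul_mem (mul_mem (show κ q ∈ R from ⟨q, rfl⟩)
        (hR k _ (show κ (τ (A ^ a)) ∈ R from ⟨_, rfl⟩))) (inv_mem hr)
      refine ⟨v, ?_⟩
      rw [map_mul, hw, hB, hq, hv, ← hw, e']
      group
  clear hH hfX hfX' hfA hfZ hfU hHp hHn hBH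
  obtain ⟨q, hBq⟩ := hBH'
  have hdvd : ∀ {m : ℤ}, U ^ m ∈ zpowers Z → (p : ℤ) ∣ m := by
    intro m hm
    obtain ⟨j, hj⟩ := mem_zpowers_iff.1 hm
    exact (fr.indep 0 0 (-j) m (by simp [← hj])).2.2.2
  have hpz : Prime (p : ℤ) := Nat.prime_iff_prime_int.1 hp.out
  -- iterates
  have hconj : ∀ (n : ℕ) (y : Q), H' ^ n * κ y * (H' ^ n)⁻¹ = κ ((f' ^ n) y) := by
    intro n
    induction n with
    | zero => simp
    | succ n ih =>
      intro y
      rw [pow_succ', pow_succ' f', MulAut.mul_apply, ← hH', ← ih]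
      group
  have hit : ∀ n : ℕ, (f' ^ n) Z = Z ∧ (f' ^ n) U = U * Z ^ (e * n) ∧
      ∃ s : ℤ, (f' ^ n) X = X * (Z ^ s * U ^ (b * n)) := by
    intro n
    induction n with
    | zero => exact ⟨by simp, by simp, 0, by simp⟩
    | succ n ih =>
      obtain ⟨i1, i2, s, i3⟩ := ih
      refine ⟨by rw [pow_succ', MulAut.mul_apply, i1, hf'Z], ?_, s + e * (b * n), ?_⟩
      · rw [pow_succ', MulAut.mul_apply, i2, map_mul, map_zpow, hf'U, hf'Z, mul_assoc, ← zpow_add]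
        congr 2
        push_cast; ring
      · rw [pow_succ', MulAut.mul_apply, i3, map_mul, map_mul, map_zpow, map_zpow, hf'X, hf'Z, hf'U,
          (fr.commute_center fr.cU (Z ^ e)).mul_zpow, ← zpow_mul, zpow_add Z,
          Nat.cast_succ, mul_add b, mul_one, zpow_add U]
        have c1 := fr.commute_center (zpow_mem fr.cU b) (Z ^ s)
        calc X * U ^ b * (Z ^ s * (U ^ (b * ↑n) * Z ^ (e * (b * ↑n))))
            = X * (U ^ b * Z ^ s) * (U ^ (b * ↑n) * Z ^ (e * (b * ↑n))) := by group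
          _ = X * Z ^ s * (U ^ b * U ^ (b * ↑n) * Z ^ (e * (b * ↑n))) := by rw [c1.eq]; group
          _ = X * Z ^ s * (Z ^ (e * (b * ↑n)) * (U ^ (b * ↑n) * U ^ b)) := by
              rw [(fr.commute_center (zpow_mem fr.cZ (e * (b * ↑n))) _).eq,
                ((Commute.refl U).zpow_zpow b (b * ↑n)).eq]
          _ = X * (Z ^ s * Z ^ (e * (b * ↑n)) * (U ^ (b * ↑n) * U ^ b)) := by group
  -- transported relations
  have hrel : ∀ y, q * (f' ^ k) (τ y) * q⁻¹ = τ (f' y) := fun y => hκ (by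
    have := congrArg B (hH' y)
    rw [map_mul, map_mul, map_inv, hB, hB, hBq] at this
    rw [← this, map_mul, map_mul, map_inv, ← hconj]
    group)
  have hcen : ∀ {c : Q}, c ∈ center Q → q * c * q⁻¹ = c := fun hc => by
    rw [((fr.commute_center hc q).symm).eq, mul_inv_cancel_right]
  obtain ⟨hkZ, hkU, s, hkX⟩ := hit k
  have he : e = 0 ∨ (p : ℤ) ∣ e := Or.inr <| by
    have h := hrel U
    rw [hτU, hkU, hcen (mul_mem fr.cU (zpow_mem fr.cZ _)), hf'U, map_mul, map_zpow, hτU, hτZ,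
      ← zpow_mul, mul_left_cancel_iff] at h
    have h0 : (p : ℤ) ∣ e * k - μ * e := (fr.indep 0 0 (e * k - μ * e) 0 (by
      simp [zpow_sub, h])).2.2.1
    refine ((hpz.dvd_mul (a := e) (b := μ ^ 3 - μ)).1 ?_).resolve_right fun hd => ?_
    · obtain ⟨r, hr⟩ := h0
      obtain ⟨r', hr'⟩ := hk
      exact ⟨r - e * r', by linear_combination hr - e * hr'⟩
    · rw [show μ ^ 3 - μ = μ * (μ ^ 2 - 1) by ring] at hd
      exact (hpz.dvd_or_dvd hd).elim hμ0 hμ2
  have hf'U' : f' U = U := by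
    rw [hf'U, fr.pow_p_eq (y := Z) (i := e) (j := 0) (by rw [sub_zero]; exact he.elim (fun h => h ▸ dvd_zero _) id),
      zpow_zero, mul_one]
  obtain ⟨i, j, c, hc, eX, hχ⟩ := fr.exists_form (τ X)
  rw [hτX, Prod.ext_iff] at hχ
  obtain ⟨hi, hj⟩ := hχ
  simp only at hi hj
  rw [fr.pow_p_eq (y := A) (i := j) (j := 0) (by
      rw [sub_zero, ← ZMod.intCast_zmod_eq_zero_iff_dvd, ← hj]), zpow_zero, mul_one,
    fr.pow_p_eq (y := X) (i := i) (j := μ ^ 2) (by
      rw [← ZMod.intCast_zmod_eq_zero_iff_dvd, Int.cast_sub, ← hi, sub_self])] at eX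
  obtain ⟨k₀, l₀, hc'⟩ := fr.center_form hc
  have hkU' : (f' ^ k) U = U := by
    rw [hkU, fr.pow_p_eq (y := Z) (i := e * k) (j := 0) (by
      rw [sub_zero]; exact dvd_mul_of_dvd_left (he.elim (fun h => h ▸ dvd_zero _) id) _), zpow_zero, mul_one]
  have hkc : (f' ^ k) c = c := by rw [hc', map_mul, map_zpow, map_zpow, hkZ, hkU']
  have hX1 := hrel X
  rw [hf'X, map_mul, map_zpow, hτU, eX, map_mul, map_zpow, hkc, hkX,
    (fr.commute_center (fr.zu_mem s (b * k)) X).symm.mul_zpow,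
    (fr.commute_center (zpow_mem fr.cZ s) _).mul_zpow, ← zpow_mul, ← zpow_mul] at hX1
  obtain ⟨iq, jq, cq, hcq, eq', hχq⟩ := fr.exists_form q
  have hzu : Z ^ (s * μ ^ 2) * U ^ (b * k * μ ^ 2) ∈ center Q := fr.zu_mem _ _
  have hconjX : q * X ^ (μ ^ 2) * q⁻¹ = Z ^ (-(jq * μ ^ 2)) * X ^ (μ ^ 2) := by
    have h := fr.comm_eq iq jq (μ ^ 2) 0 hcq (one_mem (center Q))
    simp only [zpow_zero, mul_one, mul_zero, zero_sub, ← eq', commutatorElement_def] at h
    rw [← h]; group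
  have hX2 : Z ^ (s * μ ^ 2 - jq * μ ^ 2) * U ^ (b * k * μ ^ 2 - b) = 1 := by
    have e1 : q * (X ^ (μ ^ 2) * (Z ^ (s * μ ^ 2) * U ^ (b * k * μ ^ 2)) * c) * q⁻¹ =
        (q * X ^ (μ ^ 2) * q⁻¹) * ((Z ^ (s * μ ^ 2) * U ^ (b * k * μ ^ 2)) * c) := by
      conv_rhs => rw [← hcen (mul_mem hzu hc)]
      group
    rw [e1, hconjX, (fr.commute_center (zpow_mem fr.cZ (-(jq * μ ^ 2))) _).eq] at hX1
    simp only [mul_assoc, mul_left_cancel_iff] at hX1
    rw [← (fr.commute_center (zpow_mem fr.cU b) c).eq] at hX1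
    have h5 : Z ^ (-(jq * μ ^ 2)) * (Z ^ (s * μ ^ 2) * U ^ (b * k * μ ^ 2)) * c = U ^ b * c := by
      simp only [mul_assoc]; exact hX1
    rw [mul_right_cancel_iff, ← mul_assoc, ← zpow_add] at h5
    rw [sub_eq_add_neg (b * k * μ ^ 2), zpow_add, zpow_neg, ← mul_assoc,
      show s * μ ^ 2 - jq * μ ^ 2 = -(jq * μ ^ 2) + s * μ ^ 2 by ring, h5, mul_inv_cancel]
  obtain ⟨-, -, hjs, hb⟩ := fr.indep 0 0 _ _ (by simpa using hX2)
  have hb : (p : ℤ) ∣ b := by
    refine ((hpz.dvd_mul (a := b) (b := μ ^ 5 - 1)).1 ?_).resolve_right hμ5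
    obtain ⟨r, hr⟩ := hb
    obtain ⟨r', hr'⟩ := hk
    exact ⟨r - b * μ ^ 2 * r', by linear_combination hr - b * μ ^ 2 * hr'⟩
  have hf'X' : f' X = X := by
    rw [hf'X, fr.pow_p_eq (y := U) (i := b) (j := 0) (by rwa [sub_zero]), zpow_zero, mul_one]
  have hfix : ∀ {y}, (fr.chi y).2 = 0 → f' y = y := by
    intro y hy
    obtain ⟨i, j, v, hv, ey, hχy⟩ := fr.exists_form y
    rw [hχy] at hy
    obtain ⟨k₁, l₁, hv'⟩ := fr.center_form hv
    rw [ey, fr.pow_p_eq (y := A) (i := j) (j := 0)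
      (by rw [sub_zero, ← ZMod.intCast_zmod_eq_zero_iff_dvd]; exact hy), zpow_zero, mul_one, hv',
      map_mul, map_mul, map_zpow, map_zpow, map_zpow, hf'X', hf'Z, hf'U']
  have hfixn : ∀ {y}, (fr.chi y).2 = 0 → ∀ n : ℕ, (f' ^ n) y = y := fun {y} hy n => by
    induction n with
    | zero => simp
    | succ n ih => rw [pow_succ, MulAut.mul_apply, hfix hy, ih]
  have hs : (p : ℤ) ∣ s := by
    have h := hfixn (y := X) (by rw [fr.chi_X]) k
    rw [hkX] at h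
    exact (fr.indep 0 0 s (b * k) (by simpa using h)).2.2.1
  have hq2 : (fr.chi q).2 = 0 := by
    rw [hχq]
    show (jq : ZMod p) = 0
    rw [ZMod.intCast_zmod_eq_zero_iff_dvd]
    have h1 : (p : ℤ) ∣ jq * μ ^ 2 := by
      obtain ⟨r, hr⟩ := hjs
      obtain ⟨r', hr'⟩ := hs
      exact ⟨μ ^ 2 * r' - r, by linear_combination μ ^ 2 * hr' - hr⟩
    exact ((hpz.dvd_mul).1 h1).resolve_right fun h => hμ0 (hpz.dvd_of_dvd_pow h)
  -- the power
  obtain ⟨r, hr⟩ := hHp'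
  have hfr : f' r = r := hκ (by
    rw [← hH', hr]
    group)
  have hr2 : (fr.chi r).2 = 0 := by
    have h := (fr.chi_apply f' r).1
    rw [hfr] at h
    simp [Frame.mat, hf'X', fr.chi_X, hf'A] at h
    exact h
  have hcomm : Commute (κ q) (H' ^ k) := by
    have h := hconj k q
    rw [hfixn hq2 k, mul_inv_eq_iff_eq_mul] at h
    exact h.symm
  have hτr : τ r = r ^ k := hκ (by
    rw [← hB, hr, map_pow, hBq, hcomm.mul_pow, ← map_pow κ q, fr.exp, map_one, one_mul, map_pow κ r, hr,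
      ← pow_mul, ← pow_mul, mul_comm])
  have hr1 : r = 1 := by
    obtain ⟨i₂, j₂, v, hv, er, hχr⟩ := fr.exists_form r
    rw [hχr] at hr2
    simp only [ZMod.intCast_zmod_eq_zero_iff_dvd] at hr2
    rw [fr.pow_p_eq (y := A) (i := j₂) (j := 0) (by rwa [sub_zero]), zpow_zero, mul_one] at er
    obtain ⟨k₂, l₂, hv'⟩ := fr.center_form hv
    have hi2 : (p : ℤ) ∣ i₂ := by
      have h := congrArg (fun y => (fr.chi y).1) hτr
      rw [er, map_mul, map_zpow, ← zpow_natCast] at h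
      have hτv : τ v ∈ center Q := Subgroup.characteristic_iff_le_comap.1 inferInstance τ hv
      simp only [fr.chi_mul, fr.chi_zpow, hτX, fr.chi_X, fr.chi_center hv, fr.chi_center hτv] at h
      simp at h
      refine ((hpz.dvd_mul (a := i₂) (b := μ ^ 2 * (μ - 1))).1 ?_).resolve_right fun hd =>
        (hpz.dvd_or_dvd hd).elim (fun h => hμ0 (hpz.dvd_of_dvd_pow h)) hμ1
      obtain ⟨r', hr'⟩ := hk
      have h' : (p : ℤ) ∣ i₂ * μ ^ 2 - k * i₂ := by
        rw [← ZMod.intCast_zmod_eq_zero_iff_dvd]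
        push_cast at h ⊢
        linear_combination h
      obtain ⟨r'', hr''⟩ := h'
      exact ⟨-i₂ * r' - r'', by linear_combination -i₂ * hr' - hr''⟩
    rw [fr.pow_p_eq (y := X) (i := i₂) (j := 0) (by rwa [sub_zero]), zpow_zero, one_mul] at er
    subst er
    rw [hv', map_mul, map_zpow, map_zpow, hτZ, hτU, ← zpow_natCast,
      (fr.commute_center (zpow_mem fr.cZ k₂) _).mul_zpow, ← zpow_mul, ← zpow_mul, ← zpow_mul] at hτr
    obtain ⟨-, -, hz, hu⟩ := fr.indep 0 0 (μ * k₂ - k₂ * k) (l₂ - l₂ * k) (by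
      rw [zpow_zero, zpow_zero, one_mul, one_mul, zpow_sub, zpow_sub, mul_assoc,
        ← mul_assoc (Z ^ (k₂ * ↑k))⁻¹,
        (fr.commute_center (inv_mem (zpow_mem fr.cZ (k₂ * ↑k))) (U ^ l₂)).eq, ← mul_assoc,
        ← mul_assoc, hτr, (fr.commute_center (zpow_mem fr.cZ (k₂ * ↑k)) (U ^ (l₂ * ↑k))).eq]
      group)
    have hz' : (p : ℤ) ∣ k₂ := by
      refine ((hpz.dvd_mul (a := k₂) (b := μ * (μ ^ 2 - 1))).1 ?_).resolve_right fun hd =>
        (hpz.dvd_or_dvd hd).elim hμ0 hμ2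
      obtain ⟨r, hr⟩ := hz
      obtain ⟨r', hr'⟩ := hk
      exact ⟨-r - k₂ * r', by linear_combination -hr - k₂ * hr'⟩
    have hu' : (p : ℤ) ∣ l₂ := by
      refine ((hpz.dvd_mul (a := l₂) (b := μ ^ 3 - 1)).1 ?_).resolve_right hμ3
      obtain ⟨r, hr⟩ := hu
      obtain ⟨r', hr'⟩ := hk
      exact ⟨-r - l₂ * r', by linear_combination -hr - l₂ * hr'⟩
    rw [hv', fr.pow_p_eq (y := Z) (i := k₂) (j := 0) (by rwa [sub_zero]),
      fr.pow_p_eq (y := U) (i := l₂) (j := 0) (by rwa [sub_zero]), zpow_zero, zpow_zero, one_mul]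
  have hcH : ∀ {y}, (fr.chi y).2 = 0 → Commute H' (κ y) := fun {y} hy => by
    have h := hH' y
    rw [hfix hy, mul_inv_eq_iff_eq_mul] at h
    exact h
  have cX := hcH (y := X) (by rw [fr.chi_X])
  have cU := hcH (y := U) (by rw [fr.chi_center fr.cU]; rfl)
  have cZ := hcH (y := Z) (by rw [fr.chi_center fr.cZ]; rfl)
  refine ⟨![H', κ X, κ U, κ Z], fun i j => ?_, fun i => ?_, fun d hd => ?_⟩
  · have m : ∀ {y y' : Q}, Commute y y' → Commute (κ y) (κ y') := fun h => h.map κ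
    have xu := (fr.commute_center fr.cU X).symm
    have xz := (fr.commute_center fr.cZ X).symm
    have uz := fr.commute_center fr.cU Z
    fin_cases i <;> fin_cases j
    exacts [Commute.refl _, cX, cU, cZ, cX.symm, Commute.refl _, m xu, m xz, cU.symm, (m xu).symm,
      Commute.refl _, m uz, cZ.symm, (m xz).symm, (m uz).symm, Commute.refl _]
  · fin_cases i
    · show H' ^ p = 1
      rw [← hr, hr1, map_one]
    all_goals (show (κ _) ^ p = 1; rw [← map_pow, fr.exp, map_one])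
  · simp only [Matrix.cons_val_zero, Matrix.cons_val_one, Matrix.cons_val] at hd
    have h0 : (p : ℤ) ∣ d 0 := by
      refine dvd_of_zpow_mem (H := κ.range) ⟨r, hr⟩ hHn' ⟨(X ^ d 1 * U ^ d 2 * Z ^ d 3)⁻¹, ?_⟩
      rw [map_inv, map_mul, map_mul, map_zpow, map_zpow, map_zpow, inv_eq_iff_mul_eq_one]
      rw [mul_eq_one_comm, ← mul_assoc, ← mul_assoc]
      exact hd
    rw [zpow_congr (x := H') (i := d 0) (j := 0) (by rw [← hr, hr1, map_one]) (by rwa [sub_zero]),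
      zpow_zero, one_mul, ← map_zpow, ← map_zpow, ← map_zpow, ← map_mul, ← map_mul,
      map_eq_one_iff κ hκ, mul_assoc, (fr.commute_center (zpow_mem fr.cU (d 2)) _).eq] at hd
    obtain ⟨hd1, -, hd3, hd2⟩ := fr.indep (d 1) 0 (d 3) (d 2) (by simpa [mul_assoc] using hd)
    intro i
    fin_cases i
    exacts [h0, hd1, hd2, hd3]

end CfsgLib.Fusion.RankThree
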