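import Cfsg.Agent.Fusion.RankThree.CentralTop
import Cfsg.Agent.Fusion.RankThree.Cases

/-!
The reducible essential subgroups with three generators.
-/

set_option autoImplicit false
set_option linter.unusedSectionVars false
set_option linter.style.haveILetI false

open Cfsg Cfsg.FusionSystem Subgroup
open scoped commutatorElement

namespace CfsgLib.Fusion.RankThree

universe u

theorem aut_transport {Ω : Type u} [Group Ω] {S : Subgroup Ω} {F : FusionSystem S} {T T' : Subgroup Ω}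
    (h : T = T') (β : MulAut T) (hβ : β ∈ F.autGroup T) :
    ∃ β' ∈ F.autGroup T', ∀ (a : T) (b : T'), (a : Ω) = b → ((β a : T) : Ω) = (β' b : T') := by
  subst h
  exact ⟨β, hβ, fun a b e => by rw [show a = b from Subtype.ext e]⟩

theorem aut_transport' {Ω : Type u} [Group Ω] {T T' : Subgroup Ω} (h : T = T') (β : MulAut T') :
    ∃ β' : MulAut T, ∀ (a : T) (b : T'), (a : Ω) = b → ((β' a : T) : Ω) = (β b : T') := by
  subst h
  exact ⟨β, fun a b e => by rw [show a = b from Subtype.ext e]⟩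

variable {Ω : Type u} [Group Ω] {S : Subgroup Ω} [Finite S] {p : ℕ} [hp : Fact p.Prime]
  {F : FusionSystem S}

/-- The Frattini subgroup as a subgroup of the ambient group. -/
abbrev fratImg (E : Subgroup Ω) : Subgroup Ω := (frattini E).map E.subtype

/-- What the reducible case gives. -/
structure Red (F : FusionSystem S) (p : ℕ) (E : Subgroup Ω) extends Split F p E where
  hN : normalizerIn S E = S
  isCover : Cover S p E x
  fix : ∀ v ∈ zpowers u ⊔ frattini E, (∀ g ∈ S, Commute g (v : Ω)) ∧ τ v = v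
  uS : (u : Ω) ∈ S
  u_cen : (⟨(u : Ω), uS⟩ : S) ∈ center S
  u_not : (⟨(u : Ω), uS⟩ : S) ∉ frattini S
  inv : ∀ α : MulAut S, ∀ a : S, (a : Ω) ∈ fratImg E → ((α a : S) : Ω) ∈ fratImg E
  sub : ∀ M x', F.IsEssential p M → Cover S p M x' → (u : Ω) ∈ M → fratImg M ≤ fratImg E
  center_form : frattini E = ⊥ → ∀ a : S, a ∈ center S → ∃ i j : ℤ, (a : Ω) = (z ^ i * u ^ j : E)
  comm_form : frattini E = ⊥ → ∀ g ∈ S, ∀ h ∈ S, ∃ i : ℤ, ⁅g, h⁆ = ((z ^ i : E) : Ω)
  ext : ∃ β ∈ F.autGroup S, ∀ (a : E) (b : S), (a : Ω) = b → ((τ a : E) : Ω) = (β b : S)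

set_option maxHeartbeats 800000 in
theorem exists_red (hS : IsPGroup p S) (hF : F.IsSaturated p) (hp5 : 5 ≤ p) {E : Subgroup Ω}
    (hE : F.IsEssential p E) (hidx : (frattini E).index = p ^ 3) (hirr : ¬ IsIrredTop F E)
    (hsr : Cfsg.SectionalPRankLE p 3 S) : Nonempty (Red F p E) := by
  classical
  have hES := hE.1.1
  have := finite_of_le hES
  have hEp := isPGroup_of_le hS hES
  have hsrE : Cfsg.SectionalPRankLE p 3 E :=
    sectional_of_injective (Subgroup.inclusion hES) (Subgroup.inclusion_injective hES) hsr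
  obtain ⟨d⟩ : Nonempty (Split F p E) := by
    simp only [IsIrredTop] at hirr
    push Not at hirr
    obtain ⟨L, hL, hinv, hne, hnt⟩ := hirr
    exact exists_split hS hF hp5 hE hidx
      ⟨L, lt_of_le_of_ne hL (Ne.symm hne), lt_top_iff_ne_top.2 hnt, hinv⟩
  have hN := normalizer_eq_three hS hF hp5 hE hidx hsr
  have hpz : Prime (p : ℤ) := Nat.prime_iff_prime_int.1 hp.out
  have hcov : Cover S p E d.x := ⟨hES, d.hxN.1, pow_mem_of_flag hS (by omega) hE hidx d.hxN,
    fun g hg e he => (Subgroup.mem_normalizer_iff.1 (hN.ge hg).2 e).1 he,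
    fun h hh => d.cover h (hN.ge hh)⟩
  have hfix : ∀ v ∈ zpowers d.u ⊔ frattini E, (∀ g ∈ S, Commute g (v : Ω)) ∧ d.τ v = v := by
    intro v hv
    obtain ⟨h1, h2, h3⟩ := central_top hS hp5 hE hidx hsrE d v hv
    refine ⟨fun g hg => ?_, h2⟩
    set Z := centralizer ({(v : Ω)} : Set Ω)
    have hEZ : ∀ {w : Ω}, w ∈ E → w ∈ Z := fun {w} hw =>
      mem_centralizer_singleton_iff.2 (congrArg Subtype.val (mem_center_iff.1 h1 ⟨w, hw⟩))
    have hxZ : d.x ∈ Z := mem_centralizer_singleton_iff.2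
      (mul_inv_eq_iff_eq_mul.1 (congrArg Subtype.val h3))
    obtain ⟨i, hi⟩ := hcov.cover g hg
    exact mem_centralizer_singleton_iff.1
      ((Subgroup.mul_mem_cancel_right _ (zpow_mem hxZ (-i))).1 (hEZ hi))
  obtain ⟨Fr, hFrn, X, A, Z, U, bar, τN, fr, ⟨hFr, hZ, hU, hτι⟩, -, hbar, hEiff, hτN, -, -, -, -⟩ :=
    norm_frame_full hS hF hp5 hE hidx hsrE d
  haveI := hFrn
  let ι : E →* normalizerIn S E := Subgroup.inclusion (le_normalizerIn hE.1.1)
  set π := QuotientGroup.mk' Fr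
  have hker : ∀ {g : normalizerIn S E}, g ∈ Fr ↔ π g = 1 := fun {g} =>
    (QuotientGroup.eq_one_iff g).symm
  have hmemFr : ∀ {g : normalizerIn S E}, g ∈ Fr ↔ (g : Ω) ∈ fratImg E := fun {g} => by
    rw [hFr]
    constructor
    · rintro ⟨a, ha, rfl⟩; exact ⟨a, ha, rfl⟩
    · rintro ⟨a, ha, e⟩; exact ⟨a, ha, Subtype.ext e⟩
  have hTN : ∀ {g : Ω}, g ∈ S → g ∈ normalizerIn S E := fun hg => hN.ge hg
  have hU1 : π (ι d.u) = U := hU.symm
  have hZ1 : π (ι d.z) = Z := hZ.symm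
  have hindU : U ∉ zpowers Z := fun h => by
    obtain ⟨k, hk⟩ := mem_zpowers_iff.1 h
    exact hpz.not_dvd_one (dvd_neg.1 (fr.indep 0 0 k (-1) (by
      rw [zpow_zero, zpow_zero, one_mul, one_mul, zpow_neg_one, hk, mul_inv_cancel])).2.2.2)
  haveI : (zpowers Z).Normal := ⟨fun v hv g => by
    rw [mem_center_iff.1 (zpowers_le.2 fr.cZ hv) g, mul_inv_cancel_right]; exact hv⟩
  refine ⟨{ d with
    hN := hN
    isCover := hcov
    fix := hfix
    uS := hES d.u.2
    u_cen := mem_center_iff.2 fun g => Subtype.ext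
      ((hfix d.u (mem_sup_left (mem_zpowers _))).1 g g.2).eq
    u_not := fun h => ?_
    inv := fun α a ha => ?_
    sub := fun M x' hM hcM hu => ?_
    center_form := fun hbot a ha => ?_
    comm_form := fun hbot g hg h hh => ?_
    ext := ?_ }⟩
  · -- the Frattini subgroup maps into the line of `Z`
    let e : S →* normalizerIn S E := Subgroup.inclusion hN.ge
    obtain ⟨hcS, hpS⟩ := CfsgLib.PGroupBasic.commutator_pow_le_frattini hS
    have hle : frattini S ≤ (zpowers Z).comap (π.comp e) := by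
      refine CfsgLib.PGroupBasic.frattini_le_of_elementary (p := p) _ ?_ fun g => ?_
      · rw [_root_.commutator_def, commutator_le]
        intro g _ g' _
        show π (e ⁅g, g'⁆) ∈ zpowers Z
        rw [map_commutatorElement, map_commutatorElement]
        obtain ⟨i, j, c, hc, h1, -⟩ := fr.exists_form (π (e g))
        obtain ⟨i', j', c', hc', h2, -⟩ := fr.exists_form (π (e g'))
        rw [h1, h2, fr.comm_eq i j i' j' hc hc']
        exact zpow_mem_zpowers _ _
      · show π (e (g ^ p)) ∈ zpowers Z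
        rw [map_pow, map_pow, fr.exp]; exact one_mem _
    exact hindU (hU1 ▸ hle h)
  · obtain ⟨α', hα'⟩ := aut_transport' hN α
    have h1 : (⟨a, hTN a.2⟩ : normalizerIn S E) ∈ Fr := hmemFr.2 ha
    have h2 : α' ⟨a, hTN a.2⟩ ∈ Fr := hker.2 (by rw [← hbar, hker.1 h1, map_one])
    rw [← hα' ⟨a, hTN a.2⟩ a rfl]
    exact hmemFr.1 h2
  · -- another member containing the central pair has abelian image
    have hMS := hM.1.1
    have := finite_of_le hMS
    let e : M →* normalizerIn S E := Subgroup.inclusion (hMS.trans hN.ge)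
    set L := (π.comp e).range with hL
    have hzM : (d.z : Ω) ∈ M := by
      have e' : (d.z : Ω) = ⁅(d.n : Ω)⁻¹, d.x⁆ := by
        rw [d.z_def, commutatorElement_def]
        show (d.n : Ω)⁻¹ * (d.x * d.n * d.x⁻¹) = _
        group
      rw [e']
      exact hcM.comm_mem (inv_mem (hES d.n.2)) d.hxN.1
    have hFrM : fratImg E ≤ M := by
      rintro _ ⟨a, ha, rfl⟩
      have hle : frattini E ≤ M.comap E.subtype := by
        haveI : (M.comap E.subtype).Normal := ⟨fun v hv g => hcM.norm _ (hES g.2) _ hv⟩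
        refine CfsgLib.PGroupBasic.frattini_le_of_elementary (p := p) _ ?_ fun g =>
          hcM.pow_mem (hES g.2)
        rw [_root_.commutator_def, commutator_le]
        intro g _ g' _
        exact hcM.comm_mem (hES g.2) (hES g'.2)
      exact hle ha
    have hZL : Z ∈ L := ⟨⟨d.z, hzM⟩, hZ1⟩
    have hUL : U ∈ L := ⟨⟨d.u, hu⟩, hU1⟩
    have hlift : ∀ g : normalizerIn S E, π g ∈ L → (g : Ω) ∈ M := by
      rintro g ⟨w, hw⟩
      have h1 : (e w)⁻¹ * g ∈ Fr := QuotientGroup.eq.1 hw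
      have h2 := mul_mem w.2 (hFrM (hmemFr.1 h1))
      simpa [e] using h2
    have hLt : L ≠ ⊤ := fun h => (essential_lt p hS hF hM).not_ge fun g hg =>
      hlift ⟨g, hTN hg⟩ (h.ge (mem_top _))
    have hLc : ∀ q ∈ L, ∀ q' ∈ L, ⁅q, q'⁆ = 1 := by
      intro q hq q' hq'
      obtain ⟨i, j, c, hc, e1, -⟩ := fr.exists_form q
      obtain ⟨i', j', c', hc', e2, -⟩ := fr.exists_form q'
      rw [e1, e2, fr.comm_eq i j i' j' hc hc']
      by_contra hne
      have hΔ : ¬ (p : ℤ) ∣ i * j' - j * i' := fun h => hne (by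
        rw [fr.pow_p_eq (y := Z) (j := 0) (by rwa [sub_zero]), zpow_zero])
      refine hLt ((Subgroup.eq_top_iff' L).2 fun w => ?_)
      -- both coordinates of the pair are reached
      have hcL : ∀ {c : normalizerIn S E ⧸ Fr}, c ∈ center (normalizerIn S E ⧸ Fr) → c ∈ L := fun {c} hc => by
        obtain ⟨k, l, rfl⟩ := fr.center_form hc
        exact mul_mem (zpow_mem hZL k) (zpow_mem hUL l)
      obtain ⟨k, hk⟩ := solve_mod hΔ 1
      have hab : ∀ a b : ℤ, ∀ (s : ℤ × ℤ), (p : ℤ) ∣ a * i + b * i' - s.1 → (p : ℤ) ∣ a * j + b * j' - s.2 →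
          X ^ s.1 * A ^ s.2 ∈ L := by
        intro a b s h1 h2
        have hchi : fr.chi (q ^ a * q' ^ b) = fr.chi (X ^ s.1 * A ^ s.2) := by
          rw [fr.chi_mul, fr.chi_mul, fr.chi_zpow, fr.chi_zpow, fr.chi_zpow, fr.chi_zpow, fr.chi_X,
            fr.chi_A, fr.chi_eq hc e1, fr.chi_eq hc' e2]
          rw [← ZMod.intCast_zmod_eq_zero_iff_dvd] at h1 h2
          push_cast at h1 h2
          refine Prod.ext ?_ ?_ <;> simp
          · linear_combination h1
          · linear_combination h2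
        have hcen : (q ^ a * q' ^ b)⁻¹ * (X ^ s.1 * A ^ s.2) ∈ center (normalizerIn S E ⧸ Fr) := fr.center_of_chi (by
          rw [fr.chi_mul, ← zpow_neg_one, fr.chi_zpow, hchi, neg_one_zsmul, neg_add_cancel])
        rw [← mul_inv_cancel_left (q ^ a * q' ^ b) (X ^ s.1 * A ^ s.2)]
        exact mul_mem (mul_mem (zpow_mem hq a) (zpow_mem hq' b)) (hcL hcen)
      obtain ⟨t, ht⟩ := hk
      have hX : X ∈ L := by
        have := hab (j' * k) (-(j * k)) (1, 0) ⟨t, by linear_combination ht⟩ ⟨0, by ring⟩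
        simpa using this
      have hA : A ∈ L := by
        have := hab (-(i' * k)) (i * k) (0, 1) ⟨0, by ring⟩ ⟨t, by linear_combination ht⟩
        simpa using this
      obtain ⟨a, b, c0, hc0, rfl, -⟩ := fr.exists_form w
      exact mul_mem (mul_mem (zpow_mem hX a) (zpow_mem hA b)) (hcL hc0)
    rintro _ ⟨w, hw, rfl⟩
    have hle : frattini M ≤ Fr.comap e := by
      refine CfsgLib.PGroupBasic.frattini_le_of_elementary (p := p) _ ?_ fun g => ?_
      · rw [_root_.commutator_def, commutator_le]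
        intro g _ g' _
        refine hker.2 ?_
        rw [map_commutatorElement, map_commutatorElement]
        exact hLc _ ⟨g, rfl⟩ _ ⟨g', rfl⟩
      · refine hker.2 ?_
        rw [map_pow, map_pow, fr.exp]
    exact hmemFr.1 (hle hw : e w ∈ Fr)
  · have hFr1 : ∀ {g : normalizerIn S E}, g ∈ Fr → g = 1 := fun {g} hg => by
      rw [hFr, hbot, Subgroup.map_bot, mem_bot] at hg
      exact hg
    set a' : normalizerIn S E := ⟨a, hTN a.2⟩
    have hc : π a' ∈ center (normalizerIn S E ⧸ Fr) := mem_center_iff.2 fun v => by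
      obtain ⟨g, rfl⟩ := QuotientGroup.mk'_surjective Fr v
      rw [← map_mul, ← map_mul]
      refine congrArg π (Subtype.ext ?_)
      exact (congrArg Subtype.val (mem_center_iff.1 ha ⟨g, g.2.1⟩) : _)
    obtain ⟨k, l, e⟩ := fr.center_form hc
    refine ⟨k, l, ?_⟩
    rw [← hZ1, ← hU1] at e
    simp only [← map_zpow, ← map_mul] at e
    exact congrArg Subtype.val (inv_mul_eq_one.1 (hFr1 (QuotientGroup.eq.1 e.symm))).symm
  · have hFr1 : ∀ {g : normalizerIn S E}, g ∈ Fr → g = 1 := fun {g} hg => by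
      rw [hFr, hbot, Subgroup.map_bot, mem_bot] at hg
      exact hg
    obtain ⟨i, j, c, hc, e1, -⟩ := fr.exists_form (π ⟨g, hTN hg⟩)
    obtain ⟨i', j', c', hc', e2, -⟩ := fr.exists_form (π ⟨h, hTN hh⟩)
    refine ⟨i * j' - j * i', ?_⟩
    have e : π ⁅(⟨g, hTN hg⟩ : normalizerIn S E), ⟨h, hTN hh⟩⁆ = π (ι (d.z ^ (i * j' - j * i'))) := by
      rw [map_commutatorElement, e1, e2, fr.comm_eq i j i' j' hc hc', map_zpow, map_zpow, hZ1]
    exact congrArg Subtype.val (inv_mul_eq_one.1 (hFr1 (QuotientGroup.eq.1 e.symm))).symm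
  · obtain ⟨β, hβ, hβe⟩ := aut_transport hN τN hτN
    refine ⟨β, hβ, fun a b e => ?_⟩
    have h := hβe (ι a) b e
    rw [hτι] at h
    exact h

namespace Red

variable {E : Subgroup Ω} (d : Red F p E)
include d

theorem mem_of_essential {M : Subgroup Ω} (hM : F.IsEssential p M) {v : E}
    (hv : v ∈ zpowers d.u ⊔ frattini E) : (v : Ω) ∈ M :=
  hM.1.2 M (isConj_refl hM.1.1) ⟨d.isCover.le v.2, fun w hw => ((d.fix v hv).1 w (hM.1.1 hw)).eq⟩

theorem half {t : ℤ} (h : (p : ℤ) ∣ t + t) : (p : ℤ) ∣ t := by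
  have hpz : Prime (p : ℤ) := Nat.prime_iff_prime_int.1 hp.out
  rw [← two_mul] at h
  refine (hpz.dvd_or_dvd h).resolve_left fun h' => ?_
  have h2p : (p : ℤ) = 2 := by
    exact_mod_cast (Nat.prime_dvd_prime_iff_eq hp.out Nat.prime_two).1 (Int.natCast_dvd_natCast.1 h')
  have hμ1 := d.μ1
  obtain ⟨r, hr⟩ := d.μν
  rw [h2p] at hμ1 hr
  rcases Int.even_or_odd d.μ with ⟨s, hs⟩ | ⟨s, hs⟩
  · have : (2 : ℤ) ∣ (1 : ℤ) := ⟨s * d.ν - r, by rw [hs] at hr; linarith⟩
    exact absurd (Int.le_of_dvd one_pos this) (by norm_num)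
  · exact hμ1 ⟨s, by omega⟩

variable (hbot : frattini E = ⊥)
include hbot

theorem pow_eq_one (hS : IsPGroup p S) (e : E) : e ^ p = 1 := by
  have := finite_of_le d.isCover.le
  have := (CfsgLib.PGroupBasic.commutator_pow_le_frattini (isPGroup_of_le hS d.isCover.le)).2 e
  rwa [hbot, mem_bot] at this

theorem commute (hS : IsPGroup p S) (a b : E) : Commute a b := by
  have := finite_of_le d.isCover.le
  have := (CfsgLib.PGroupBasic.commutator_pow_le_frattini (isPGroup_of_le hS d.isCover.le)).1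
    (commutator_mem_commutator (mem_top a) (mem_top b))
  rwa [hbot, mem_bot, commutatorElement_eq_one_iff_commute] at this

theorem exact_weights : d.τ d.n = d.n ^ d.ν ∧ d.τ d.z = d.z ^ d.μ ∧ d.τ d.u = d.u := by
  refine ⟨?_, ?_, (d.fix _ (mem_sup_left (mem_zpowers _))).2⟩
  · have := d.τ_n
    rw [hbot, mem_bot, inv_mul_eq_one] at this
    exact this.symm
  · have := d.τ_z
    rw [hbot, mem_bot, inv_mul_eq_one] at this
    exact this.symm

/-- The line of the central generator is invariant under the automorphisms of the whole group. -/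
theorem line_fix (hS : IsPGroup p S) (hF : F.IsSaturated p) {α : MulAut S} (hα : α ∈ F.autGroup S) :
    ∃ k : ℤ, ((α ⟨d.u, d.uS⟩ : S) : Ω) = ((d.u ^ k : E) : Ω) := by
  classical
  have := finite_of_le d.isCover.le
  have : Finite (MulAut S) := finite_mulAut
  have hpz : Prime (p : ℤ) := Nat.prime_iff_prime_int.1 hp.out
  obtain ⟨hτn, hτz, hτu⟩ := d.exact_weights hbot
  obtain ⟨β, hβ, hβτ⟩ := d.ext
  let ι : E →* S := Subgroup.inclusion d.isCover.le
  have hι : Function.Injective ι := Subgroup.inclusion_injective d.isCover.le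
  have hβι : ∀ a : E, β (ι a) = ι (d.τ a) := fun a => Subtype.ext (hβτ a (ι a) rfl).symm
  have hdvd : ∀ i j : ℤ, d.z ^ i * d.u ^ j = 1 → (p : ℤ) ∣ i ∧ (p : ℤ) ∣ j := fun i j h => by
    have := d.indep 0 i j (by rw [zpow_zero, one_mul, h]; exact one_mem _)
    exact this.2
  have hzp : d.z ^ p = 1 := d.pow_eq_one hbot hS _
  have hup : d.u ^ p = 1 := d.pow_eq_one hbot hS _
  have hzu : Commute d.z d.u := d.commute hbot hS _ _
  -- `z` spans the commutators
  have hzcomm : ι d.z = ⁅(ι d.n)⁻¹, (⟨d.x, d.hxN.1⟩ : S)⁆ := by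
    refine Subtype.ext ?_
    show (d.z : Ω) = ⁅(d.n : Ω)⁻¹, d.x⁆
    rw [d.z_def, commutatorElement_def]
    show (d.n : Ω)⁻¹ * (d.x * d.n * d.x⁻¹) = _
    group
  have hzmap : ∀ γ : MulAut S, ∃ e : ℤ, γ (ι d.z) = ι (d.z ^ e) := fun γ => by
    obtain ⟨e, he⟩ := d.comm_form hbot _ (γ (ι d.n)⁻¹).2 _ (γ ⟨d.x, d.hxN.1⟩).2
    refine ⟨e, Subtype.ext ?_⟩
    rw [hzcomm, map_commutatorElement]
    exact he
  have humap : ∀ γ : MulAut S, ∃ a b : ℤ, γ (ι d.u) = ι (d.z ^ a * d.u ^ b) := fun γ => by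
    have h1 : γ (ι d.u) ∈ center S :=
      Subgroup.characteristic_iff_le_comap.1 inferInstance γ d.u_cen
    obtain ⟨a, b, h⟩ := d.center_form hbot _ h1
    exact ⟨a, b, Subtype.ext h⟩
  -- the inner automorphisms
  have hInn : (autInducedBy S S).subgroupOf (F.autGroup S) =
      ((Inn S).subgroupOf (F.autGroup S) : Subgroup (F.autGroup S)) := by rw [inn_eq_autInducedBy]
  obtain ⟨-, R, hR⟩ := (good_of_fullyNormalized p hS hF (isFullyNormalized_S (F := F))).1
  haveI hRn : (R : Subgroup (F.autGroup S)).Normal := by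
    rw [hR, hInn]
    refine ⟨fun γ hγ δ => ?_⟩
    obtain ⟨s, hs⟩ := hγ
    refine ⟨(δ : MulAut S) s, MulEquiv.ext fun v => ?_⟩
    have hs' : ((γ : F.autGroup S) : MulAut S) = MulAut.conj s := hs.symm
    show MulAut.conj ((δ : MulAut S) s) v = ((δ * γ * δ⁻¹ : F.autGroup S) : MulAut S) v
    simp [hs', MulAut.mul_apply]
  -- the inverse does not move the line
  suffices key : ∀ γ ∈ F.autGroup S, ∃ k : ℤ, γ⁻¹ (ι d.u) = ι (d.u ^ k) by
    obtain ⟨k, hk⟩ := key α⁻¹ (inv_mem hα)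
    rw [inv_inv] at hk
    exact ⟨k, congrArg Subtype.val hk⟩
  intro γ hγ
  obtain ⟨e, he⟩ := hzmap γ
  obtain ⟨a, b, hab⟩ := humap γ
  obtain ⟨e', he'⟩ := hzmap γ⁻¹
  obtain ⟨a', b', hab'⟩ := humap γ⁻¹
  set δ := γ * β * γ⁻¹ * β⁻¹ with hδdef
  have hβz : ∀ k : ℤ, β (ι (d.z ^ k)) = ι (d.z ^ (d.μ * k)) := fun k => by
    rw [hβι, map_zpow, hτz, ← zpow_mul]
  have hβu : ∀ k : ℤ, β (ι (d.u ^ k)) = ι (d.u ^ k) := fun k => by
    rw [hβι, map_zpow, hτu]
  have hγz : ∀ k : ℤ, γ (ι (d.z ^ k)) = ι (d.z ^ (e * k)) := fun k => by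
    rw [map_zpow ι, map_zpow γ, he, ← map_zpow ι, ← zpow_mul]
  have hee : (p : ℤ) ∣ e * e' - 1 := by
    have h1 : γ (γ⁻¹ (ι d.z)) = ι d.z := MulAut.apply_inv_self S γ _
    rw [he', hγz] at h1
    refine (hdvd (e * e' - 1) 0 ?_).1
    rw [zpow_zero, mul_one, zpow_sub, hι h1, zpow_one, mul_inv_cancel]
  have hβu' : β⁻¹ (ι d.u) = ι d.u := by
    conv_lhs => rw [show ι d.u = β (ι d.u) by rw [hβι, hτu]]
    rw [MulAut.inv_apply_self]
  have hδu : δ (ι d.u) = ι (d.z ^ (e * a' * (d.μ - 1))) * ι d.u := by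
    have h1 : γ (γ⁻¹ (ι d.u)) = ι d.u := MulAut.apply_inv_self S γ _
    rw [hab', map_mul ι, map_mul γ, hγz] at h1
    rw [hδdef, MulAut.mul_apply, MulAut.mul_apply, MulAut.mul_apply, hβu', hab', map_mul ι, map_mul β,
      hβz, hβu, map_mul γ, hγz]
    conv_rhs => rw [← h1, ← mul_assoc, ← map_mul ι, ← zpow_add]
    congr 3
    ring
  have hδz : δ (ι d.z) = ι d.z := by
    have hβz' : β⁻¹ (ι d.z) = ι (d.z ^ d.ν) := by
      refine β.injective ?_
      rw [MulAut.apply_inv_self, hβz]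
      exact congrArg ι ((zpow_congr hzp d.μν).trans (zpow_one _)).symm
    rw [hδdef, MulAut.mul_apply, MulAut.mul_apply, MulAut.mul_apply, hβz', map_zpow ι, map_zpow γ⁻¹,
      he', ← map_zpow ι, ← zpow_mul, hβz, hγz]
    refine congrArg ι ((zpow_congr hzp ?_).trans (zpow_one _))
    obtain ⟨q, hq⟩ := hee
    obtain ⟨q', hq'⟩ := d.μν
    exact ⟨q * d.μ * d.ν + q', by linear_combination d.μ * d.ν * hq + hq'⟩
  set f := e * a' * (d.μ - 1)
  have hδn : ∀ k : ℕ, (δ ^ k) (ι d.u) = ι (d.z ^ (f * k)) * ι d.u := by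
    intro k
    induction k with
    | zero => simp
    | succ k ih =>
      rw [pow_succ', MulAut.mul_apply, ih, map_mul δ, map_zpow ι, map_zpow δ, hδz, hδu, ← map_zpow ι,
        ← mul_assoc, ← map_mul ι, ← zpow_add]
      congr 3
      push_cast; ring
  have hδA : δ ∈ F.autGroup S := mul_mem (mul_mem (mul_mem hγ hβ) (inv_mem hγ)) (inv_mem hβ)
  have hmem : ((⟨δ, hδA⟩ : F.autGroup S) ^ (R : Subgroup (F.autGroup S)).index) ∈
      (R : Subgroup (F.autGroup S)) := by
    rw [← QuotientGroup.eq_one_iff, QuotientGroup.mk_pow, Subgroup.index_eq_card]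
    exact pow_card_eq_one'
  simp only [hR, hInn] at hmem
  obtain ⟨s, hs⟩ := hmem
  have hfu : ι (d.z ^ (f * ((R : Subgroup (F.autGroup S)).index : ℤ))) = 1 := by
    have h1 := hδn (R : Subgroup (F.autGroup S)).index
    have h2 : (δ ^ (R : Subgroup (F.autGroup S)).index) = MulAut.conj s := by
      rw [hR, hInn]; exact hs.symm
    rw [h2, MulAut.conj_apply, (mem_center_iff.1 (show ι d.u ∈ center S from d.u_cen) s),
      mul_inv_cancel_right] at h1
    exact right_eq_mul.1 h1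
  have hf : (p : ℤ) ∣ f := by
    rw [← map_one ι] at hfu
    rcases hpz.dvd_or_dvd (hdvd _ 0 (by rw [zpow_zero, mul_one]; exact hι hfu)).1 with h | h
    · exact h
    · exact absurd (Int.natCast_dvd_natCast.1 h) R.not_dvd_index
  have ha' : (p : ℤ) ∣ a' := by
    rcases hpz.dvd_or_dvd hf with h | h
    swap
    · exact absurd h d.μ1
    rcases hpz.dvd_or_dvd h with h | h
    · obtain ⟨q, hq⟩ := hee
      exact absurd ((dvd_sub_right (h.mul_right e')).1 ⟨q, hq⟩) hpz.not_dvd_one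
    · exact h
  refine ⟨b', ?_⟩
  rw [hab', zpow_congr hzp (i := a') (j := 0) (by rwa [sub_zero]), zpow_zero, one_mul]

/-- The line of the central generator is invariant under the automiser. -/
theorem line_fix_self (hS : IsPGroup p S) (hE : F.IsEssential p E) (hidx : (frattini E).index = p ^ 3)
    (hirr : ¬ IsIrredTop F E) {α : MulAut E} (hα : α ∈ F.autGroup E) :
    α d.u ∈ zpowers d.u := by
  classical
  have hES := hE.1.1
  have := finite_of_le hES
  have : Finite (MulAut E) := finite_mulAut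
  have hpz : Prime (p : ℤ) := Nat.prime_iff_prime_int.1 hp.out
  obtain ⟨hτn, hτz, hτu⟩ := d.exact_weights hbot
  have hexp : ∀ e : E, e ^ p = 1 := d.pow_eq_one hbot hS
  have hc : ∀ a b : E, Commute a b := d.commute hbot hS
  letI : CommGroup E := { (inferInstance : Group E) with mul_comm := fun a b => (hc a b).eq }
  have hspan : ∀ e : E, ∃ a b k : ℤ, e = d.n ^ a * d.z ^ b * d.u ^ k := fun e => by
    obtain ⟨a, b, k, h⟩ := d.span e
    rw [hbot, mem_bot, inv_mul_eq_one] at h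
    exact ⟨a, b, k, h.symm⟩
  have hindep : ∀ a b k : ℤ, d.n ^ a * d.z ^ b * d.u ^ k = 1 →
      (p : ℤ) ∣ a ∧ (p : ℤ) ∣ b ∧ (p : ℤ) ∣ k := fun a b k h =>
    d.indep a b k (by rw [h]; exact one_mem _)
  simp only [IsIrredTop] at hirr
  push Not at hirr
  obtain ⟨L, -, hinv, hne, hLt⟩ := hirr
  rw [hbot] at hne
  obtain ⟨k₀, hk₀⟩ := d.gen
  -- the inversion on two generators
  obtain ⟨σ, hσA, hσn, hσz, hσu⟩ : ∃ σ ∈ F.autGroup E, σ d.n = d.n⁻¹ ∧ σ d.z = d.z⁻¹ ∧ σ d.u = d.u := by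
    have hit : ∀ k : ℕ, (d.τ ^ k) d.n = d.n ^ (d.ν ^ k) ∧ (d.τ ^ k) d.z = d.z ^ (d.μ ^ k) ∧
        (d.τ ^ k) d.u = d.u := by
      intro k
      induction k with
      | zero => simp
      | succ k ih =>
        obtain ⟨i1, i2, i3⟩ := ih
        simp only [pow_succ', MulAut.mul_apply, i1, i2, i3, map_zpow, hτn, hτz, hτu, ← zpow_mul,
          and_self]
    obtain ⟨i1, i2, i3⟩ := hit k₀
    refine ⟨d.τ ^ k₀, pow_mem d.hτ k₀, ?_, ?_, i3⟩
    · rw [i1, ← zpow_neg_one]
      refine zpow_congr (hexp _) ?_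
      have h : (p : ℤ) ∣ d.μ ^ k₀ * d.ν ^ k₀ - 1 := by
        rw [← mul_pow]; exact dvd_trans d.μν (sub_one_dvd_pow_sub_one _ k₀)
      have := (hk₀.mul_right (d.ν ^ k₀)).sub h
      rw [sub_neg_eq_add]
      exact dvd_trans this (dvd_of_eq (by ring))
    · rw [i2, ← zpow_neg_one]
      refine zpow_congr (hexp _) ?_
      rwa [sub_neg_eq_add]
  have hσmon : ∀ a b k : ℤ, σ (d.n ^ a * d.z ^ b * d.u ^ k) = d.n ^ (-a) * d.z ^ (-b) * d.u ^ k := by
    intro a b k
    rw [map_mul, map_mul, map_zpow, map_zpow, map_zpow, hσn, hσz, hσu, inv_zpow', inv_zpow']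
  by_cases hu : d.u ∈ L
  · -- then it is the invariant line
    have hle : ∀ v ∈ L, v ∈ zpowers d.u := by
      intro v hv
      obtain ⟨a, b, k, rfl⟩ := hspan v
      have h1 : d.n ^ a * d.z ^ b ∈ L := (Subgroup.mul_mem_cancel_right _ (zpow_mem hu k)).1 hv
      have h2 := hinv _ d.hτ _ h1
      rw [map_mul, map_zpow, map_zpow, hτn, hτz, ← zpow_mul, ← zpow_mul] at h2
      have h3 : d.z ^ (b * (d.μ - d.ν)) ∈ L := by
        have := mul_mem h2 (inv_mem (zpow_mem h1 d.ν))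
        convert this using 1
        rw [mul_zpow, ← zpow_mul, ← zpow_mul, mul_inv, mul_mul_mul_comm, mul_comm a d.ν,
          mul_inv_cancel, one_mul, mul_sub, zpow_sub, mul_comm d.μ b]
      have hμν' : ¬ (p : ℤ) ∣ d.μ - d.ν := fun h => d.μ2 (by
        obtain ⟨r, hr⟩ := d.μν
        obtain ⟨r', hr'⟩ := h
        exact ⟨d.μ * r' + r, by linear_combination d.μ * hr' + hr⟩)
      have hLp : ∀ w : E, w ^ p ∈ L := fun w => by rw [hexp]; exact one_mem _
      have hzL : d.z ∉ L := fun hz => by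
        obtain ⟨α', hα', i, j, m, a', b', l, hαz, -, hi, -⟩ := d.mixing
        rw [hbot, mem_bot, inv_mul_eq_one] at hαz
        have h4 := hinv α' hα' _ hz
        rw [← hαz, Subgroup.mul_mem_cancel_right _ (zpow_mem hu m),
          Subgroup.mul_mem_cancel_right _ (zpow_mem hz j)] at h4
        have hnL : d.n ∈ L := by
          by_contra h
          exact hi (dvd_of_zpow_mem (hLp _) h h4)
        refine hLt ((Subgroup.eq_top_iff' L).2 fun w => ?_)
        obtain ⟨a, b, k, rfl⟩ := hspan w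
        exact mul_mem (mul_mem (zpow_mem hnL _) (zpow_mem hz _)) (zpow_mem hu _)
      have hb : (p : ℤ) ∣ b := by
        rcases hpz.dvd_or_dvd (dvd_of_zpow_mem (hLp _) hzL h3) with h | h
        exacts [h, absurd h hμν']
      have hzb : d.z ^ b = 1 := by
        rw [zpow_congr (hexp _) (i := b) (j := 0) (by rwa [sub_zero]), zpow_zero]
      rw [hzb, mul_one] at h1
      have ha : (p : ℤ) ∣ a := by
        refine dvd_of_zpow_mem (hLp _) (fun hn => hzL ?_) h1
        have hy := hinv (conjAut S E ⟨d.x, d.hxN⟩)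
          (autInducedBy_le_autGroup hES (mem_autInducedBy.2 ⟨d.x, d.hxN.1, fun _ => rfl⟩)) _ hn
        have := mul_mem (inv_mem hn) hy
        rwa [← d.z_def] at this
      rw [hzb, zpow_congr (hexp _) (i := a) (j := 0) (by rwa [sub_zero]), zpow_zero, one_mul, one_mul]
      exact zpow_mem_zpowers _ k
    exact hle _ (hinv α hα _ hu)
  -- otherwise the inversion is central
  have hL2 : ∀ v ∈ L, σ v = v⁻¹ := by
    intro v hv
    obtain ⟨a, b, k, rfl⟩ := hspan v
    have h2 := mul_mem hv (hinv σ hσA _ hv)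
    rw [hσmon, show d.n ^ a * d.z ^ b * d.u ^ k * (d.n ^ (-a) * d.z ^ (-b) * d.u ^ k) = d.u ^ (k + k) by
      rw [mul_mul_mul_comm, mul_mul_mul_comm (d.n ^ a), ← zpow_add, ← zpow_add, ← zpow_add,
        add_neg_cancel, add_neg_cancel, zpow_zero, zpow_zero, one_mul, one_mul]] at h2
    have hk : (p : ℤ) ∣ k :=
      d.half (dvd_of_zpow_mem (by rw [hexp]; exact one_mem _) hu h2)
    rw [hσmon, zpow_congr (hexp d.u) (i := k) (j := 0) (by rwa [sub_zero]), zpow_zero, mul_one, mul_one,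
      mul_inv, zpow_neg, zpow_neg]
  have hfull : ∀ e : E, e⁻¹ * σ e ∈ L := by
    have hLne : ∃ v ∈ L, v ≠ 1 := (Subgroup.bot_or_exists_ne_one L).resolve_left hne
    have hLp : ∀ w : E, w ^ p ∈ L := fun w => by rw [hexp]; exact one_mem _
    obtain ⟨v, hv, hv1⟩ := hLne
    have hz : d.z ∈ L := by
      by_contra hzL
      obtain ⟨a, b, k, rfl⟩ := hspan v
      have hk : (p : ℤ) ∣ k := by
        have h2 := hL2 _ hv
        rw [hσmon, mul_inv, mul_inv, zpow_neg, zpow_neg, mul_left_cancel_iff, eq_inv_iff_mul_eq_one,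
          ← zpow_add] at h2
        exact d.half (hindep 0 0 (k + k) (by rw [zpow_zero, zpow_zero, one_mul, one_mul]; exact h2)).2.2
      rw [zpow_congr (hexp d.u) (i := k) (j := 0) (by rwa [sub_zero]), zpow_zero, mul_one] at hv hv1
      have hy := hinv (conjAut S E ⟨d.x, d.hxN⟩)
        (autInducedBy_le_autGroup hES (mem_autInducedBy.2 ⟨d.x, d.hxN.1, fun _ => rfl⟩)) _ hv
      have hyn : conjAut S E ⟨d.x, d.hxN⟩ d.n = d.n * d.z := by rw [d.z_def, mul_inv_cancel_left]
      have hyz : conjAut S E ⟨d.x, d.hxN⟩ d.z = d.z := by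
        have := d.x_z
        rw [hbot, mem_bot, inv_mul_eq_one] at this
        exact this.symm
      rw [map_mul, map_zpow, map_zpow, hyn, hyz, mul_zpow, mul_right_comm,
        Subgroup.mul_mem_cancel_left _ hv] at hy
      have ha : (p : ℤ) ∣ a := dvd_of_zpow_mem (hLp _) hzL hy
      rw [zpow_congr (hexp d.n) (i := a) (j := 0) (by rwa [sub_zero]), zpow_zero, one_mul] at hv hv1
      obtain ⟨q, hq⟩ := dvd_of_zpow_mem (hLp _) hzL hv
      exact hv1 (by rw [hq, zpow_mul, zpow_natCast, hexp, one_zpow])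
    have hn : d.n ∈ L := by
      obtain ⟨α', hα', i, j, m, a', b', l, hαz, -, hi, -⟩ := d.mixing
      rw [hbot, mem_bot, inv_mul_eq_one] at hαz
      have h4 := hinv α' hα' _ hz
      rw [← hαz] at h4
      have h5 := hL2 _ h4
      rw [hσmon, mul_inv, mul_inv, zpow_neg, zpow_neg, mul_left_cancel_iff, eq_inv_iff_mul_eq_one,
        ← zpow_add] at h5
      obtain ⟨-, -, hmm⟩ := hindep 0 0 (m + m) (by rw [zpow_zero, zpow_zero, one_mul, one_mul]; exact h5)
      have hum : d.u ^ m ∈ L := by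
        rw [zpow_congr (hexp d.u) (i := m) (j := 0) (by rw [sub_zero]; exact d.half hmm), zpow_zero]
        exact one_mem _
      by_contra hnL
      rw [Subgroup.mul_mem_cancel_right _ hum, Subgroup.mul_mem_cancel_right _ (zpow_mem hz j)] at h4
      exact hi (dvd_of_zpow_mem (hLp _) hnL h4)
    intro e
    obtain ⟨a, b, k, rfl⟩ := hspan e
    rw [hσmon, mul_inv_rev, mul_inv_rev]
    rw [show (d.u ^ k)⁻¹ * ((d.z ^ b)⁻¹ * (d.n ^ a)⁻¹) * (d.n ^ (-a) * d.z ^ (-b) * d.u ^ k) =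
      d.n ^ (-a) * d.n ^ (-a) * (d.z ^ (-b) * d.z ^ (-b)) by
        rw [mul_comm (d.u ^ k)⁻¹, mul_comm (d.z ^ b)⁻¹, mul_mul_mul_comm _ (d.u ^ k)⁻¹, inv_mul_cancel,
          mul_one]
        simp only [zpow_neg]
        rw [mul_mul_mul_comm]]
    exact mul_mem (mul_mem (zpow_mem hn _) (zpow_mem hn _)) (mul_mem (zpow_mem hz _) (zpow_mem hz _))
  let K : Subgroup (MulAut E) :=
    { carrier := {γ | γ ∈ F.autGroup E ∧ (∀ v ∈ L, γ v = v) ∧ ∀ e, e⁻¹ * γ e ∈ L}
      one_mem' := ⟨one_mem _, fun _ _ => rfl, fun e => by simp⟩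
      mul_mem' := by
        rintro γ δ ⟨hγ, hγ1, hγ2⟩ ⟨hδ, hδ1, hδ2⟩
        refine ⟨mul_mem hγ hδ, fun v hv => by rw [MulAut.mul_apply, hδ1 v hv, hγ1 v hv], fun e => ?_⟩
        have : e⁻¹ * (γ * δ) e = (e⁻¹ * δ e) * ((δ e)⁻¹ * γ (δ e)) := by rw [MulAut.mul_apply]; group
        rw [this]
        exact mul_mem (hδ2 e) (hγ2 _)
      inv_mem' := by
        rintro γ ⟨hγ, hγ1, hγ2⟩
        refine ⟨inv_mem hγ, fun v hv => ?_, fun e => ?_⟩
        · conv_lhs => rw [← hγ1 v hv]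
          rw [MulAut.inv_apply_self]
        · have := inv_mem (hγ2 (γ⁻¹ e))
          rwa [MulAut.apply_inv_self, mul_inv_rev, inv_inv] at this }
  have hKI : K ≤ Inn E := by
    refine le_inn_of_radical p (isRadical_of_essential p hS hE) (fun γ h => h.1)
      (fun δ hδ γ hγ => ⟨mul_mem (mul_mem hδ hγ.1) (inv_mem hδ), fun v hv => ?_, fun e => ?_⟩)
      fun γ hγ => ⟨1, MulEquiv.ext fun e => ?_⟩
    · rw [MulAut.mul_apply, MulAut.mul_apply, hγ.2.1 _ (hinv _ (inv_mem hδ) v hv), MulAut.apply_inv_self]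
    · have := hinv δ hδ _ (hγ.2.2 (δ⁻¹ e))
      rwa [map_mul, map_inv, MulAut.apply_inv_self] at this
    · have hit : ∀ k : ℕ, (γ ^ k) e = e * (e⁻¹ * γ e) ^ k := by
        intro k
        induction k with
        | zero => simp
        | succ k ih =>
          rw [pow_succ', MulAut.mul_apply, ih, map_mul γ, map_pow, hγ.2.1 _ (hγ.2.2 e),
            show γ e = e * (e⁻¹ * γ e) from (mul_inv_cancel_left _ _).symm, inv_mul_cancel_left,
            pow_succ', mul_assoc]
      rw [pow_one, hit, hexp, mul_one]; rfl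
  have hεK : α * σ * α⁻¹ * σ⁻¹ ∈ K := by
    refine ⟨mul_mem (mul_mem (mul_mem hα hσA) (inv_mem hα)) (inv_mem hσA), fun v hv => ?_, fun e => ?_⟩
    · have hw : σ⁻¹ v = v⁻¹ := by
        refine σ.injective ?_
        rw [MulAut.apply_inv_self, map_inv, hL2 v hv, inv_inv]
      rw [MulAut.mul_apply, MulAut.mul_apply, MulAut.mul_apply, hw, map_inv,
        map_inv σ, hL2 _ (hinv _ (inv_mem hα) v hv), inv_inv, MulAut.apply_inv_self]
    · set w := σ⁻¹ e
      have h1 : w⁻¹ * σ w ∈ L := hfull w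
      have h2 := hfull (α⁻¹ w)
      have h3 := hinv α hα _ h2
      rw [map_mul, map_inv, MulAut.apply_inv_self] at h3
      have e1 : e⁻¹ * (α * σ * α⁻¹ * σ⁻¹) e = (w⁻¹ * σ w)⁻¹ * (w⁻¹ * α (σ (α⁻¹ w))) := by
        simp only [w, MulAut.mul_apply, MulAut.apply_inv_self]
        group
      rw [e1]
      exact mul_mem (inv_mem h1) h3
  obtain ⟨q, hq⟩ := hKI hεK
  have hσα : α d.u = σ (α d.u) := by
    have h1 := congrArg (fun γ : MulAut E => γ (σ (α d.u))) hq
    simp only [MulAut.conj_apply, MulAut.mul_apply, MulAut.inv_apply_self] at h1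
    rw [mul_comm q, mul_inv_cancel_right, hσu] at h1
    exact h1.symm
  obtain ⟨a, b, k, e⟩ := hspan (α d.u)
  rw [e, hσmon, mul_left_inj] at hσα
  obtain ⟨h1, h2, -⟩ := hindep (a + a) (b + b) 0 (by
    rw [zpow_zero, mul_one, zpow_add, zpow_add, mul_mul_mul_comm]
    conv_lhs => enter [1]; rw [hσα]
    rw [zpow_neg, zpow_neg, ← mul_inv, inv_mul_cancel])
  rw [e, zpow_congr (hexp _) (i := a) (j := 0) (by rw [sub_zero]; exact d.half h1),
    zpow_congr (hexp _) (i := b) (j := 0) (by rw [sub_zero]; exact d.half h2), zpow_zero, zpow_zero,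
    one_mul, one_mul]
  exact zpow_mem_zpowers _ k

end Red

end CfsgLib.Fusion.RankThree
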