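import Cfsg.Agent.Fusion.RankThree.Arith
import Cfsg.Agent.Fusion.RankThree.Chain
import Cfsg.Agent.Fusion.FourthEssential

/-!
The reducible case: a torus and a splitting of the Frattini quotient.
-/

set_option autoImplicit false
set_option linter.unusedSectionVars false
set_option linter.style.haveILetI false

open Cfsg Cfsg.FusionSystem Subgroup
open scoped commutatorElement

namespace CfsgLib.Fusion.RankThree

universe u

variable {Ω : Type u} [Group Ω] {S : Subgroup Ω} [Finite S] {p : ℕ} [hp : Fact p.Prime]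
  {F : FusionSystem S}

/-- The splitting of the Frattini quotient into three weights of a torus. -/
structure Split (F : FusionSystem S) (p : ℕ) (E : Subgroup Ω) where
  μ : ℤ
  ν : ℤ
  μν : (p : ℤ) ∣ μ * ν - 1
  μ1 : ¬ (p : ℤ) ∣ μ - 1
  μ2 : ¬ (p : ℤ) ∣ μ ^ 2 - 1
  μ3 : ¬ (p : ℤ) ∣ μ ^ 3 - 1
  μ5 : ¬ (p : ℤ) ∣ μ ^ 5 - 1
  gen : ∃ k : ℕ, (p : ℤ) ∣ μ ^ k + 1
  n : E
  z : E
  u : E
  x : Ω
  hxN : x ∈ normalizerIn S E
  hxE : x ∉ E
  cover : ∀ h ∈ normalizerIn S E, ∃ i : ℤ, h * x ^ (-i) ∈ E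
  τ : MulAut E
  hτ : τ ∈ F.autGroup E
  τ_cop : ∃ m : ℕ, ¬ p ∣ m ∧ τ ^ m = 1
  τ_n : (n ^ ν)⁻¹ * τ n ∈ frattini E
  τ_z : (z ^ μ)⁻¹ * τ z ∈ frattini E
  τ_u : u⁻¹ * τ u ∈ frattini E
  τ_norm : ∀ γ ∈ autInducedBy S E, τ * γ * τ⁻¹ ∈ autInducedBy S E
  τ_x : ∃ (h : Ω) (hh : h ∈ normalizerIn S E), h * x ^ (-μ ^ 2) ∈ E ∧
    τ * conjAut S E ⟨x, hxN⟩ = conjAut S E ⟨h, hh⟩ * τ
  z_def : z = n⁻¹ * conjAut S E ⟨x, hxN⟩ n
  x_z : z⁻¹ * conjAut S E ⟨x, hxN⟩ z ∈ frattini E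
  x_u : u⁻¹ * conjAut S E ⟨x, hxN⟩ u ∈ frattini E
  span : ∀ e : E, ∃ i j k : ℤ, (n ^ i * z ^ j * u ^ k)⁻¹ * e ∈ frattini E
  indep : ∀ i j k : ℤ, n ^ i * z ^ j * u ^ k ∈ frattini E →
    (p : ℤ) ∣ i ∧ (p : ℤ) ∣ j ∧ (p : ℤ) ∣ k
  mixing : ∃ α ∈ F.autGroup E, ∃ i j m a b l : ℤ,
    (n ^ i * z ^ j * u ^ m)⁻¹ * α z ∈ frattini E ∧ (n ^ a * z ^ b * u ^ l)⁻¹ * α u ∈ frattini E ∧
      ¬ (p : ℤ) ∣ i ∧ ¬ (p : ℤ) ∣ i * l - m * a

/-- A fixed point of a `p`-group of automorphisms in an invariant section. -/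
theorem exists_fixed_in {W : Type*} [CommGroup W] [Finite W] {A : Type*} [Group A]
    (hA : IsPGroup p A) (φ : A →* MulAut W) {B T : Subgroup W} (hBT : B < T)
    (hB : ∀ a, ∀ w ∈ B, φ a w ∈ B) (hT : ∀ a, ∀ w ∈ T, φ a w ∈ T) (hW : IsPGroup p W) :
    ∃ c ∈ T, c ∉ B ∧ ∀ a, c⁻¹ * φ a c ∈ B := by
  let T' := T.map (QuotientGroup.mk' B)
  let act : MulAction A T' :=
    { smul := fun a v => ⟨QuotientGroup.map B B (φ a).toMonoidHom (fun w hw => hB a w hw) v, by
        obtain ⟨w, hw, e⟩ := v.2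
        exact ⟨φ a w, hT a w hw, by rw [← e]; rfl⟩⟩
      one_smul := fun v => by
        obtain ⟨w, hw, e⟩ := v.2
        refine Subtype.ext ?_
        show QuotientGroup.map B B (φ 1).toMonoidHom _ (v : W ⧸ B) = v
        rw [← e]
        show ((φ 1 w : W) : W ⧸ B) = (w : W ⧸ B)
        rw [map_one]; rfl
      mul_smul := fun a b v => by
        obtain ⟨w, hw, e⟩ := v.2
        refine Subtype.ext ?_
        show QuotientGroup.map B B (φ (a * b)).toMonoidHom _ (v : W ⧸ B) =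
          QuotientGroup.map B B (φ a).toMonoidHom _ (QuotientGroup.map B B (φ b).toMonoidHom _ (v : W ⧸ B))
        rw [← e]
        show ((φ (a * b) w : W) : W ⧸ B) = ((φ a (φ b w) : W) : W ⧸ B)
        rw [map_mul]; rfl }
  letI := act
  obtain ⟨w₀, hw₀, hw₀B⟩ := SetLike.exists_of_lt hBT
  have hdvd : p ∣ Nat.card T' := by
    obtain ⟨k, hk⟩ := IsPGroup.iff_card.1 (((hW.to_quotient B).to_subgroup T'))
    have hk0 : k ≠ 0 := fun h0 => hw₀B (by
      have h1 : Nat.card T' = 1 := by rw [hk, h0, pow_zero]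
      have h2 : QuotientGroup.mk' B w₀ ∈ T' := ⟨w₀, hw₀, rfl⟩
      rw [Subgroup.card_eq_one.1 h1, mem_bot] at h2
      exact (QuotientGroup.eq_one_iff w₀).1 h2)
    rw [hk]; exact dvd_pow_self p hk0
  have h1 : (1 : T') ∈ MulAction.fixedPoints A T' := fun a => Subtype.ext
    (map_one (QuotientGroup.map B B (φ a).toMonoidHom (fun w hw => hB a w hw)))
  obtain ⟨v, hv, hv1⟩ := hA.exists_fixed_point_of_prime_dvd_card_of_fixed_point T' hdvd h1
  obtain ⟨c, hc, e⟩ := v.2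
  refine ⟨c, hc, fun hcB => hv1 (Subtype.ext ?_), fun a => ?_⟩
  · rw [← e]; exact ((QuotientGroup.eq_one_iff c).2 hcB).symm
  · have h2 : QuotientGroup.map B B (φ a).toMonoidHom (fun w hw => hB a w hw) (v : W ⧸ B) = v :=
      congrArg Subtype.val (hv a)
    rw [← e] at h2
    exact QuotientGroup.eq.1 h2.symm

set_option maxHeartbeats 800000 in
/-- An invariant subgroup between the Frattini subgroup and the whole splits the quotient. -/
theorem exists_split (hS : IsPGroup p S) (hF : F.IsSaturated p) (hp5 : 5 ≤ p) {E : Subgroup Ω}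
    (hE : F.IsEssential p E) (hidx : (frattini E).index = p ^ 3) (hirr :
      ∃ L : Subgroup E, frattini E < L ∧ L < ⊤ ∧ ∀ α ∈ F.autGroup E, ∀ x ∈ L, α x ∈ L) :
    Nonempty (Split F p E) := by
  classical
  obtain ⟨L, hL₀, hL₁, hLinv⟩ := hirr
  have hES := hE.1.1
  have := finite_of_le hES
  have : Finite (MulAut E) := finite_mulAut
  have hEp := isPGroup_of_le hS hES
  obtain ⟨hcm, hpw⟩ := CfsgLib.PGroupBasic.commutator_pow_le_frattini hEp
  let V := E ⧸ frattini E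
  have hVc : ∀ a b : V, a * b = b * a := fun a b => by
    induction a using QuotientGroup.induction_on with
    | H a =>
      induction b using QuotientGroup.induction_on with
      | H b =>
        rw [← commutatorElement_eq_one_iff_mul_comm, ← QuotientGroup.mk'_apply,
          ← QuotientGroup.mk'_apply, ← map_commutatorElement, QuotientGroup.mk'_apply,
          QuotientGroup.eq_one_iff]
        exact hcm (commutator_mem_commutator (mem_top a) (mem_top b))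
  letI : CommGroup V := { (inferInstance : Group V) with mul_comm := hVc }
  have hVexp : ∀ v : V, v ^ p = 1 := fun v => by
    induction v using QuotientGroup.induction_on with
    | H e => rw [← QuotientGroup.mk_pow, QuotientGroup.eq_one_iff]; exact hpw e
  have hVp : IsPGroup p V := hEp.to_quotient _
  have hV : Nat.card V = p ^ 3 := by rw [← Subgroup.index_eq_card, hidx]
  have hp1 := hp.out.one_lt
  set π : E →* V := QuotientGroup.mk' (frattini E)
  have hπ : Function.Surjective π := QuotientGroup.mk'_surjective _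
  have hcl : ∀ {a b : E}, π a = π b ↔ a⁻¹ * b ∈ frattini E := fun {a b} => QuotientGroup.eq
  let φ : MulAut E →* MulAut V := MonoidHom.mk'
    (fun α => QuotientGroup.congr (frattini E) (frattini E) α
      (Subgroup.characteristic_iff_map_eq.1 frattini_characteristic α))
    fun α β => MulEquiv.ext fun v => by
      induction v using QuotientGroup.induction_on with
      | H e => rfl
  have hφ : ∀ (α : MulAut E) (e : E), φ α (π e) = π (α e) := fun _ _ => rfl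
  -- the section of order `p ^ 2`
  obtain ⟨B, T, hBinv, hTinv, hcardT, hcase⟩ : ∃ B T : Subgroup V,
      (∀ α ∈ F.autGroup E, ∀ v ∈ B, φ α v ∈ B) ∧ (∀ α ∈ F.autGroup E, ∀ v ∈ T, φ α v ∈ T) ∧
      Nat.card T = p ^ 2 * Nat.card B ∧
      ((B = ⊥ ∧ Nat.card T = p ^ 2) ∨ (Nat.card B = p ∧ T = ⊤)) := by
    have hLm : ∀ α ∈ F.autGroup E, ∀ v ∈ L.map π, φ α v ∈ L.map π := by
      rintro α hα _ ⟨e, he, rfl⟩
      exact ⟨α e, hLinv α hα e he, rfl⟩
    have hle : frattini E ≤ L := hL₀.le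
    have hcomap : (L.map π).comap π = L :=
      Subgroup.comap_map_eq_self ((QuotientGroup.ker_mk' (frattini E)).le.trans hle)
    obtain ⟨d, -, hd⟩ := (Nat.dvd_prime_pow hp.out).1 (hV ▸ Subgroup.card_subgroup_dvd_card (L.map π))
    have hd0 : d ≠ 0 := fun h => hL₀.ne (by
      rw [h, pow_zero, Subgroup.card_eq_one] at hd
      rw [← hcomap, hd, MonoidHom.comap_bot, QuotientGroup.ker_mk'])
    have hlt : L.map π ≠ ⊤ := fun h => hL₁.ne (by rw [← hcomap, h, Subgroup.comap_top])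
    have hd3 : d < 3 := by
      have := CfsgLib.Solvable.card_lt_of_lt (lt_top_iff_ne_top.2 hlt)
      rwa [Subgroup.card_top, hV, hd, Nat.pow_lt_pow_iff_right hp1] at this
    rcases (show d = 1 ∨ d = 2 by omega) with rfl | rfl
    · refine ⟨L.map π, ⊤, hLm, fun _ _ _ _ => trivial, ?_, Or.inr ⟨by rw [hd, pow_one], rfl⟩⟩
      rw [Subgroup.card_top, hV, hd]; ring
    · refine ⟨⊥, L.map π, fun α _ v hv => ?_, hLm, by rw [Subgroup.card_bot, mul_one, hd],
        Or.inl ⟨rfl, hd⟩⟩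
      rw [mem_bot.1 hv, map_one]; exact one_mem _
  -- a line fixed by `Aut_S`
  let A := autInducedBy S E
  have hAF : A ≤ F.autGroup E := autInducedBy_le_autGroup hES
  have hBT : B < T := lt_of_le_of_ne (by
    rcases hcase with ⟨hB, -⟩ | ⟨-, hT⟩
    · rw [hB]; exact bot_le
    · rw [hT]; exact le_top) fun h => by
      rw [h] at hcardT
      have h2 := Nat.one_lt_pow (show 2 ≠ 0 by norm_num) hp1
      have hpos : 0 < Nat.card T := Nat.card_pos
      nlinarith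
  obtain ⟨c, hcT, hcB, hc⟩ := exists_fixed_in (isPGroup_autInducedBy hS E) (φ.comp A.subtype) hBT
    (fun a v hv => hBinv _ (hAF a.2) v hv) (fun a v hv => hTinv _ (hAF a.2) v hv) hVp
  set C := zpowers c ⊔ B with hC
  have hBC : B ≤ C := le_sup_right
  have hCT : C ≤ T := sup_le (zpowers_le.2 hcT) hBT.le
  have hcardC : Nat.card C = p * Nat.card B := by
    have h1 := CfsgLib.PGroupBasic.card_sup_zpowers_le (p := p) B c (by rw [hVexp]; exact one_mem _)
    have h2 : B < C := lt_of_le_of_ne hBC fun e => hcB (e.ge (mem_sup_left (mem_zpowers c)))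
    have h3 := CfsgLib.Solvable.card_lt_of_lt h2
    obtain ⟨i, hi⟩ := IsPGroup.iff_card.1 (hVp.to_subgroup B)
    obtain ⟨j, hj⟩ := IsPGroup.iff_card.1 (hVp.to_subgroup C)
    rw [hi, hj, Nat.pow_lt_pow_iff_right hp1] at h3
    refine le_antisymm h1 ?_
    rw [hi, hj, ← pow_succ']
    exact Nat.pow_le_pow_right hp.out.pos (by omega)
  have hTgen : ∀ v ∈ T, v ∉ C → zpowers v ⊔ C = T := by
    intro v hv hvC
    refine Subgroup.eq_of_le_of_card_ge (sup_le (zpowers_le.2 hv) hCT) ?_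
    have h2 : C < zpowers v ⊔ C := lt_of_le_of_ne le_sup_right fun e =>
      hvC (e.ge (mem_sup_left (mem_zpowers v)))
    have h3 := CfsgLib.Solvable.card_lt_of_lt h2
    obtain ⟨i, hi⟩ := IsPGroup.iff_card.1 (hVp.to_subgroup B)
    obtain ⟨j, hj⟩ := IsPGroup.iff_card.1 (hVp.to_subgroup (zpowers v ⊔ C : Subgroup V))
    rw [hcardC, hi, hj, ← pow_succ', Nat.pow_lt_pow_iff_right hp1] at h3
    rw [hcardT, hi, hj, ← pow_add]
    exact Nat.pow_le_pow_right hp.out.pos (by omega)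
  -- the behaviour of `p`-elements of the automiser outside the section
  have hlayer : ∀ (γ : MulAut E), γ ∈ F.autGroup E → (∃ k, γ ^ p ^ k = 1) →
      (∀ v ∈ B, φ γ v = v) ∧ ∀ v, v⁻¹ * φ γ v ∈ T := by
    intro γ hγ ⟨k, hk⟩
    have hk' : φ γ ^ p ^ k = 1 := by rw [← map_pow, hk, map_one]
    rcases hcase with ⟨hB, hT⟩ | ⟨hB, hT⟩
    · refine ⟨fun v hv => ?_, fun v => ?_⟩
      · rw [hB, mem_bot] at hv; rw [hv, map_one]
      · exact FourthEssential.layer_trivial T ⊤ le_top (by rw [Subgroup.card_top, hV, hT]; ring)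
          (φ γ) hk' (hTinv γ hγ) (fun _ _ => trivial) v trivial
    · refine ⟨fun v hv => ?_, fun v => hT ▸ mem_top _⟩
      have h := FourthEssential.layer_trivial ⊥ B bot_le (by rw [hB, Subgroup.card_bot, mul_one])
        (φ γ) hk' (fun w hw => by rw [mem_bot.1 hw, map_one]; exact one_mem _) (hBinv γ hγ) v hv
      exact (inv_mul_eq_one.1 (mem_bot.1 h)).symm
  have hApe : ∀ γ ∈ A, ∃ k, γ ^ p ^ k = 1 := fun γ hγ =>
    ((isPGroup_autInducedBy hS E) ⟨γ, hγ⟩).imp fun k hk => congrArg Subtype.val hk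
  have hconj : ∀ h (hh : h ∈ normalizerIn S E), conjAut S E ⟨h, hh⟩ ∈ A := fun h hh =>
    mem_autInducedBy.2 ⟨h, hh.1, fun _ => rfl⟩
  have hAC : ∀ γ ∈ A, ∀ v ∈ C, v⁻¹ * φ γ v ∈ B := by
    intro γ hγ v hv
    have hle : C ≤ B.comap (MonoidHom.mk' (fun w => w⁻¹ * φ γ w) fun a b => by
        rw [mul_inv, map_mul, mul_mul_mul_comm]) :=
      sup_le (zpowers_le.2 (hc ⟨γ, hγ⟩)) fun w hw => by
        show w⁻¹ * φ γ w ∈ B
        rw [(hlayer γ (hAF hγ) (hApe γ hγ)).1 w hw, inv_mul_cancel]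
        exact one_mem _
    exact hle hv
  have hACinv : ∀ γ ∈ A, ∀ v ∈ C, φ γ v ∈ C := fun γ hγ v hv => by
    rw [← mul_inv_cancel_left v (φ γ v)]
    exact mul_mem hv (hBC (hAC γ hγ v hv))
  -- conjugations trivial on the section
  have htriv : ∀ h (hh : h ∈ normalizerIn S E),
      (∀ v ∈ T, v⁻¹ * φ (conjAut S E ⟨h, hh⟩) v ∈ B) → h ∈ E := by
    intro h hh hTB
    refine mem_of_frattini_chain hS hE (m := 3) ![frattini E, B.comap π, T.comap π, ⊤] rfl rfl
      (fun α hα i e he => ?_) hh fun i e he => ?_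
    · fin_cases i
      · exact frattini_inv α he
      · exact hBinv α hα _ he
      · exact hTinv α hα _ he
      · trivial
    · have hl := hlayer _ (hAF (hconj h hh)) (hApe _ (hconj h hh))
      fin_cases i
      · exact hcl.1 ((hl.1 (π e) he).symm.trans (hφ _ e))
      · show π (e⁻¹ * conjAut S E ⟨h, hh⟩ e) ∈ B
        rw [map_mul, map_inv, ← hφ]; exact hTB _ he
      · show π (e⁻¹ * conjAut S E ⟨h, hh⟩ e) ∈ T
        rw [map_mul, map_inv, ← hφ]; exact hl.2 _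
  obtain ⟨x, hxN, hxE⟩ := SetLike.exists_of_lt (lt_normalizerIn p hS le_rfl (essential_lt p hS hF hE))
  set t := conjAut S E ⟨x, hxN⟩ with ht
  have htA : t ∈ A := hconj x hxN
  have htF : t ∈ F.autGroup E := hAF htA
  have htk := hApe t htA
  -- an automorphism moving the line
  obtain ⟨α, hα, hαc⟩ : ∃ α ∈ F.autGroup E, φ α c ∉ C := by
    by_contra hcon
    push Not at hcon
    refine hxE (mem_of_frattini_chain hS hE (m := 4)
      ![frattini E, B.comap π, C.comap π, T.comap π, ⊤] rfl rfl (fun α hα i e he => ?_) hxN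
      fun i e he => ?_)
    · fin_cases i
      · exact frattini_inv α he
      · exact hBinv α hα _ he
      · have hle : C ≤ C.comap (φ α).toMonoidHom :=
          sup_le (zpowers_le.2 (hcon α hα)) fun w hw => hBC (hBinv α hα w hw)
        exact hle he
      · exact hTinv α hα _ he
      · trivial
    · have hl := hlayer _ htF htk
      fin_cases i
      · exact hcl.1 ((hl.1 (π e) he).symm.trans (hφ _ e))
      · show π (e⁻¹ * t e) ∈ B
        rw [map_mul, map_inv, ← hφ]; exact hAC t htA _ he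
      · show π (e⁻¹ * t e) ∈ C
        rw [map_mul, map_inv, ← hφ]
        obtain ⟨k, hk⟩ := htk
        exact FourthEssential.layer_trivial C T hCT (by rw [hcardT, hcardC]; ring) (φ t)
          (k := k) (by rw [← map_pow, hk, map_one]) (hACinv t htA) (hTinv t htF) _ he
      · show π (e⁻¹ * t e) ∈ T
        rw [map_mul, map_inv, ← hφ]; exact hl.2 _
  obtain ⟨a, ha⟩ : ∃ a, a = φ α c := ⟨_, rfl⟩
  have haT : a ∈ T := ha ▸ hTinv α hα c hcT
  rw [← ha] at hαc
  have haTgen := hTgen a haT hαc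
  set q : V →* V ⧸ B := QuotientGroup.mk' B
  have hq1 : ∀ {v : V}, q v = 1 ↔ v ∈ B := fun {v} => QuotientGroup.eq_one_iff v
  have hq : ∀ {v w : V}, q v = q w ↔ v⁻¹ * w ∈ B := fun {v w} => QuotientGroup.eq
  have hTA : ∀ h (hh : h ∈ normalizerIn S E), a⁻¹ * φ (conjAut S E ⟨h, hh⟩) a ∈ C := by
    intro h hh
    obtain ⟨k, hk⟩ := hApe _ (hconj h hh)
    exact FourthEssential.layer_trivial C T hCT (by rw [hcardT, hcardC]; ring) _ (k := k)
      (by rw [← map_pow, hk, map_one]) (hACinv _ (hconj h hh)) (hTinv _ (hAF (hconj h hh))) a haT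
  have hTB : ∀ γ : MulAut E, (∀ v ∈ C, v⁻¹ * φ γ v ∈ B) → a⁻¹ * φ γ a ∈ B →
      ∀ v ∈ T, v⁻¹ * φ γ v ∈ B := by
    intro γ hC' ha' v hv
    rw [← haTgen] at hv
    have hle : zpowers a ⊔ C ≤ B.comap (MonoidHom.mk' (fun w => w⁻¹ * φ γ w) fun a b => by
        rw [mul_inv, map_mul, mul_mul_mul_comm]) := sup_le (zpowers_le.2 ha') hC'
    exact hle hv
  obtain ⟨c₀, hc₀⟩ : ∃ c₀, c₀ = a⁻¹ * φ t a := ⟨_, rfl⟩
  have hc₀C : c₀ ∈ C := hc₀ ▸ hTA x hxN
  have hc₀B : c₀ ∉ B := fun h => hxE (htriv x hxN (hTB t (hAC t htA) (hc₀ ▸ h)))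
  have hCgen : ∀ v ∈ C, ∃ i : ℤ, q v = q c₀ ^ i := by
    intro v hv
    have hC0 : zpowers c₀ ⊔ B = C := by
      refine Subgroup.eq_of_le_of_card_ge (sup_le (zpowers_le.2 hc₀C) hBC) ?_
      have h2 : B < zpowers c₀ ⊔ B := lt_of_le_of_ne le_sup_right fun e =>
        hc₀B (e.ge (mem_sup_left (mem_zpowers c₀)))
      have h3 := CfsgLib.Solvable.card_lt_of_lt h2
      obtain ⟨i, hi⟩ := IsPGroup.iff_card.1 (hVp.to_subgroup B)
      obtain ⟨j, hj⟩ := IsPGroup.iff_card.1 (hVp.to_subgroup (zpowers c₀ ⊔ B : Subgroup V))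
      rw [hi, hj, Nat.pow_lt_pow_iff_right hp1] at h3
      rw [hcardC, hi, hj, ← pow_succ']
      exact Nat.pow_le_pow_right hp.out.pos (by omega)
    obtain ⟨y, hy, b, hb, rfl⟩ := mem_sup.1 (hC0.ge hv)
    obtain ⟨i, rfl⟩ := mem_zpowers_iff.1 hy
    exact ⟨i, by rw [map_mul, hq1.2 hb, mul_one, map_zpow]⟩
  have hxp : x ^ p ∈ E := pow_mem_of_flag hS (by omega) hE hidx hxN
  have hinn : ∀ e (he : e ∈ E) (v : V), φ (conjAut S E ⟨e, le_normalizerIn hES he⟩) v = v := by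
    intro e he v
    obtain ⟨w, rfl⟩ := hπ v
    rw [hφ, hcl]
    have : conjAut S E ⟨e, le_normalizerIn hES he⟩ w = ⟨e, he⟩ * w * ⟨e, he⟩⁻¹ := Subtype.ext rfl
    rw [this]
    have hm := hcm (commutator_mem_commutator (mem_top w⁻¹) (mem_top (⟨e, he⟩ : E)))
    rw [commutatorElement_def] at hm
    have h2 := (inferInstance : (frattini E).Normal).conj_mem _ (inv_mem hm) (⟨e, he⟩ : E)
    have h3 : (w * w⁻¹) ∈ frattini E := by rw [mul_inv_cancel]; exact one_mem _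
    rw [← QuotientGroup.eq]
    show π (⟨e, he⟩ * w * ⟨e, he⟩⁻¹) = π w
    rw [map_mul, map_mul, map_inv, hVc (π ⟨e, he⟩), mul_inv_cancel_right]
  have htp : φ t ^ p = 1 := by
    rw [← map_pow, ← map_pow (conjAut S E) ⟨x, hxN⟩ p]
    exact MulEquiv.ext fun v => hinn (x ^ p) hxp v
  -- congruences modulo `B` are respected
  have hqφ : ∀ γ ∈ F.autGroup E, ∀ {v w : V}, q v = q w → q (φ γ v) = q (φ γ w) := by
    intro γ hγ v w h
    rw [hq, ← map_inv, ← map_mul]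
    exact hBinv γ hγ _ (hq.1 h)
  have hqtc : q (φ t c₀) = q c₀ := (hq.2 (hAC t htA c₀ hc₀C)).symm
  have hqta : ∀ k : ℕ, q (φ (t ^ k) a) = q a * q c₀ ^ k := by
    intro k
    induction k with
    | zero => simp
    | succ k ih =>
      rw [pow_succ', map_mul, MulAut.mul_apply]
      have h1 : q (φ (t ^ k) a) = q (a * c₀ ^ k) := by rw [ih, map_mul, map_pow]
      rw [hqφ t htF h1, map_mul, map_mul, show φ t a = a * c₀ from by rw [hc₀, mul_inv_cancel_left],
        map_mul, map_pow, map_pow, hqtc, pow_succ', mul_assoc]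
  have hcover : ∀ h ∈ normalizerIn S E, ∃ i : ℤ, h * x ^ (-i) ∈ E := by
    intro h hh
    obtain ⟨i, hi⟩ := hCgen _ (hTA h hh)
    refine ⟨i, ?_⟩
    have hh' : h * x ^ (-i) ∈ normalizerIn S E := mul_mem hh (zpow_mem hxN _)
    refine htriv _ hh' (hTB _ (hAC _ (hconj _ hh')) ?_)
    have hw : conjAut S E ⟨h * x ^ (-i), hh'⟩ = conjAut S E ⟨h, hh⟩ * t ^ (-i) := by
      rw [ht, ← map_zpow, ← map_mul]; exact congrArg _ (Subtype.ext (by simp))
    obtain ⟨k, hk⟩ : ∃ k : ℕ, (p : ℤ) ∣ (k : ℤ) - (-i) :=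
      ⟨((-i) % p).toNat, by
        rw [Int.toNat_of_nonneg (Int.emod_nonneg _ (by exact_mod_cast hp.out.ne_zero))]
        exact ⟨-((-i) / p), by linarith [Int.emod_add_mul_ediv (-i) p]⟩⟩
    have e1 : φ (t ^ (-i)) = φ (t ^ k) := by
      rw [map_zpow, map_pow, ← zpow_natCast]; exact (zpow_congr htp hk).symm
    have e2 : q (φ (conjAut S E ⟨h, hh⟩) c₀) = q c₀ := (hq.2 (hAC _ (hconj h hh) c₀ hc₀C)).symm
    have h1 : q (φ (t ^ k) a) = q (a * c₀ ^ k) := by rw [hqta, map_mul, map_pow]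
    rw [← hq1, map_mul, map_inv, inv_mul_eq_one, hw, map_mul, MulAut.mul_apply, e1,
      hqφ _ (hAF (hconj h hh)) h1, map_mul, map_mul, map_pow, map_pow, e2,
      ← mul_inv_cancel_left a (φ (conjAut S E ⟨h, hh⟩) a), map_mul, hi, mul_assoc,
      ← zpow_natCast (q c₀) k, ← zpow_add]
    have hqp : (q c₀) ^ p = 1 := by rw [← map_pow, hVexp, map_one]
    rw [zpow_congr (j := 0) hqp (by rw [sub_zero]; convert hk using 1; ring), zpow_zero, mul_one]
  -- the second unipotent element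
  obtain ⟨s, hs⟩ : ∃ s, s = α * t * α⁻¹ := ⟨_, rfl⟩
  have hsF : s ∈ F.autGroup E := hs ▸ mul_mem (mul_mem hα htF) (inv_mem hα)
  have hsk : ∃ k, s ^ p ^ k = 1 := htk.imp fun k hk => by
    rw [hs, conj_pow, hk, mul_one, mul_inv_cancel]
  have hsC : ∀ v ∈ C, φ s (φ α v) = φ α (φ t v) := fun v _ => by
    rw [hs, map_mul, map_mul, map_inv, MulAut.mul_apply, MulAut.mul_apply, MulAut.inv_apply_self]
  have hqsa : q (φ s a) = q a := by
    rw [ha, hsC c (mem_sup_left (mem_zpowers c))]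
    exact (hqφ α hα (hq.2 (hAC t htA c (mem_sup_left (mem_zpowers c))))).symm
  obtain ⟨j, hqsc, hj⟩ : ∃ j : ℤ, q (φ s c₀) = q c₀ * q a ^ j ∧ ¬ (p : ℤ) ∣ j := by
    obtain ⟨v, hv⟩ : ∃ v, v = (φ α)⁻¹ c₀ := ⟨_, rfl⟩
    have hvT : v ∈ T := by
      rw [hv, ← map_inv]; exact hTinv _ (inv_mem hα) _ (hCT hc₀C)
    have hvC : v⁻¹ * φ t v ∈ C := by
      obtain ⟨k, hk⟩ := htk
      exact FourthEssential.layer_trivial C T hCT (by rw [hcardT, hcardC]; ring) _ (k := k)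
        (by rw [← map_pow, hk, map_one]) (hACinv t htA) (hTinv t htF) v hvT
    obtain ⟨y, hy, b, hb, e⟩ := mem_sup.1 hvC
    obtain ⟨j, rfl⟩ := mem_zpowers_iff.1 hy
    refine ⟨j, ?_, fun hdvd => hxE (htriv x hxN ?_)⟩
    · have e1 : φ s c₀ = φ α (φ t v) := by
        rw [hs, hv, map_mul, map_mul, map_inv, MulAut.mul_apply, MulAut.mul_apply]
      rw [e1, ← mul_inv_cancel_left v (φ t v), ← e]
      simp only [map_mul, map_zpow]
      rw [hq1.2 (hBinv α hα b hb), mul_one, hv, MulAut.apply_inv_self, ← ha]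
    · have hvB : v⁻¹ * φ t v ∈ B := by
        rw [← e, zpow_congr (j := 0) (hVexp c) (by rwa [sub_zero]), zpow_zero, one_mul]
        exact hb
      -- `v` and `C` generate the section
      by_cases hvC' : v ∈ C
      · exfalso
        obtain ⟨y', hy', b', hb', e'⟩ := mem_sup.1 hvC'
        obtain ⟨i, rfl⟩ := mem_zpowers_iff.1 hy'
        have h1 : φ α v ∈ C := by rw [hv, MulAut.apply_inv_self]; exact hc₀C
        rw [← e', map_mul, map_zpow, ← ha] at h1
        have h2 : a ^ i ∈ C := (Subgroup.mul_mem_cancel_right _ (hBC (hBinv α hα b' hb'))).1 h1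
        by_cases hi : (p : ℤ) ∣ i
        · rw [zpow_congr (j := 0) (hVexp c) (by rwa [sub_zero]), zpow_zero, one_mul] at e'
          refine hc₀B ?_
          rw [← MulAut.apply_inv_self V (φ α) c₀, ← hv, ← e']
          exact hBinv α hα b' hb'
        · obtain ⟨k, hk⟩ := solve_mod hi 1
          refine hαc ?_
          have h3 := zpow_mem h2 k
          rwa [← zpow_mul, zpow_congr (hVexp a) hk, zpow_one] at h3
      · intro w hw
        rw [← hTgen v hvT hvC'] at hw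
        have hle : zpowers v ⊔ C ≤ B.comap (MonoidHom.mk' (fun w => w⁻¹ * φ t w) fun a b => by
            rw [mul_inv, map_mul, mul_mul_mul_comm]) := sup_le (zpowers_le.2 hvB) (hAC t htA)
        exact hle hw
  -- products of such elements
  let Good : MulAut E → Prop := fun γ => γ ∈ F.autGroup E ∧ (∀ v ∈ B, φ γ v = v) ∧ ∀ v, v⁻¹ * φ γ v ∈ T
  have hGmul : ∀ {γ δ}, Good γ → Good δ → Good (γ * δ) := by
    intro γ δ hγ hδ
    refine ⟨mul_mem hγ.1 hδ.1, fun v hv => ?_, fun v => ?_⟩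
    · rw [map_mul, MulAut.mul_apply, hδ.2.1 v hv, hγ.2.1 v hv]
    · have := mul_mem (hδ.2.2 v) (hγ.2.2 (φ δ v))
      rw [map_mul, MulAut.mul_apply]
      simpa [mul_assoc] using this
  have hG1 : Good 1 := ⟨one_mem _, fun v _ => by simp, fun v => by simp⟩
  have hGpow : ∀ {γ}, Good γ → ∀ k : ℕ, Good (γ ^ k) := fun {γ} h k => by
    induction k with
    | zero => rw [pow_zero]; exact hG1
    | succ k ih => rw [pow_succ]; exact hGmul ih h
  have hGt : Good t := ⟨htF, hlayer t htF htk⟩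
  have hGs : Good s := ⟨hsF, hlayer s hsF hsk⟩
  have hqp : ∀ v, (q v) ^ p = 1 := fun v => by rw [← map_pow, hVexp, map_one]
  have hnat : ∀ m : ℤ, ∃ k : ℕ, (p : ℤ) ∣ (k : ℤ) - m := fun m =>
    ⟨(m % p).toNat, by
      rw [Int.toNat_of_nonneg (Int.emod_nonneg _ (by exact_mod_cast hp.out.ne_zero))]
      exact ⟨-(m / p), by linarith [Int.emod_add_mul_ediv m p]⟩⟩
  have hU : ∀ m : ℤ, ∃ γ, Good γ ∧ q (φ γ c₀) = q c₀ ∧ q (φ γ a) = q a * q c₀ ^ m := by
    intro m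
    obtain ⟨k, hk⟩ := hnat m
    refine ⟨t ^ k, hGpow hGt k, ?_, by rw [hqta, ← zpow_natCast, zpow_congr (hqp c₀) hk]⟩
    clear hk
    induction k with
    | zero => simp
    | succ k ih => rw [pow_succ', map_mul, MulAut.mul_apply, hqφ t htF ih, hqtc]
  have hLw : ∀ m : ℤ, ∃ γ, Good γ ∧ q (φ γ a) = q a ∧ q (φ γ c₀) = q c₀ * q a ^ m := by
    intro m
    obtain ⟨m', hm'⟩ := solve_mod hj m
    obtain ⟨k, hk⟩ := hnat m'
    have h0 : ∀ k : ℕ, q (φ (s ^ k) a) = q a ∧ q (φ (s ^ k) c₀) = q c₀ * q a ^ (j * k) := by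
      intro k
      induction k with
      | zero => simp
      | succ k ih =>
        refine ⟨?_, ?_⟩
        · rw [pow_succ', map_mul, MulAut.mul_apply, hqφ s hsF ih.1, hqsa]
        · have h1 : q (φ (s ^ k) c₀) = q (c₀ * a ^ (j * k)) := by rw [ih.2, map_mul, map_zpow]
          rw [pow_succ', map_mul, MulAut.mul_apply, hqφ s hsF h1, map_mul, map_mul, map_zpow, map_zpow,
            hqsc, hqsa, mul_assoc, ← zpow_add]
          congr 2; push_cast; ring
    refine ⟨s ^ k, hGpow hGs k, (h0 k).1, ?_⟩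
    rw [(h0 k).2, zpow_congr (hqp a) (show (p : ℤ) ∣ j * k - m by
      obtain ⟨r1, h1⟩ := hk
      obtain ⟨r2, h2⟩ := hm'
      exact ⟨j * r1 + r2, by linear_combination j * h1 + h2⟩)]
  obtain ⟨μ, ν, hμν, hμ1, hμ2, hμ3, hμ5, hgen⟩ := exists_torus p hp5
  obtain ⟨w, hGw, hwc, hwa⟩ : ∃ w, Good w ∧ q (φ w c₀) = q c₀ ^ μ ∧ q (φ w a) = q a ^ ν := by
    obtain ⟨U₁, gU₁, U₁c, U₁a⟩ := hU μ
    obtain ⟨U₂, gU₂, U₂c, U₂a⟩ := hU (-1)
    obtain ⟨L₁, gL₁, L₁a, L₁c⟩ := hLw 1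
    obtain ⟨L₂, gL₂, L₂a, L₂c⟩ := hLw (-ν)
    refine ⟨U₁ * L₂ * U₁ * U₂ * L₁ * U₂, hGmul (hGmul (hGmul (hGmul (hGmul gU₁ gL₂) gU₁) gU₂) gL₁) gU₂, ?_⟩
    -- the action on monomials
    have act : ∀ {γ : MulAut E}, Good γ → ∀ {v} {i k : ℤ}, q v = q c₀ ^ i * q a ^ k →
        q (φ γ v) = q (φ γ c₀) ^ i * q (φ γ a) ^ k := by
      intro γ hγ v i k hv
      have h1 : q v = q (c₀ ^ i * a ^ k) := by rw [hv, map_mul, map_zpow, map_zpow]
      rw [hqφ γ hγ.1 h1, map_mul, map_mul, map_zpow, map_zpow, map_zpow, map_zpow]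
    have sU : ∀ {γ : MulAut E} {m : ℤ}, Good γ → q (φ γ c₀) = q c₀ → q (φ γ a) = q a * q c₀ ^ m →
        ∀ {v} {i k : ℤ}, q v = q c₀ ^ i * q a ^ k → q (φ γ v) = q c₀ ^ (i + m * k) * q a ^ k := by
      intro γ m hγ h1 h2 v i k hv
      rw [act hγ hv, h1, h2, mul_zpow, ← zpow_mul, zpow_add, mul_comm (q a ^ k), ← mul_assoc]
    have sL : ∀ {γ : MulAut E} {m : ℤ}, Good γ → q (φ γ a) = q a → q (φ γ c₀) = q c₀ * q a ^ m →
        ∀ {v} {i k : ℤ}, q v = q c₀ ^ i * q a ^ k → q (φ γ v) = q c₀ ^ i * q a ^ (k + m * i) := by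
      intro γ m hγ h1 h2 v i k hv
      rw [act hγ hv, h1, h2, mul_zpow, ← zpow_mul, zpow_add, mul_assoc, mul_comm (q a ^ (m * i))]
    constructor
    · have e := sU gU₁ U₁c U₁a (sL gL₂ L₂a L₂c (sU gU₁ U₁c U₁a (sU gU₂ U₂c U₂a (sL gL₁ L₁a L₁c
        (sU gU₂ U₂c U₂a (show q c₀ = q c₀ ^ (1 : ℤ) * q a ^ (0 : ℤ) by simp))))))
      simp only [← MulAut.mul_apply, ← map_mul, ← mul_assoc] at e
      rw [e, zpow_congr (hqp c₀) (j := μ) (by
          obtain ⟨r, hr⟩ := hμν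
          exact ⟨-μ * r, by linear_combination -μ * hr⟩),
        zpow_congr (hqp a) (j := 0) (by
          obtain ⟨r, hr⟩ := hμν
          exact ⟨-r, by linear_combination -hr⟩), zpow_zero, mul_one]
    · have e := sU gU₁ U₁c U₁a (sL gL₂ L₂a L₂c (sU gU₁ U₁c U₁a (sU gU₂ U₂c U₂a (sL gL₁ L₁a L₁c
        (sU gU₂ U₂c U₂a (show q a = q c₀ ^ (0 : ℤ) * q a ^ (1 : ℤ) by simp))))))
      simp only [← MulAut.mul_apply, ← map_mul, ← mul_assoc] at e
      rw [e, zpow_congr (hqp c₀) (j := 0) (by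
          obtain ⟨r, hr⟩ := hμν
          exact ⟨r, by linear_combination hr⟩),
        zpow_congr (hqp a) (j := ν) ⟨0, by ring⟩, zpow_zero, one_mul]
  -- a coprime power
  obtain ⟨M, m, hm, hord⟩ := Nat.exists_eq_pow_mul_and_not_dvd (orderOf_pos w).ne' p hp.out.ne_one
  obtain ⟨τ, hτdef⟩ : ∃ τ, τ = w ^ p ^ M := ⟨_, rfl⟩
  have hτm : τ ^ m = 1 := by rw [hτdef, ← pow_mul, ← hord, pow_orderOf_eq_one]
  have hGτ : Good τ := hτdef ▸ hGpow hGw _
  have hpM : ∀ i : ℤ, (p : ℤ) ∣ i ^ p ^ M - i := fun i => by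
    rw [← ZMod.intCast_zmod_eq_zero_iff_dvd]
    push_cast
    rw [ZMod.pow_card_pow, sub_self]
  have hτq : q (φ τ c₀) = q c₀ ^ μ ∧ q (φ τ a) = q a ^ ν := by
    have key : ∀ {v : V} {r : ℤ}, q (φ w v) = q v ^ r → ∀ k : ℕ, q (φ (w ^ k) v) = q v ^ (r ^ k) := by
      intro v r h k
      induction k with
      | zero => simp
      | succ k ih =>
        have h1 : q (φ (w ^ k) v) = q (v ^ (r ^ k)) := by rw [ih, map_zpow]
        rw [pow_succ' w, map_mul, MulAut.mul_apply, hqφ w hGw.1 h1, map_zpow, map_zpow, h, ← zpow_mul,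
          ← pow_succ']
    exact ⟨by rw [hτdef, key hwc, zpow_congr (hqp c₀) (hpM μ)], by rw [hτdef, key hwa, zpow_congr (hqp a) (hpM ν)]⟩
  have hν1 : ¬ (p : ℤ) ∣ ν - 1 := fun h => hμ1 (by
    obtain ⟨r, hr⟩ := hμν
    obtain ⟨r', hr'⟩ := h
    exact ⟨r - μ * r', by linear_combination hr - μ * hr'⟩)
  -- exact eigenvectors
  have heigen : ∀ {v : V} {r : ℤ}, ¬ (p : ℤ) ∣ r - 1 → q (φ τ v) = q v ^ r →
      ∃ v' : V, φ τ v' = v' ^ r ∧ v⁻¹ * v' ∈ B := by
    intro v r hr h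
    rw [← map_zpow, hq] at h
    obtain ⟨k, hk⟩ := solve_mod hr (-1)
    obtain ⟨b, hb⟩ : ∃ b, b = (φ τ v)⁻¹ * v ^ r := ⟨_, rfl⟩
    rw [← hb] at h
    refine ⟨v * b ^ k, ?_, by rw [inv_mul_cancel_left]; exact zpow_mem h k⟩
    rw [map_mul, map_zpow, hGτ.2.1 b h, mul_zpow, ← zpow_mul,
      show φ τ v = v ^ r * b⁻¹ by rw [hb, mul_inv_rev, inv_inv, mul_inv_cancel_left], mul_assoc,
      ← zpow_neg_one b, ← zpow_add]
    congr 1
    refine zpow_congr (hVexp b) ?_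
    obtain ⟨r', hr'⟩ := hk
    exact ⟨-r', by linear_combination -hr'⟩
  obtain ⟨c', hτc', hc'⟩ := heigen hμ1 hτq.1
  obtain ⟨a', hτa', ha'⟩ := heigen hν1 hτq.2
  have hqc' : q c' = q c₀ := (hq.2 hc').symm
  have hqa' : q a' = q a := (hq.2 ha').symm
  have hc'C : c' ∈ C := by
    rw [← mul_inv_cancel_left c₀ c']; exact mul_mem hc₀C (hBC hc')
  have ha'T : a' ∈ T := by
    rw [← mul_inv_cancel_left a a']; exact mul_mem haT (hBT.le ha')
  have ha'C : a' ∉ C := fun h => hαc (by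
    have := mul_mem h (hBC (inv_mem ha'))
    rwa [mul_inv_rev, inv_inv, mul_inv_cancel_left] at this)
  have hCgen' : ∀ v ∈ C, ∃ i : ℤ, ∃ b ∈ B, v = c' ^ i * b := by
    intro v hv
    obtain ⟨i, hi⟩ := hCgen v hv
    refine ⟨i, (c' ^ i)⁻¹ * v, hq.1 ?_, (mul_inv_cancel_left _ _).symm⟩
    rw [map_zpow, hqc', hi]
  -- the weight zero vector
  obtain ⟨u₀, hτu, hu₀, hspan⟩ : ∃ u₀ : V, φ τ u₀ = u₀ ∧ (B = ⊥ → u₀ ∉ T) ∧
      (T = ⊤ → u₀ ∈ B ∧ u₀ ≠ 1) ∧ True := by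
    rcases hcase with ⟨hB, hT⟩ | ⟨hB, hT⟩
    · obtain ⟨v, hv⟩ : ∃ v, v ∉ T := by
        by_contra hcon
        push Not at hcon
        rw [(Subgroup.eq_top_iff' T).2 hcon, Subgroup.card_top, hV] at hT
        exact absurd (Nat.pow_right_injective hp.out.two_le hT) (by norm_num)
      obtain ⟨y, hy, b, hb, e⟩ := mem_sup.1 ((hTgen a' ha'T ha'C).ge (hGτ.2.2 v))
      obtain ⟨j', rfl⟩ := mem_zpowers_iff.1 hy
      obtain ⟨i', b', hb', rfl⟩ := hCgen' b hb
      rw [hB, mem_bot] at hb'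
      subst hb'
      obtain ⟨k, hk⟩ := solve_mod hμ1 (-i')
      obtain ⟨l, hl⟩ := solve_mod hν1 (-j')
      refine ⟨v * (a' ^ l * c' ^ k), ?_, fun _ h => hv ?_, fun h => ?_, trivial⟩
      · have e' : φ τ v = v * (a' ^ j' * c' ^ i') := by
          rw [← mul_inv_cancel_left v (φ τ v), ← e, mul_one]
        rw [map_mul, map_mul, map_zpow, map_zpow, hτa', hτc', e', ← zpow_mul, ← zpow_mul, mul_assoc,
          mul_mul_mul_comm, ← zpow_add, ← zpow_add]
        obtain ⟨r1, h1⟩ := hk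
        obtain ⟨r2, h2⟩ := hl
        congr 2
        · exact zpow_congr (hVexp a') ⟨r2, by linear_combination h2⟩
        · exact zpow_congr (hVexp c') ⟨r1, by linear_combination h1⟩
      · exact (Subgroup.mul_mem_cancel_right _ (mul_mem (zpow_mem ha'T _) (zpow_mem (hCT hc'C) _))).1 h
      · rw [h, Subgroup.card_top, hV] at hT
        exact absurd (Nat.pow_right_injective hp.out.two_le hT) (by norm_num)
    · obtain ⟨u₀, hu, hu1⟩ := (Subgroup.bot_or_exists_ne_one B).resolve_left fun h => by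
        rw [h, Subgroup.card_bot] at hB; exact hp1.ne hB
      refine ⟨u₀, hGτ.2.1 u₀ hu, fun h => ?_, fun _ => ⟨hu, hu1⟩, trivial⟩
      rw [h, Subgroup.card_bot] at hB
      exact absurd hB hp1.ne
  obtain ⟨hu₁, -⟩ := hspan
  -- displacements under `x`
  obtain ⟨z₀, hz₀⟩ : ∃ z₀, z₀ = a'⁻¹ * φ t a' := ⟨_, rfl⟩
  have hz₀C : z₀ ∈ C := by
    rw [hz₀]
    obtain ⟨k, hk⟩ := htk
    exact FourthEssential.layer_trivial C T hCT (by rw [hcardT, hcardC]; ring) _ (k := k)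
      (by rw [← map_pow, hk, map_one]) (hACinv t htA) (hTinv t htF) a' ha'T
  have hqz₀ : q z₀ = q c₀ := by
    rw [hz₀, hc₀, map_mul, map_mul, map_inv, map_inv, hqa', hqφ t htF hqa']
  -- membership in the Sylow subgroup
  have hstab : ∀ γ, Good γ → (∀ v ∈ C, v⁻¹ * φ γ v ∈ B) → a⁻¹ * φ γ a ∈ C → γ ∈ A := by
    intro γ hγ hγC hγa
    let P : MulAut E → Prop := fun δ => Good δ ∧ (∀ v ∈ C, v⁻¹ * φ δ v ∈ B) ∧ a⁻¹ * φ δ a ∈ C
    have hPC : ∀ {δ}, P δ → ∀ v ∈ C, φ δ v ∈ C := fun hδ v hv => by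
      rw [← mul_inv_cancel_left v (φ _ v)]; exact mul_mem hv (hBC (hδ.2.1 v hv))
    let M₀ : Submonoid (F.autGroup E) :=
      { carrier := {δ | P δ}
        one_mem' := ⟨hG1, fun v _ => by simp, by simp⟩
        mul_mem' := by
          intro δ ε hδ hε
          refine ⟨hGmul hδ.1 hε.1, fun v hv => ?_, ?_⟩
          · have := mul_mem (hε.2.1 v hv) (hδ.2.1 _ (hPC hε v hv))
            rw [Subgroup.coe_mul, map_mul, MulAut.mul_apply]
            simpa [mul_assoc] using this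
          · have h1 : φ (δ : MulAut E) (a⁻¹ * φ (ε : MulAut E) a) ∈ C := hPC hδ _ hε.2.2
            have := mul_mem hδ.2.2 h1
            rw [Subgroup.coe_mul, map_mul, MulAut.mul_apply]
            simpa [mul_assoc, map_mul, map_inv] using this }
    let M : Subgroup (F.autGroup E) :=
      { M₀ with
        inv_mem' := fun {δ} hδ => by
          have e : δ⁻¹ = δ ^ (orderOf δ - 1) := by
            refine inv_eq_of_mul_eq_one_left ?_
            rw [← pow_succ, Nat.sub_add_cancel (orderOf_pos δ), pow_orderOf_eq_one]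
          show δ⁻¹ ∈ M₀
          rw [e]
          exact M₀.pow_mem hδ _ }
    have hMp : IsPGroup p M := by
      intro δ
      have hδ : P ((δ : F.autGroup E) : MulAut E) := δ.2
      obtain ⟨k, hk⟩ := trivial_mod_frattini hEp ((δ : F.autGroup E) : MulAut E)
        (m := 4) ![frattini E, B.comap π, C.comap π, T.comap π, ⊤] (fun i e he => by
          fin_cases i
          · exact frattini_inv _ he
          · exact hBinv _ hδ.1.1 _ he
          · exact hPC hδ _ he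
          · exact hTinv _ hδ.1.1 _ he
          · trivial) rfl (fun i e he => by
          fin_cases i
          · exact hcl.1 ((hδ.1.2.1 (π e) he).symm.trans (hφ _ e))
          · show π (e⁻¹ * _) ∈ B
            rw [map_mul, map_inv, ← hφ]; exact hδ.2.1 _ he
          · show π (e⁻¹ * _) ∈ C
            rw [map_mul, map_inv, ← hφ]
            have hle : zpowers a ⊔ C ≤ C.comap (MonoidHom.mk'
                (fun w => w⁻¹ * φ ((δ : F.autGroup E) : MulAut E) w) fun a b => by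
              rw [mul_inv, map_mul, mul_mul_mul_comm]) :=
              sup_le (zpowers_le.2 hδ.2.2) fun v hv => hBC (hδ.2.1 v hv)
            exact hle (haTgen.ge he)
          · show π (e⁻¹ * _) ∈ T
            rw [map_mul, map_inv, ← hφ]; exact hδ.1.2.2 _) (Fin.last 4)
      have hmem : ((δ : F.autGroup E) : MulAut E) ^ p ^ k ∈ CfsgLib.MetacyclicAut.frattiniKernel E :=
        fun e => (inferInstance : (frattini E).Normal).mem_comm (hk e trivial)
      obtain ⟨i, hi⟩ := (CfsgLib.MetacyclicAut.isPGroup_frattiniKernel hEp) ⟨_, hmem⟩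
      refine ⟨k + i, Subtype.ext (Subtype.ext ?_)⟩
      show ((δ : F.autGroup E) : MulAut E) ^ p ^ (k + i) = 1
      rw [pow_add, pow_mul]
      exact congrArg Subtype.val hi
    obtain ⟨-, R, hR⟩ := (good_of_fullyNormalized p hS hF hE.2.1).1
    have hle : (R : Subgroup (F.autGroup E)) ≤ M := by
      rw [hR]
      intro δ hδ
      have hδA : (δ : MulAut E) ∈ A := hδ
      obtain ⟨g, hg, hg'⟩ := mem_autInducedBy.1 hδA
      refine ⟨⟨hAF hδA, hlayer _ (hAF hδA) (hApe _ hδA)⟩, hAC _ hδA, ?_⟩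
      have hgn : g ∈ normalizerIn S E := ⟨hg, mem_normalizer_of_aut hg'⟩
      have e : (δ : MulAut E) = conjAut S E ⟨g, hgn⟩ := MulEquiv.ext fun v => Subtype.ext (hg' v)
      rw [e]; exact hTA g hgn
    have := (R.3 hMp hle).le (show (⟨γ, hγ.1⟩ : F.autGroup E) ∈ M from ⟨hγ, hγC, hγa⟩)
    rw [hR] at this
    exact this
  -- the torus normalises the Sylow subgroup
  have hGinv : ∀ {γ}, Good γ → Good γ⁻¹ := fun {γ} h => by
    rw [show γ⁻¹ = γ ^ (orderOf γ - 1) from inv_eq_of_mul_eq_one_left (by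
      rw [← pow_succ, Nat.sub_add_cancel (orderOf_pos γ), pow_orderOf_eq_one])]
    exact hGpow h _
  have hτC : ∀ v ∈ C, φ τ v ∈ C := by
    intro v hv
    obtain ⟨i, b, hb, rfl⟩ := hCgen' v hv
    rw [map_mul, map_zpow, hτc', hGτ.2.1 b hb]
    exact mul_mem (zpow_mem (zpow_mem hc'C _) _) (hBC hb)
  have hτC' : ∀ v ∈ C, φ τ⁻¹ v ∈ C := by
    intro v hv
    have e : τ⁻¹ = τ ^ (m - 1) := inv_eq_of_mul_eq_one_left (by
      rw [← pow_succ, Nat.sub_add_cancel (Nat.one_le_iff_ne_zero.2 fun (h : m = 0) => hm (by rw [h]; exact dvd_zero p)), hτm])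
    rw [e]
    generalize m - 1 = k
    induction k with
    | zero => simpa using hv
    | succ k ih => rw [pow_succ', map_mul, MulAut.mul_apply]; exact hτC _ ih
  have hnormτ : ∀ γ ∈ A, τ * γ * τ⁻¹ ∈ A := by
    intro γ hγ
    refine hstab _ (hGmul (hGmul hGτ ⟨hAF hγ, hlayer _ (hAF hγ) (hApe _ hγ)⟩) (hGinv hGτ))
      (fun v hv => ?_) ?_
    · have h1 := hBinv τ hGτ.1 _ (hAC γ hγ _ (hτC' v hv))
      simpa [MulAut.mul_apply, map_mul, map_inv] using h1
    · have h2 : (φ τ)⁻¹ a ∈ T := by rw [← map_inv]; exact hTinv _ (inv_mem hGτ.1) a haT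
      obtain ⟨k, hk⟩ := hApe γ hγ
      have h3 := FourthEssential.layer_trivial C T hCT (by rw [hcardT, hcardC]; ring) _ (k := k)
        (by rw [← map_pow, hk, map_one]) (hACinv γ hγ) (hTinv γ (hAF hγ)) _ h2
      have h4 := hτC _ h3
      simpa [MulAut.mul_apply, map_mul, map_inv] using h4
  obtain ⟨h, hh, hhcj⟩ : ∃ (h : Ω) (hh : h ∈ normalizerIn S E), τ * t = conjAut S E ⟨h, hh⟩ * τ := by
    obtain ⟨g, hg, hg'⟩ := mem_autInducedBy.1 (hnormτ t htA)
    have hgn : g ∈ normalizerIn S E := ⟨hg, mem_normalizer_of_aut hg'⟩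
    refine ⟨g, hgn, ?_⟩
    rw [← show τ * t * τ⁻¹ = conjAut S E ⟨g, hgn⟩ from MulEquiv.ext fun v => Subtype.ext (hg' v),
      inv_mul_cancel_right]
  obtain ⟨i₁, hi₁⟩ := hcover h hh
  obtain ⟨k₁, hk₁⟩ := hnat i₁
  have hφh : φ (conjAut S E ⟨h, hh⟩) = φ (t ^ k₁) := by
    have hw : conjAut S E ⟨h, hh⟩ = conjAut S E ⟨h * x ^ (-i₁), le_normalizerIn hES hi₁⟩ * t ^ i₁ := by
      rw [ht, ← map_zpow, ← map_mul]; exact congrArg _ (Subtype.ext (by simp))
    rw [hw, map_mul, show φ (conjAut S E ⟨h * x ^ (-i₁), le_normalizerIn hES hi₁⟩) = 1 from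
      MulEquiv.ext fun v => hinn _ hi₁ v, one_mul, map_zpow, map_pow, ← zpow_natCast,
      zpow_congr htp hk₁]
  have hcomm : ∀ v, φ τ (φ t v) = φ (t ^ k₁) (φ τ v) := fun v => by
    rw [← MulAut.mul_apply, ← map_mul, hhcj, map_mul, MulAut.mul_apply, hφh]
  have hk2 : (p : ℤ) ∣ (k₁ : ℤ) - μ ^ 2 := by
    by_contra hcon
    have e1 : φ t a' = a' * z₀ := by rw [hz₀, mul_inv_cancel_left]
    have e2 := hcomm a'
    rw [hτa', e1] at e2
    have h1 : q (φ (t ^ k₁) a') = q (a * c₀ ^ k₁) := by rw [hqφ _ (pow_mem htF _) hqa', hqta, map_mul, map_pow]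
    have e3 : q (φ τ (a' * z₀)) = q a ^ ν * q c₀ ^ μ := by
      rw [map_mul, map_mul, hτa', map_zpow, hqa', hqφ τ hGτ.1 hqz₀, hτq.1]
    have e4 : q (φ (t ^ k₁) (a' ^ ν)) = q a ^ ν * q c₀ ^ ((k₁ : ℤ) * ν) := by
      rw [map_zpow, map_zpow, h1, map_mul, map_pow, mul_zpow, ← zpow_natCast, ← zpow_mul]
    rw [← congrArg q e2] at e4
    rw [e3, mul_right_inj] at e4
    refine hcon ?_
    have hd : (p : ℤ) ∣ μ - (k₁ : ℤ) * ν := by
      by_contra hnd
      refine hc₀B (hq1.1 (eq_one_of_zpow (hqp c₀) hnd ?_))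
      rw [zpow_sub, e4, mul_inv_cancel]
    obtain ⟨r, hr⟩ := hd
    obtain ⟨r', hr'⟩ := hμν
    exact ⟨-μ * r - k₁ * r', by linear_combination -μ * hr - (k₁ : ℤ) * hr'⟩
  have hxh : h * x ^ (-μ ^ 2) ∈ E := by
    obtain ⟨r, hr⟩ : (p : ℤ) ∣ i₁ - μ ^ 2 := by
      obtain ⟨r1, h1⟩ := hk₁
      obtain ⟨r2, h2⟩ := hk2
      exact ⟨r2 - r1, by linear_combination h2 - h1⟩
    rw [show -μ ^ 2 = -i₁ + (p : ℤ) * r by omega, zpow_add, ← mul_assoc, zpow_mul, zpow_natCast]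
    exact mul_mem hi₁ (zpow_mem hxp r)
  -- powers of `t` on a vector with fixed displacement
  have hpow : ∀ (D : Subgroup V), (∀ γ ∈ A, ∀ v ∈ D, φ γ v ∈ D) → ∀ v : V,
      (v⁻¹ * φ t v)⁻¹ * φ t (v⁻¹ * φ t v) ∈ D → ∀ k : ℕ, (v * (v⁻¹ * φ t v) ^ k)⁻¹ * φ (t ^ k) v ∈ D := by
    intro D hD v hv k
    obtain ⟨d, hd⟩ : ∃ d, v⁻¹ * φ t v = d := ⟨_, rfl⟩
    rw [hd] at hv ⊢
    induction k with
    | zero => simp
    | succ k ih =>
      have e : φ t (v * d ^ k) = v * d ^ (k + 1) * (d⁻¹ * φ t d) ^ k := by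
        rw [map_mul, map_pow, show φ t v = v * d by rw [← hd, mul_inv_cancel_left],
          show φ t d = d * (d⁻¹ * φ t d) from (mul_inv_cancel_left _ _).symm, mul_pow, pow_succ',
          inv_mul_cancel_left]
        simp only [mul_assoc]
      have h1 := mul_mem (pow_mem hv k) (hD t htA _ ih)
      rw [pow_succ' t, map_mul, MulAut.mul_apply]
      rwa [map_mul, map_inv, e, mul_inv_rev, ← mul_assoc, mul_inv_cancel_left] at h1
  have hpow1 : ∀ v : V, φ t (v⁻¹ * φ t v) = v⁻¹ * φ t v →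
      φ τ (v⁻¹ * φ t v) = (φ τ v)⁻¹ * φ (t ^ k₁) (φ τ v) := fun v _ => by
    rw [map_mul, map_inv, hcomm]
  have hfixpow : ∀ v : V, φ t (v⁻¹ * φ t v) = v⁻¹ * φ t v → ∀ (k : ℕ) (i : ℤ),
      (v ^ i)⁻¹ * φ (t ^ k) (v ^ i) = (v⁻¹ * φ t v) ^ ((k : ℤ) * i) := by
    intro v hv k i
    have h1 := hpow ⊥ (fun γ _ w hw => by rw [mem_bot.1 hw, map_one]; exact one_mem _) v
      (by rw [hv, inv_mul_cancel]; exact one_mem _) k
    rw [mem_bot, inv_mul_eq_one] at h1
    rw [map_zpow, ← h1, mul_zpow, inv_mul_cancel_left, ← zpow_natCast, ← zpow_mul]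
  have hfixC : ∀ v ∈ B, φ t v = v := (hlayer t htF htk).1
  have hkill : ∀ {d : V} {i j : ℤ}, φ τ d = d ^ i → φ τ d = d ^ j → ¬ (p : ℤ) ∣ i - j → d = 1 :=
    fun {d i j} h1 h2 h3 => eq_one_of_weights (φ τ).toMonoidHom h1 h2 (hVexp d) h3
  have hμ3' : ¬ (p : ℤ) ∣ 1 - (k₁ : ℤ) * μ := fun h => hμ3 (by
    obtain ⟨r, hr⟩ := h
    obtain ⟨r', hr'⟩ := hk2
    exact ⟨-r - μ * r', by linear_combination -hr - μ * hr'⟩)
  have hdc' : φ t c' = c' := by
    have hd : c'⁻¹ * φ t c' ∈ B := hAC t htA c' hc'C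
    refine (inv_mul_eq_one.1 (hkill (i := 1) (j := (k₁ : ℤ) * μ) ?_ ?_ hμ3')).symm
    · rw [zpow_one, hGτ.2.1 _ hd]
    · rw [hpow1 c' (hfixC _ hd), hτc', hfixpow c' (hfixC _ hd)]
  have hdC : ∀ v ∈ C, φ t v = v := by
    intro v hv
    obtain ⟨i, b, hb, rfl⟩ := hCgen' v hv
    rw [map_mul, map_zpow, hdc', hfixC b hb]
  have hτz : φ τ z₀ = z₀ ^ μ := by
    rw [hz₀, hpow1 a' (hdC _ (hz₀ ▸ hz₀C)), hτa', hfixpow a' (hdC _ (hz₀ ▸ hz₀C))]
    refine zpow_congr (hVexp _) ?_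
    obtain ⟨r, hr⟩ := hk2
    obtain ⟨r', hr'⟩ := hμν
    exact ⟨r * ν + μ * r', by linear_combination ν * hr + μ * hr'⟩
  have hdu : φ t u₀ = u₀ := by
    rcases hcase with ⟨hB, hT⟩ | ⟨hB, hT⟩
    · obtain ⟨d, hd⟩ : ∃ d, u₀⁻¹ * φ t u₀ = d := ⟨_, rfl⟩
      have hdT : d ∈ T := hd ▸ (hlayer t htF htk).2 u₀
      have hdd : d⁻¹ * φ t d ∈ C := by
        obtain ⟨k, hk⟩ := htk
        exact FourthEssential.layer_trivial C T hCT (by rw [hcardT, hcardC]; ring) _ (k := k)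
          (by rw [← map_pow, hk, map_one]) (hACinv t htA) (hTinv t htF) d hdT
      have hdC' : d ∈ C := by
        have h1 := hpow C hACinv u₀ (hd.symm ▸ hdd) k₁
        rw [hd] at h1
        have h2 : (d ^ k₁)⁻¹ * φ τ d ∈ C := by
          have e : φ τ d = u₀⁻¹ * φ (t ^ k₁) u₀ := by rw [← hd, map_mul, map_inv, hcomm, hτu]
          rw [e, ← mul_assoc, ← mul_inv_rev]
          exact h1
        obtain ⟨y, hy, w', hw', e⟩ := mem_sup.1 ((hTgen a' ha'T ha'C).ge hdT)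
        obtain ⟨j', rfl⟩ := mem_zpowers_iff.1 hy
        rw [← e, mul_pow, map_mul, map_zpow, hτa', mul_inv] at h2
        have h3 : (a' ^ j') ^ ν * ((a' ^ j') ^ k₁)⁻¹ ∈ C := by
          have h4 := mul_mem h2 (mul_mem (pow_mem hw' k₁) (inv_mem (hτC w' hw')))
          have e5 : ((a' ^ j') ^ k₁)⁻¹ * (w' ^ k₁)⁻¹ * ((a' ^ ν) ^ j' * φ τ w') *
              (w' ^ k₁ * (φ τ w')⁻¹) = (a' ^ j') ^ ν * ((a' ^ j') ^ k₁)⁻¹ := by
            rw [show (a' ^ ν) ^ j' = (a' ^ j') ^ ν by rw [← zpow_mul, ← zpow_mul, mul_comm]]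
            generalize (a' ^ j') ^ k₁ = X
            generalize (a' ^ j') ^ ν = Y
            generalize w' ^ k₁ = Z
            generalize φ τ w' = W
            calc X⁻¹ * Z⁻¹ * (Y * W) * (Z * W⁻¹) = (Y * X⁻¹) * ((Z⁻¹ * Z) * (W * W⁻¹)) := by
                  ac_rfl
              _ = Y * X⁻¹ := by simp
          rwa [e5] at h4
        rw [← zpow_natCast (a' ^ j'), ← zpow_neg, ← zpow_add, ← zpow_mul] at h3
        have hdiv : (p : ℤ) ∣ j' * (ν + -(k₁ : ℤ)) := by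
          by_contra hnd
          obtain ⟨k, hk⟩ := solve_mod hnd 1
          refine ha'C ?_
          have h6 := zpow_mem h3 k
          rwa [← zpow_mul, zpow_congr (hVexp a') hk, zpow_one] at h6
        rcases (Nat.prime_iff_prime_int.1 hp.out).dvd_or_dvd hdiv with hj' | hj'
        · rw [← e, zpow_congr (j := 0) (hVexp a') (by rwa [sub_zero]), zpow_zero, one_mul]
          exact hw'
        · exfalso
          refine hμ3 ?_
          obtain ⟨r, hr⟩ := hj'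
          obtain ⟨r', hr'⟩ := hk2
          obtain ⟨r'', hr''⟩ := hμν
          exact ⟨-μ * r + r'' - μ * r', by linear_combination -μ * hr + hr'' - μ * hr'⟩
      obtain ⟨i', b, hb, rfl⟩ := hCgen' d hdC'
      rw [hB, mem_bot] at hb
      subst hb
      rw [mul_one] at hd hdC'
      have hdt : φ t (u₀⁻¹ * φ t u₀) = u₀⁻¹ * φ t u₀ := hdC _ (hd.symm ▸ hdC')
      refine (inv_mul_eq_one.1 (hkill (i := μ) (j := (k₁ : ℤ)) ?_ ?_ fun h => hμ1 ?_)).symm
      · rw [hd, map_zpow, hτc', ← zpow_mul, ← zpow_mul, mul_comm]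
      · rw [hpow1 u₀ hdt, hτu]
        have := hfixpow u₀ hdt k₁ 1
        rwa [zpow_one, mul_one] at this
      · obtain ⟨r, hr⟩ := h
        obtain ⟨r', hr'⟩ := hk2
        obtain ⟨r'', hr''⟩ := hμν
        exact ⟨-ν * r - ν * r' - (μ - 1) * r'', by
          linear_combination -ν * hr - ν * hr' - (μ - 1) * hr''⟩
    · exact hfixC u₀ (hu₁ hT).1
  -- spanning
  have hgenV : ∀ v : V, ∃ i j k : ℤ, a' ^ i * z₀ ^ j * u₀ ^ k = v := by
    let H : Subgroup V := zpowers a' ⊔ zpowers z₀ ⊔ zpowers u₀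
    have hH : H = ⊤ := by
      rcases hcase with ⟨hB, hT⟩ | ⟨hB, hT⟩
      · have hzc : z₀ = c₀ := by
          have := hq.1 hqz₀
          rw [hB, mem_bot, inv_mul_eq_one] at this
          exact this
        have hTH : T ≤ H := by
          rw [← hTgen a' ha'T ha'C]
          refine sup_le (le_sup_left.trans le_sup_left) fun v hv => ?_
          obtain ⟨i, hi⟩ := hCgen v hv
          rw [← map_zpow, hq, hB, mem_bot, inv_mul_eq_one] at hi
          rw [hi, ← hzc]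
          exact mem_sup_left (mem_sup_right (zpow_mem (mem_zpowers z₀) i))
        have hlt : T < H := SetLike.lt_iff_le_and_exists.2
          ⟨hTH, u₀, mem_sup_right (mem_zpowers u₀), hu₀ hB⟩
        refine Subgroup.eq_top_of_le_card _ ?_
        have h1 := CfsgLib.Solvable.card_lt_of_lt hlt
        obtain ⟨i, hi⟩ := IsPGroup.iff_card.1 (hVp.to_subgroup H)
        rw [hT, hi, Nat.pow_lt_pow_iff_right hp1] at h1
        rw [hV, hi]
        exact Nat.pow_le_pow_right hp.out.pos (by omega)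
      · have hBu : B = zpowers u₀ := by
          refine (Subgroup.eq_of_le_of_card_ge (zpowers_le.2 (hu₁ hT).1) ?_).symm
          rw [hB, Nat.card_zpowers]
          exact (orderOf_eq_prime (hVexp u₀) (hu₁ hT).2).ge
        rw [eq_top_iff, ← hT, ← hTgen a' ha'T ha'C]
        refine sup_le (le_sup_left.trans le_sup_left) fun v hv => ?_
        obtain ⟨i, hi⟩ := hCgen v hv
        have hzH : z₀ ^ i ∈ H := mem_sup_left (mem_sup_right (zpow_mem (mem_zpowers z₀) i))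
        have hb : (z₀ ^ i)⁻¹ * v ∈ B := hq.1 (by rw [map_zpow, hqz₀, hi])
        rw [← mul_inv_cancel_left (z₀ ^ i) v]
        exact mul_mem hzH (mem_sup_right (hBu ▸ hb))
    intro v
    obtain ⟨y, hy, w', hw', rfl⟩ := mem_sup.1 (hH.ge (mem_top v))
    obtain ⟨y₁, hy₁, y₂, hy₂, rfl⟩ := mem_sup.1 hy
    obtain ⟨i, rfl⟩ := mem_zpowers_iff.1 hy₁
    obtain ⟨j, rfl⟩ := mem_zpowers_iff.1 hy₂
    obtain ⟨k, rfl⟩ := mem_zpowers_iff.1 hw'
    exact ⟨i, j, k, rfl⟩
  have hindV : ∀ i j k : ℤ, a' ^ i * z₀ ^ j * u₀ ^ k = 1 →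
      (p : ℤ) ∣ i ∧ (p : ℤ) ∣ j ∧ (p : ℤ) ∣ k := by
    haveI : NeZero p := ⟨hp.out.ne_zero⟩
    let f : ZMod p × ZMod p × ZMod p → V := fun r => a' ^ r.1.val * z₀ ^ r.2.1.val * u₀ ^ r.2.2.val
    have hf : ∀ i j k : ℤ, f ((i : ZMod p), (j : ZMod p), (k : ZMod p)) = a' ^ i * z₀ ^ j * u₀ ^ k := by
      intro i j k
      have hc : ∀ (y : V) (i : ℤ), y ^ ((i : ZMod p).val) = y ^ i := fun y i => by
        rw [← zpow_natCast]
        refine zpow_congr (hVexp y) ?_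
        rw [← ZMod.intCast_zmod_eq_zero_iff_dvd]
        push_cast
        rw [ZMod.natCast_zmod_val, sub_self]
      simp only [f, hc]
    have hfs : Function.Surjective f := fun v => by
      obtain ⟨i, j, k, e⟩ := hgenV v
      exact ⟨_, (hf i j k).trans e⟩
    have hfb : Function.Bijective f := (Nat.bijective_iff_surjective_and_card f).2 ⟨hfs, by
      rw [Nat.card_prod, Nat.card_prod, Nat.card_zmod, hV]; ring⟩
    intro i j k e
    have h0 : f ((i : ZMod p), (j : ZMod p), (k : ZMod p)) = f ((0 : ℤ), (0 : ℤ), (0 : ℤ)) := by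
      rw [hf, hf, e]; simp
    have h1 := hfb.1 h0
    simp only [Prod.mk.injEq, Int.cast_zero, ZMod.intCast_zmod_eq_zero_iff_dvd] at h1
    exact h1
  -- the lifts
  obtain ⟨n, hn⟩ := hπ a'
  obtain ⟨u, hu⟩ := hπ u₀
  set z := n⁻¹ * t n with hzd
  have hπz : π z = z₀ := by rw [hzd, map_mul, map_inv, ← hφ, hn, hz₀]
  have hspanE : ∀ e : E, ∃ i j k : ℤ, (n ^ i * z ^ j * u ^ k)⁻¹ * e ∈ frattini E := by
    intro e
    obtain ⟨i, j, k, h⟩ := hgenV (π e)
    refine ⟨i, j, k, hcl.1 ?_⟩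
    simp only [map_mul, map_zpow, hn, hπz, hu, h]
  refine ⟨{
    μ := μ, ν := ν, μν := hμν, μ1 := hμ1, μ2 := hμ2, μ3 := hμ3, μ5 := hμ5, gen := hgen
    n := n, z := z, u := u, x := x, hxN := hxN, hxE := hxE, cover := hcover
    τ := τ, hτ := hGτ.1, τ_cop := ⟨m, hm, hτm⟩
    τ_n := hcl.1 (by rw [map_zpow, hn, ← hφ, hn, hτa'])
    τ_z := hcl.1 (by rw [map_zpow, hπz, ← hφ, hπz, hτz])
    τ_u := hcl.1 (by rw [← hφ, hu, hτu])
    τ_norm := hnormτ
    τ_x := ⟨h, hh, hxh, hhcj⟩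
    z_def := rfl
    x_z := hcl.1 (by rw [← hφ, hπz, hdC _ hz₀C])
    x_u := hcl.1 (by rw [← hφ, hu, hdu])
    span := hspanE
    indep := fun i j k he => hindV i j k ?_
    mixing := ?_ }⟩
  · have this : π (n ^ i * z ^ j * u ^ k) = 1 := (QuotientGroup.eq_one_iff (N := frattini E) _).2 he
    simpa only [map_mul, map_zpow, hn, hπz, hu] using this
  · obtain ⟨i, j', m', e⟩ := hgenV (φ α z₀)
    obtain ⟨a₂, b₂, l, e₂⟩ := hgenV (φ α u₀)
    have hαB : ∀ v : V, φ α v ∈ B → v ∈ B := fun v hv => by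
      have := hBinv _ (inv_mem hα) _ hv
      rwa [map_inv, MulAut.inv_apply_self] at this
    have hαT : ∀ v : V, φ α v ∈ T → v ∈ T := fun v hv => by
      have := hTinv _ (inv_mem hα) _ hv
      rwa [map_inv, MulAut.inv_apply_self] at this
    have hαz : φ α z₀ ∉ C := by
      intro hmem
      refine hαc ?_
      have hcC : c ∈ C := mem_sup_left (mem_zpowers c)
      obtain ⟨i', b, hb, e'⟩ : ∃ i' : ℤ, ∃ b ∈ B, c = z₀ ^ i' * b := by
        obtain ⟨i', hi'⟩ := hCgen c hcC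
        refine ⟨i', _, hq.1 ?_, (mul_inv_cancel_left (z₀ ^ i') c).symm⟩
        rw [map_zpow, hqz₀, hi']
      rw [ha, e', map_mul, map_zpow]
      exact mul_mem (zpow_mem hmem i') (hBC (hBinv α hα b hb))
    refine ⟨α, hα, ?_⟩
    rcases hcase with ⟨hB, hT⟩ | ⟨hB, hT⟩
    · have huT := hu₀ hB
      have hm' : (p : ℤ) ∣ m' := by
        by_contra hnd
        obtain ⟨k, hk⟩ := solve_mod hnd 1
        refine huT ?_
        have h1 : u₀ ^ m' ∈ T := by
          have h0 := hTinv α hα z₀ (hCT hz₀C)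
          rw [← e] at h0
          exact (Subgroup.mul_mem_cancel_left _ (mul_mem (zpow_mem ha'T i) (zpow_mem (hCT hz₀C) j'))).1 h0
        have h2 := zpow_mem h1 k
        rwa [← zpow_mul, zpow_congr (hVexp u₀) hk, zpow_one] at h2
      have hz : a' ^ i * z₀ ^ j' * u₀ ^ (0 : ℤ) = φ α z₀ := by
        rw [← e, zpow_congr (i := m') (j := 0) (hVexp u₀) (by rwa [sub_zero])]
      have hi : ¬ (p : ℤ) ∣ i := fun hd => hαz (by
        rw [← hz, zpow_congr (i := i) (j := 0) (hVexp a') (by rwa [sub_zero]), zpow_zero, one_mul,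
          zpow_zero, mul_one]
        exact zpow_mem hz₀C _)
      have hl : ¬ (p : ℤ) ∣ l := fun hd => huT (hαT u₀ (by
        rw [← e₂, zpow_congr (i := l) (j := 0) (hVexp u₀) (by rwa [sub_zero]), zpow_zero, mul_one]
        exact mul_mem (zpow_mem ha'T _) (zpow_mem (hCT hz₀C) _)))
      refine ⟨i, j', 0, a₂, b₂, l, hcl.1 ?_, hcl.1 ?_, hi, fun hd => ?_⟩
      · rw [map_mul, map_mul, map_zpow, map_zpow, map_zpow, hn, hπz, hu, hz, ← hφ, hπz]
      · rw [map_mul, map_mul, map_zpow, map_zpow, map_zpow, hn, hπz, hu, e₂, ← hφ, hu]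
      · rw [zero_mul, sub_zero] at hd
        exact ((Nat.prime_iff_prime_int.1 hp.out).dvd_or_dvd hd).elim hi hl
    · obtain ⟨huB, hu1⟩ := hu₁ hT
      have hBu : B = zpowers u₀ := by
        refine (Subgroup.eq_of_le_of_card_ge (zpowers_le.2 huB) ?_).symm
        rw [hB, Nat.card_zpowers]
        exact (orderOf_eq_prime (hVexp u₀) hu1).ge
      obtain ⟨l', hl'⟩ := mem_zpowers_iff.1 (hBu.le (hBinv α hα u₀ huB))
      have hi : ¬ (p : ℤ) ∣ i := fun hd => hαz (by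
        rw [← e, zpow_congr (i := i) (j := 0) (hVexp a') (by rwa [sub_zero]), zpow_zero, one_mul]
        exact mul_mem (zpow_mem hz₀C _) (zpow_mem (hBC huB) _))
      refine ⟨i, j', m', 0, 0, l', hcl.1 ?_, hcl.1 ?_, hi, fun hd => ?_⟩
      · rw [map_mul, map_mul, map_zpow, map_zpow, map_zpow, hn, hπz, hu, e, ← hφ, hπz]
      · rw [map_mul, map_mul, map_zpow, map_zpow, map_zpow, zpow_zero, zpow_zero, one_mul, one_mul,
          hu, hl', ← hφ, hu]
      · rw [mul_zero, sub_zero] at hd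
        refine ((Nat.prime_iff_prime_int.1 hp.out).dvd_or_dvd hd).elim hi fun hd' => hu1 ?_
        rw [zpow_congr (j := 0) (hVexp u₀) (by rwa [sub_zero]), zpow_zero] at hl'
        exact (map_eq_one_iff _ (φ α).injective).1 hl'.symm

end CfsgLib.Fusion.RankThree
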